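import Cfsg.Agent.Lib.BlockReg.Regular
import Cfsg.Agent.Lib.Char.GaloisConj
import Cfsg.Agent.Lib.Char.Linear
import Mathlib.Algebra.CharP.Two

/-!
Block membership from `p`-regular classes, and real `2`-blocks of full defect.
-/

set_option autoImplicit false

open Cfsg CfsgLib.BlockReg
open scoped ComplexConjugate

namespace CfsgLib.BlockPrincipal

universe u

variable {G : Type u} [Group G] [Finite G] {p : ℕ} {M : Ideal Cfsg.AlgInt}

theorem centralChar_principal (g : G) :
    centralChar (fun _ : G => (1 : ℂ)) g = (csize g : ℂ) := by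
  simp [Cfsg.centralChar, csize]

theorem isPBlock_principal : IsPBlock M (principalBlock M G) :=
  ⟨CfsgLib.Char.principalIrr, rfl⟩

theorem principalIrr_mem (hM : IsPModular p M) :
    (CfsgLib.Char.principalIrr : IrrCharacter G) ∈ principalBlock M G :=
  sameBlock_refl hM _

/-- A block is determined by the central characters at `p`-regular elements. -/
theorem mem_of_regular_congr [Fact p.Prime] (hM : IsPModular p M) {B : Set (IrrCharacter G)}
    (hB : IsPBlock M B) {χ ξ : IrrCharacter G} (hχ : χ ∈ B)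
    (h : ∀ g : G, ¬ p ∣ orderOf g →
      MemLocalIdeal M (centralChar (ξ : G → ℂ) g - centralChar (χ : G → ℂ) g)) : ξ ∈ B := by
  classical
  let _ := Fintype.ofFinite G
  let _ := Fintype.ofFinite (ConjClasses G)
  by_contra hξ
  have h1 := (sum_blockCoeff_mul_char B χ).1 hχ
  have h0 := (sum_blockCoeff_mul_char B ξ).2 hξ
  rw [sum_mul_char_div _ _ (fun g h hgh => blockCoeff_congr B hgh)] at h1 h0
  have : MemLocalIdeal M ((0 : ℂ) - 1) := by
    conv => congr; · skip
            · rw [← h0, ← h1, ← Finset.sum_sub_distrib]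
    refine memIdeal_sum hM _ fun C _ => ?_
    by_cases hC : p ∣ orderOf C.out
    · rw [blockCoeff_singular hM hB _ hC, zero_mul, zero_mul, sub_zero]
      exact memIdeal_zero hM
    · rw [← mul_sub]
      exact memIdeal_mul_left hM (memRing_blockCoeff hM hB _) (h _ hC)
  exact not_memIdeal_one hM (by simpa using memIdeal_neg this)

/-- Parity: an involutive pairing leaves only its fixed points, modulo the ideal. -/
theorem sum_involution_memIdeal (hM : IsPModular 2 M) {ι : Type*} [Fintype ι]
    (f : ι → ℂ) (hf : ∀ i, MemLocalRing M (f i)) (σ : ι → ι) (hσ : Function.Involutive σ)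
    (hpair : ∀ i, MemLocalIdeal M (f (σ i) - f i)) (i₀ : ι) (hi₀ : σ i₀ = i₀)
    (hfix : ∀ i, σ i = i → i ≠ i₀ → MemLocalIdeal M (f i)) :
    MemLocalIdeal M ((∑ i, f i) - f i₀) := by
  classical
  let R := localSubring hM
  let I := localIdeal hM
  let F : ι → R := fun i => ⟨f i, hf i⟩
  have hmem : ∀ x : R, MemLocalIdeal M (x : ℂ) ↔ Ideal.Quotient.mk I x = 0 := fun x => by
    rw [Ideal.Quotient.eq_zero_iff_mem]; exact Iff.rfl
  have h2 : ∀ x : R ⧸ I, x + x = 0 := by
    intro x
    obtain ⟨x, rfl⟩ := Ideal.Quotient.mk_surjective x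
    rw [← map_add, ← hmem]
    show MemLocalIdeal M ((x : ℂ) + x)
    rw [← two_mul]
    exact memIdeal_mul_right hM (by exact_mod_cast (memIdeal_natCast_iff hM 2).2 dvd_rfl) x.2
  have hne : ∑ i ∈ Finset.univ.filter (fun i => σ i ≠ i), Ideal.Quotient.mk I (F i) = 0 := by
    refine Finset.sum_involution (fun i _ => σ i) (fun i _ => ?_)
      (fun i hi _ => (Finset.mem_filter.1 hi).2) (fun i hi => ?_) (fun i _ => hσ i)
    · have : Ideal.Quotient.mk I (F (σ i)) = Ideal.Quotient.mk I (F i) := by
        rw [← sub_eq_zero, ← map_sub, ← hmem]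
        exact hpair i
      rw [this, h2]
    · rw [Finset.mem_filter]
      exact ⟨Finset.mem_univ _, fun h => (Finset.mem_filter.1 hi).2 (hσ.injective h)⟩
  have heq : ∑ i ∈ Finset.univ.filter (fun i => ¬ σ i ≠ i), Ideal.Quotient.mk I (F i) =
      Ideal.Quotient.mk I (F i₀) := by
    refine Finset.sum_eq_single_of_mem i₀ (by simp [hi₀]) fun i hi hne' => ?_
    rw [← hmem]
    exact hfix i (not_not.1 (Finset.mem_filter.1 hi).2) hne'
  have := hmem ((∑ i, F i) - F i₀)
  rw [map_sub, map_sum, ← Finset.sum_filter_add_sum_filter_not Finset.univ (fun i => σ i ≠ i)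
    (fun i => Ideal.Quotient.mk I (F i)), hne, heq, zero_add, sub_self] at this
  simpa [F] using this.2 rfl

theorem card_sub_one_coprime (n : ℕ) (hn : 0 < n) : (n - 1).Coprime n := by
  obtain ⟨m, rfl⟩ : ∃ m, n = m + 1 := ⟨n - 1, by omega⟩
  simp

/-- The complex conjugate of an irreducible character. -/
noncomputable def conjIrr (χ : IrrCharacter G) : IrrCharacter G :=
  CfsgLib.CharGalois.powIrr (card_sub_one_coprime _ Nat.card_pos) χ

theorem conjIrr_apply (χ : IrrCharacter G) (g : G) :
    (conjIrr χ : G → ℂ) g = (χ : G → ℂ) g⁻¹ := by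
  show (χ : G → ℂ) (g ^ (Nat.card G - 1)) = _
  refine congrArg (χ : G → ℂ) ?_
  rw [eq_inv_iff_mul_eq_one, ← pow_succ, Nat.sub_add_cancel Nat.card_pos, pow_card_eq_one']

theorem conjIrr_involutive : Function.Involutive (conjIrr (G := G)) := fun χ =>
  Subtype.ext <| funext fun g => by rw [conjIrr_apply, conjIrr_apply, inv_inv]

theorem centralChar_conjIrr (χ : IrrCharacter G) (g : G) :
    centralChar (conjIrr χ : G → ℂ) g = centralChar (χ : G → ℂ) g⁻¹ := by
  rw [centralChar_eq, centralChar_eq, conjIrr_apply, conjIrr_apply, csize_inv, inv_one]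

theorem even_csize_of_isConj_inv {g : G} (hg : ¬ 2 ∣ orderOf g) (hne : g ≠ 1)
    (hreal : IsConj g g⁻¹) : 2 ∣ csize g := by
  classical
  let _ := Fintype.ofFinite G
  rw [csize, CfsgLib.Char.index_centralizer_eq_card_isConj, Nat.card_eq_fintype_card,
    ← ZMod.natCast_eq_zero_iff]
  rw [← Finset.card_univ, Finset.card_eq_sum_ones, Nat.cast_sum, Nat.cast_one]
  have hinv : ∀ x : G, IsConj g x → IsConj g x⁻¹ := by
    intro x hx
    obtain ⟨c, hc⟩ := isConj_iff.1 hx
    refine hreal.trans (isConj_iff.2 ⟨c, ?_⟩)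
    rw [← hc]; group
  refine Finset.sum_involution (fun x _ => ⟨x.1⁻¹, hinv _ x.2⟩) (fun _ _ => by decide)
    (fun x _ _ hx => ?_) (fun _ _ => Finset.mem_univ _) (fun x _ => Subtype.ext (inv_inv _))
  have h2 : x.1⁻¹ = x.1 := congrArg Subtype.val hx
  obtain ⟨c, hc⟩ := isConj_iff.1 x.2
  have ho : orderOf x.1 = orderOf g := by rw [← hc]; exact MulEquiv.orderOf_eq (MulAut.conj c) g
  have hsq : x.1 ^ 2 = 1 := by rw [pow_two]; nth_rewrite 1 [← h2]; exact inv_mul_cancel _
  have hd := orderOf_dvd_of_pow_eq_one hsq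
  rcases (Nat.dvd_prime Nat.prime_two).1 hd with h1 | h1
  · rw [ho, orderOf_eq_one_iff] at h1; exact hne h1
  · rw [ho] at h1; exact hg (h1 ▸ dvd_rfl)

/-- A `2`-block of full defect whose central character is inversion invariant on `2`-regular
classes is the principal block. -/
theorem eq_principalBlock_of_real (hM : IsPModular 2 M) {B : Set (IrrCharacter G)}
    (hB : IsPBlock M B) (hfull : minExp 2 B = 0)
    (hreal : ∀ χ ∈ B, ∀ g : G, ¬ 2 ∣ orderOf g →
      MemLocalIdeal M (centralChar (χ : G → ℂ) g⁻¹ - centralChar (χ : G → ℂ) g)) :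
    B = principalBlock M G := by
  classical
  haveI : Fact (Nat.Prime 2) := ⟨Nat.prime_two⟩
  let _ := Fintype.ofFinite G
  let _ := Fintype.ofFinite (ConjClasses G)
  have hconj : ∀ χ ∈ B, conjIrr χ ∈ B := fun χ hχ =>
    mem_of_regular_congr hM hB hχ fun g hg => by
      rw [centralChar_conjIrr]; exact hreal χ hχ g hg
  have hainv : ∀ g : G, blockCoeff B g⁻¹ = blockCoeff B g := by
    intro g
    unfold blockCoeff
    congr 1
    refine finsum_mem_eq_of_bijOn conjIrr
      ⟨hconj, conjIrr_involutive.injective.injOn,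
        fun χ hχ => ⟨conjIrr χ, hconj χ hχ, conjIrr_involutive χ⟩⟩ fun χ _ => ?_
    rw [conjIrr_apply, conjIrr_apply, inv_one]
  obtain ⟨χ, hχ, hdeg⟩ := exists_minExp (p := 2) (block_nonempty hM hB)
  rw [hfull] at hdeg
  let σ : ConjClasses G → ConjClasses G := fun C => ConjClasses.mk C.out⁻¹
  have hout : ∀ g : G, IsConj (ConjClasses.mk g).out g := fun g =>
    ConjClasses.mk_eq_mk_iff_isConj.1 (Quotient.out_eq (ConjClasses.mk g))
  have hσout : ∀ C : ConjClasses G, IsConj (σ C).out C.out⁻¹ := fun C => hout _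
  have hinv : ∀ {a b : G}, IsConj a b → IsConj a⁻¹ b⁻¹ := by
    intro a b hab
    obtain ⟨c, hc⟩ := isConj_iff.1 hab
    exact isConj_iff.2 ⟨c, by rw [← hc]; group⟩
  have hmk : ∀ C : ConjClasses G, ConjClasses.mk C.out = C := fun C => Quotient.out_eq C
  have hσ : Function.Involutive σ := fun C => by
    conv_rhs => rw [← hmk C]
    rw [ConjClasses.mk_eq_mk_iff_isConj]
    simpa using hinv (hσout C)
  have hone : (ConjClasses.mk (1 : G)).out = 1 := by
    obtain ⟨c, hc⟩ := isConj_iff.1 (hout 1).symm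
    rw [← hc]; group
  have hσ1 : σ (ConjClasses.mk 1) = ConjClasses.mk 1 := by simp [σ, hone]
  have key : ∀ ξ : IrrCharacter G, (charDegree (ξ : G → ℂ)).factorization 2 = 0 →
      (∀ g : G, ¬ 2 ∣ orderOf g →
        MemLocalIdeal M (centralChar (ξ : G → ℂ) g⁻¹ - centralChar (ξ : G → ℂ) g)) →
      MemLocalIdeal M ((∑ g, blockCoeff B g * (ξ : G → ℂ) g) / (ξ : G → ℂ) 1 - blockCoeff B 1) := by
    intro ξ hdξ hrξ
    rw [sum_mul_char_div _ _ (fun g h hgh => blockCoeff_congr B hgh)]
    have := sum_involution_memIdeal hM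
      (fun C : ConjClasses G => blockCoeff B C.out * centralChar (ξ : G → ℂ) C.out)
      (fun C => memRing_mul hM (memRing_blockCoeff hM hB _) (memRing_centralChar hM ξ _))
      σ hσ ?_ _ hσ1 ?_
    · simpa [hone, centralChar_one] using this
    · intro C
      rw [blockCoeff_congr B (hσout C), centralChar_congr_isConj ξ (hσout C), hainv, ← mul_sub]
      by_cases hC : 2 ∣ orderOf C.out
      · rw [blockCoeff_singular hM hB _ hC, zero_mul]; exact memIdeal_zero hM
      · exact memIdeal_mul_left hM (memRing_blockCoeff hM hB _) (hrξ _ hC)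
    · intro C hC hne
      by_cases h2 : 2 ∣ orderOf C.out
      · rw [blockCoeff_singular hM hB _ h2, zero_mul]; exact memIdeal_zero hM
      · refine memIdeal_mul_left hM (memRing_blockCoeff hM hB _) (centralChar_memIdeal hM ξ _ ?_)
        rw [hdξ]
        refine Nat.prime_two.factorization_pos_of_dvd (csize_ne_zero _) ?_
        refine even_csize_of_isConj_inv h2 (fun h => hne ?_) ?_
        · rw [← hmk C, h]
        · have := hσout C
          rwa [hC] at this
  by_contra hne
  have h1 := key χ hdeg (hreal χ hχ)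
  rw [(sum_blockCoeff_mul_char B χ).1 hχ] at h1
  have hnp : (CfsgLib.Char.principalIrr : IrrCharacter G) ∉ B := fun h => hne <| by
    rw [block_eq_blockOf hM hB h]; rfl
  have h0 := key CfsgLib.Char.principalIrr (by simp [Cfsg.charDegree, CfsgLib.Char.principalIrr_apply])
    (fun g _ => by
      rw [centralChar_eq, centralChar_eq, csize_inv, CfsgLib.Char.principalIrr_apply,
        CfsgLib.Char.principalIrr_apply, CfsgLib.Char.principalIrr_apply, sub_self]
      exact memIdeal_zero hM)
  rw [(sum_blockCoeff_mul_char B CfsgLib.Char.principalIrr).2 hnp] at h0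
  exact not_memIdeal_one hM (by simpa using memIdeal_sub hM h1 h0)

/-- Values at an involution are congruent to the degree mod `M`. -/
theorem sub_deg_memIdeal_involution (hM : IsPModular 2 M) (χ : IrrCharacter G) {t : G}
    (ht : t ^ 2 = 1) : MemLocalIdeal M ((χ : G → ℂ) t - (χ : G → ℂ) 1) := by
  obtain ⟨n, ρ, -, hρ⟩ := χ.2
  obtain ⟨μ, hμ, -, -, hpow⟩ := CfsgLib.Char.exists_eigenvalues ρ t
  have h1 := hpow 1
  have h0 := hpow 0
  simp only [pow_one, pow_zero] at h1 h0
  rw [← hρ, h1, h0, ← Finset.sum_sub_distrib]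
  refine memIdeal_sum hM _ fun i _ => memIdeal_sub_one_of_pow_p hM ?_
  obtain ⟨c, hc⟩ := orderOf_dvd_of_pow_eq_one ht
  rw [hc, pow_mul, hμ, one_pow]

end CfsgLib.BlockPrincipal
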