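import Mathlib.GroupTheory.Sylow
import Mathlib.RingTheory.RootsOfUnity.Complex
import Mathlib.Analysis.Complex.Basic

/-!
# Orbits of the normalizer on the sign characters of a subgroup
-/

set_option autoImplicit false

namespace CfsgLib.RealOdd2

universe u v

variable {G : Type u} [Group G]

/-- Conjugation inside a normalized subgroup. -/
def cN (P : Subgroup G) (n : Subgroup.normalizer (P : Set G)) (x : P) : P :=
  ⟨(n : G) * x * (n : G)⁻¹, (Subgroup.mem_normalizer_iff.1 n.2 x).1 x.2⟩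

theorem cN_one (P : Subgroup G) (x : P) : cN P 1 x = x := Subtype.ext (by simp [cN])

theorem cN_mul (P : Subgroup G) (a b : Subgroup.normalizer (P : Set G)) (x : P) :
    cN P (a * b) x = cN P a (cN P b x) := Subtype.ext (by simp [cN, mul_assoc])

/-- Homomorphisms into the signs. -/
def Dual (P : Subgroup G) : Type u := {δ : ↥P →* ℂˣ // ∀ x, δ x * δ x = 1}

/-- Conjugate by an element of the normalizer. -/
@[reducible] def orbS (P : Subgroup G) : Setoid (Dual P) where
  r δ δ' := ∃ n : Subgroup.normalizer (P : Set G), ∀ x : P, δ'.1 x = δ.1 (cN P n x)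
  iseqv := ⟨fun δ => ⟨1, fun x => by rw [cN_one]⟩,
    fun {δ δ'} ⟨n, hn⟩ => ⟨n⁻¹, fun x => by rw [hn, ← cN_mul, mul_inv_cancel, cN_one]⟩,
    fun {δ δ' δ''} ⟨n, hn⟩ ⟨n', hn'⟩ => ⟨n * n', fun x => by rw [hn', hn, cN_mul]⟩⟩

/-- The orbits that meet a set of sign characters. -/
def Orb (P : Subgroup G) (Pr : Dual P → Prop) : Type u :=
  Quotient (Setoid.comap (Subtype.val : {δ : Dual P // Pr δ} → Dual P) (orbS P))

theorem card_orb_congr_pred (P : Subgroup G) {Pr Pr' : Dual P → Prop} (h : ∀ δ, Pr δ ↔ Pr' δ) :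
    Nat.card (Orb P Pr) = Nat.card (Orb P Pr') := by
  rw [funext fun δ => propext (h δ)]

/-- The normalizer of a Sylow subgroup maps onto the normalizer of its image. -/
theorem map_normalizer_sylow [Finite G] {p : ℕ} [Fact p.Prime] {G' : Type v} [Group G']
    (f : G →* G') (hf : Function.Surjective f) (P : Sylow p G) :
    (Subgroup.normalizer ((P : Subgroup G) : Set G)).map f =
      Subgroup.normalizer ((((P : Subgroup G).map f) : Subgroup G') : Set G') := by
  refine le_antisymm (Subgroup.le_normalizer_map f) fun y hy => ?_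
  obtain ⟨g, rfl⟩ := hf y
  set L := ((P : Subgroup G).map f).comap f with hL
  have hPL : (P : Subgroup G) ≤ L := Subgroup.le_comap_map f _
  have hgP : ((g • P : Sylow p G) : Subgroup G) ≤ L := by
    intro x hx
    rw [Sylow.coe_subgroup_smul, Subgroup.mem_pointwise_smul_iff_inv_smul_mem] at hx
    have h1 : f (g⁻¹ * x * g) ∈ (P : Subgroup G).map f :=
      ⟨g⁻¹ * x * g, by
        simp only [MulAut.smul_def, MulAut.conj_inv_apply] at hx
        exact hx, rfl⟩
    have h2 := (Subgroup.mem_normalizer_iff.1 hy _).1 h1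
    simpa [hL, mul_assoc] using h2
  obtain ⟨k, hk⟩ := MulAction.exists_smul_eq L ((g • P).subtype hgP) (P.subtype hPL)
  have hkg : ((k : G) * g) • P = P := by
    rw [mul_smul]
    have hle : (((k : G) • g • P : Sylow p G) : Subgroup G) ≤ L := by
      intro x hx
      rw [Sylow.coe_subgroup_smul, Subgroup.mem_pointwise_smul_iff_inv_smul_mem] at hx
      have h1 := hgP hx
      simp only [MulAut.smul_def, MulAut.conj_inv_apply] at h1
      simpa [mul_assoc] using L.mul_mem (L.mul_mem k.2 h1) (L.inv_mem k.2)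
    refine Sylow.subtype_injective (hP := hle) (hQ := hPL) ?_
    rw [← hk]
    exact (Sylow.smul_subtype hgP k).symm
  have hmem : (k : G) * g ∈ Subgroup.normalizer ((P : Subgroup G) : Set G) :=
    Sylow.smul_eq_iff_mem_normalizer.1 hkg
  obtain ⟨x, hx, hfx⟩ := (k.2 : f (k : G) ∈ (P : Subgroup G).map f)
  refine ⟨x⁻¹ * ((k : G) * g), Subgroup.mul_mem _ (Subgroup.inv_mem _ (Subgroup.le_normalizer hx)) hmem, ?_⟩
  rw [map_mul, map_inv, hfx, map_mul, inv_mul_cancel_left]

/-- Orbits in an image. -/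
theorem card_orb_map {G' : Type u} [Group G'] (f : G →* G') (P : Subgroup G)
    (hN : (Subgroup.normalizer (P : Set G)).map f = Subgroup.normalizer ((P.map f : Subgroup G') : Set G')) :
    Nat.card (Orb (P.map f) fun _ => True) =
      Nat.card (Orb P fun δ => ∀ x : P, f x = 1 → δ.1 x = 1) := by
  let π : P →* P.map f := f.subgroupMap P
  have hπ : Function.Surjective π := f.subgroupMap_surjective P
  have hlift : ∀ (g : {g : ↥P →* ℂˣ // π.ker ≤ g.ker}) (x : P),
      π.liftOfSurjective hπ g (π x) = g.1 x :=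
    fun g x => π.liftOfRightInverse_comp_apply _ _ g x
  let e : {δ : Dual (P.map f) // True} ≃
      {δ : Dual P // ∀ x : P, f x = 1 → δ.1 x = 1} :=
    { toFun := fun δ => ⟨⟨δ.1.1.comp π, fun x => δ.1.2 (π x)⟩, fun x hx => by
        show δ.1.1 (π x) = 1
        rw [show π x = 1 from Subtype.ext hx, map_one]⟩
      invFun := fun δ => ⟨⟨π.liftOfSurjective hπ ⟨δ.1.1, fun x hx =>
          δ.2 x (congrArg Subtype.val hx)⟩, fun y => by
          obtain ⟨x, rfl⟩ := hπ y
          rw [hlift]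
          exact δ.1.2 x⟩, trivial⟩
      left_inv := fun δ => Subtype.ext (Subtype.ext (MonoidHom.ext fun y => by
        obtain ⟨x, rfl⟩ := hπ y
        simp [hlift]))
      right_inv := fun δ => Subtype.ext (Subtype.ext (MonoidHom.ext fun x => by
        simp [hlift])) }
  refine Nat.card_congr (Quotient.congr e fun a b => ?_)
  constructor
  · rintro ⟨n, hn⟩
    have hmem : (n : G') ∈ (Subgroup.normalizer (P : Set G)).map f := by rw [hN]; exact n.2
    obtain ⟨m, hm, hmn⟩ := hmem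
    refine ⟨⟨m, hm⟩, fun x => ?_⟩
    show b.1.1 (π x) = a.1.1 (π (cN P ⟨m, hm⟩ x))
    rw [hn (π x)]
    exact congrArg a.1.1 (Subtype.ext (by simp [π, cN, hmn]))
  · rintro ⟨n, hn⟩
    refine ⟨⟨f n, by rw [← hN]; exact Subgroup.mem_map_of_mem f n.2⟩, fun y => ?_⟩
    obtain ⟨x, rfl⟩ := hπ y
    have h := hn x
    change b.1.1 (π x) = a.1.1 (π (cN P n x)) at h
    rw [h]
    exact congrArg a.1.1 (Subtype.ext (by simp [π, cN]))

/-- Orbits inside a subgroup containing the stabilizer. -/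
theorem card_orb_subgroupOf (P T : Subgroup G) (hPT : P ≤ T) (Pr : Dual P → Prop)
    (Pr' : Dual (P.subgroupOf T) → Prop)
    (hPr : ∀ δ δ', (∀ x : P.subgroupOf T, δ'.1 x = δ.1 (Subgroup.subgroupOfEquivOfLe hPT x)) →
      (Pr δ ↔ Pr' δ'))
    (hstab : ∀ δ δ' : Dual P, Pr δ → Pr δ' → ∀ n : Subgroup.normalizer (P : Set G),
      (∀ x : P, δ'.1 x = δ.1 (cN P n x)) → (n : G) ∈ T) :
    Nat.card (Orb P Pr) = Nat.card (Orb (P.subgroupOf T) Pr') := by
  let i : P.subgroupOf T ≃* P := Subgroup.subgroupOfEquivOfLe hPT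
  let e : {δ : Dual P // Pr δ} ≃ {δ : Dual (P.subgroupOf T) // Pr' δ} :=
    { toFun := fun δ => ⟨⟨δ.1.1.comp i.toMonoidHom, fun x => δ.1.2 (i x)⟩,
        (hPr δ.1 _ fun x => rfl).1 δ.2⟩
      invFun := fun δ => ⟨⟨δ.1.1.comp i.symm.toMonoidHom, fun x => δ.1.2 (i.symm x)⟩,
        (hPr _ δ.1 fun x => by simp [i]).2 δ.2⟩
      left_inv := fun δ => Subtype.ext (Subtype.ext (MonoidHom.ext fun x => by simp))
      right_inv := fun δ => Subtype.ext (Subtype.ext (MonoidHom.ext fun x => by simp)) }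
  refine Nat.card_congr (Quotient.congr e fun a b => ?_)
  constructor
  · rintro ⟨n, hn⟩
    have hT : (n : G) ∈ T := hstab a.1 b.1 a.2 b.2 n hn
    have hn' : (⟨(n : G), hT⟩ : T) ∈
        Subgroup.normalizer ((P.subgroupOf T : Subgroup T) : Set T) := by
      rw [Subgroup.mem_normalizer_iff]
      intro y
      exact Subgroup.mem_normalizer_iff.1 n.2 (y : G)
    refine ⟨⟨_, hn'⟩, fun x => ?_⟩
    show b.1.1 (i x) = a.1.1 (i (cN _ _ x))
    rw [hn (i x)]
    exact congrArg a.1.1 (Subtype.ext rfl)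
  · rintro ⟨n, hn⟩
    have hn' : ((n : T) : G) ∈ Subgroup.normalizer (P : Set G) := by
      rw [Subgroup.mem_normalizer_iff]
      intro y
      constructor
      · intro hy
        exact (Subgroup.mem_normalizer_iff.1 n.2 ⟨y, hPT hy⟩).1 hy
      · intro hy
        have hyT : y ∈ T := by
          have := T.mul_mem (T.mul_mem (T.inv_mem (n : T).2) (hPT hy)) (n : T).2
          simpa [mul_assoc] using this
        exact (Subgroup.mem_normalizer_iff.1 n.2 ⟨y, hyT⟩).2 hy
    refine ⟨⟨_, hn'⟩, fun x => ?_⟩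
    have h := hn (i.symm x)
    change b.1.1 (i (i.symm x)) = a.1.1 (i (cN _ n (i.symm x))) at h
    rw [MulEquiv.apply_symm_apply] at h
    rw [h]
    exact congrArg a.1.1 (Subtype.ext rfl)

/-- Multiplication by a sign character of the whole group. -/
theorem card_orb_mul (P : Subgroup G) (μ : G →* ℂˣ) (hμ : ∀ g, μ g * μ g = 1)
    (Pr Pr' : Dual P → Prop)
    (hPr : ∀ δ δ' : Dual P, (∀ x, δ'.1 x = δ.1 x * μ x) → (Pr δ ↔ Pr' δ')) :
    Nat.card (Orb P Pr) = Nat.card (Orb P Pr') := by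
  let t : Dual P → Dual P := fun δ => ⟨δ.1 * μ.comp P.subtype, fun x => by
    simp only [MonoidHom.mul_apply, MonoidHom.comp_apply]
    rw [mul_mul_mul_comm, δ.2 x]
    simp [hμ]⟩
  have htt : ∀ δ, t (t δ) = δ := fun δ => Subtype.ext (MonoidHom.ext fun x => by
    simp [t, mul_assoc, hμ])
  let e : {δ : Dual P // Pr δ} ≃ {δ : Dual P // Pr' δ} :=
    { toFun := fun δ => ⟨t δ.1, (hPr δ.1 _ fun x => rfl).1 δ.2⟩
      invFun := fun δ => ⟨t δ.1, (hPr (t δ.1) δ.1 fun x => by
        simp [t, mul_assoc, hμ]).2 δ.2⟩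
      left_inv := fun δ => Subtype.ext (htt δ.1)
      right_inv := fun δ => Subtype.ext (htt δ.1) }
  have hconj : ∀ (n : Subgroup.normalizer (P : Set G)) (x : P), μ (cN P n x : G) = μ x := by
    intro n x
    show μ ((n : G) * x * (n : G)⁻¹) = μ x
    rw [map_mul, map_mul, map_inv, mul_comm (μ (n : G)), mul_inv_cancel_right]
  refine Nat.card_congr (Quotient.congr e fun a b => ?_)
  constructor
  · rintro ⟨n, hn⟩
    refine ⟨n, fun x => ?_⟩
    show b.1.1 x * μ x = a.1.1 (cN P n x) * μ (cN P n x : G)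
    rw [hn, hconj]
  · rintro ⟨n, hn⟩
    refine ⟨n, fun x => ?_⟩
    have h : b.1.1 x * μ x = a.1.1 (cN P n x) * μ (cN P n x : G) := hn x
    rw [hconj] at h
    exact mul_right_cancel h

/-- Decomposition along a map into classes. -/
theorem card_orb_sigma (P : Subgroup G) {Cl : Type u} [Finite Cl] [Finite (Dual P)]
    (cls : Dual P → Cl) (hcls : ∀ δ δ', (orbS P).r δ δ' → cls δ = cls δ') (Pr : Cl → Dual P → Prop)
    (hPr : ∀ c δ, Pr c δ → cls δ = c) (hex : ∀ δ, ∃ δ', (orbS P).r δ δ' ∧ Pr (cls δ) δ') :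
    Nat.card (Orb P fun _ => True) = ∑ᶠ c : Cl, Nat.card (Orb P (Pr c)) := by
  haveI := Fintype.ofFinite Cl
  haveI : ∀ c, Finite (Orb P (Pr c)) := fun c => Quotient.finite _
  rw [finsum_eq_sum_of_fintype, ← Nat.card_sigma]
  symm
  refine Nat.card_eq_of_bijective
    (fun x : Σ c, Orb P (Pr c) => (Quotient.map (fun δ => (⟨δ.1, trivial⟩ : {δ : Dual P // True}))
      (fun a b h => h) x.2 : Orb P fun _ => True)) ⟨?_, ?_⟩
  · rintro ⟨c, q⟩ ⟨c', q'⟩ h
    induction q using Quotient.inductionOn with | h a =>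
    induction q' using Quotient.inductionOn with | h b =>
    simp only [Quotient.map_mk] at h
    have hab' := Quotient.exact h
    have hab : (orbS P).r a.1 b.1 := hab'
    have hc : c = c' := (hPr c a.1 a.2).symm.trans ((hcls _ _ hab).trans (hPr c' b.1 b.2))
    subst hc
    exact congrArg (Sigma.mk c) (Quotient.sound hab)
  · intro q
    induction q using Quotient.inductionOn with | h a =>
    obtain ⟨δ', hr, hp⟩ := hex a.1
    exact ⟨⟨cls a.1, Quotient.mk _ ⟨δ', hp⟩⟩, Quotient.sound ((orbS P).iseqv.symm hr)⟩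

end CfsgLib.RealOdd2
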