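import Cfsg.Agent.Lib.BlockReg.Height
import Cfsg.Agent.Lib.Char.Linear
import Mathlib.GroupTheory.PGroup

/-!
Membership of the principal block through the sum over `p`-regular elements.
-/

set_option autoImplicit false

open Cfsg CfsgLib.BlockReg
open scoped ComplexConjugate

namespace CfsgLib.BlockPrincipal

universe u v

variable {G : Type u} [Group G] {p : ℕ} {M : Ideal Cfsg.AlgInt}

/-- The sum of a function over the `p`-regular elements. -/
noncomputable def regSum [Fintype G] (p : ℕ) (f : G → ℂ) : ℂ :=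
  ∑ x ∈ Finset.univ.filter (fun x : G => ¬ p ∣ orderOf x), f x

theorem regSum_inv [Fintype G] (p : ℕ) (f : G → ℂ) :
    regSum p (fun x => f x⁻¹) = regSum p f := by
  refine Finset.sum_equiv (Equiv.inv G) (fun x => ?_) (fun x _ => rfl)
  simp [orderOf_inv]

theorem rInner_principal [Fintype G] (p : ℕ) (χ : IrrCharacter G) :
    rInner p ((CfsgLib.Char.principalIrr : IrrCharacter G) : G → ℂ) (χ : G → ℂ) =
      pUnit p G * (regSum p (χ : G → ℂ) / (χ : G → ℂ) 1) := by
  rw [rInner, classInner, pUnit, ← regSum_inv, regSum, Finset.sum_filter, ← mul_div_assoc]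
  congr 1
  rw [div_eq_mul_inv, Finset.mul_sum, Finset.mul_sum]
  refine Finset.sum_congr rfl fun x _ => ?_
  rw [char_inv]
  unfold tilde
  by_cases h : p ∣ orderOf x
  · rw [if_pos h, if_neg (not_not.2 h)]; simp
  · rw [if_neg h, if_pos h, CfsgLib.Char.principalIrr_apply]; ring

theorem memRing_regSum_div [Fintype G] (hM : IsPModular p M) (χ : IrrCharacter G) :
    MemLocalRing M (regSum p (χ : G → ℂ) / (χ : G → ℂ) 1) := by
  obtain ⟨h1, h2⟩ := pUnit_spec (G := G) hM
  have h3 := memRing_mul hM (memRing_inv hM h1 h2)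
    (rInner_memRing hM (CfsgLib.Char.principalIrr : IrrCharacter G) χ)
  rwa [rInner_principal, ← mul_assoc, inv_mul_cancel₀ (ne_zero_of_not_memIdeal hM h2), one_mul] at h3

/-- A character lies in the principal block iff its normalised regular sum is a unit mod `M`. -/
theorem mem_principal_iff [Fintype G] [Fact p.Prime] (hM : IsPModular p M) (χ : IrrCharacter G) :
    χ ∈ principalBlock M G ↔ ¬ MemLocalIdeal M (regSum p (χ : G → ℂ) / (χ : G → ℂ) 1) := by
  obtain ⟨h1, h2⟩ := pUnit_spec (G := G) hM
  have hB : IsPBlock M (principalBlock M G) := ⟨CfsgLib.Char.principalIrr, rfl⟩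
  have hp0 : (CfsgLib.Char.principalIrr : IrrCharacter G) ∈ principalBlock M G := sameBlock_refl hM _
  constructor
  · intro hχ h
    refine rInner_not_memIdeal hM hB hp0 hχ ?_ ?_
    · have := minExp_le (p := p) hp0
      simp [Cfsg.charDegree, CfsgLib.Char.principalIrr_apply] at this ⊢
      omega
    · rw [rInner_principal]
      exact memIdeal_mul_left hM h1 h
  · intro h
    by_contra hχ
    have h0 := classInner_tilde_eq_zero hM hB hp0 hχ
    have : rInner p ((CfsgLib.Char.principalIrr : IrrCharacter G) : G → ℂ) (χ : G → ℂ) = 0 := by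
      rw [rInner, h0, zero_div]
    rw [rInner_principal] at this
    exact h (by rw [(mul_eq_zero.1 this).resolve_left (ne_zero_of_not_memIdeal hM h2)]
                exact memIdeal_zero hM)

/-- For a `p'`-degree character the regular sum itself decides. -/
theorem mem_principal_iff_of_not_dvd [Fintype G] [Fact p.Prime] (hM : IsPModular p M)
    (χ : IrrCharacter G) (hdeg : ¬ p ∣ charDegree (χ : G → ℂ)) :
    χ ∈ principalBlock M G ↔ ¬ MemLocalIdeal M (regSum p (χ : G → ℂ)) := by
  rw [mem_principal_iff hM]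
  refine not_congr ⟨fun h => ?_, fun h => ?_⟩
  · have := memIdeal_mul_right hM h (memRing_natCast hM (charDegree (χ : G → ℂ)))
    rwa [deg_cast, div_mul_cancel₀ _ (deg_ne_zero χ)] at this
  · rw [div_eq_mul_inv, ← deg_cast]
    exact memIdeal_mul_right hM h (memRing_inv_natCast hM hdeg)

/-- Orbit congruence: a sum of an invariant function agrees with the sum over the fixed points. -/
theorem sum_fixedPoints_memIdeal [Fact p.Prime] (hM : IsPModular p M) {P : Type v} [Group P]
    [Finite P] (hP : IsPGroup p P) {α : Type*} [MulAction P α] (s : Finset α)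
    (hs : ∀ (a : P), ∀ x ∈ s, a • x ∈ s) (f : α → ℂ) (hf : ∀ x ∈ s, MemLocalRing M (f x))
    (hinv : ∀ (a : P), ∀ x ∈ s, f (a • x) = f x) [DecidablePred fun x : α => ∀ a : P, a • x = x] :
    MemLocalIdeal M (∑ x ∈ s, f x - ∑ x ∈ s.filter (fun x => ∀ a : P, a • x = x), f x) := by
  classical
  have hfib : ∀ t : Finset α, ∑ x ∈ t, f x =
      ∑ c ∈ t.image f, ((t.filter fun x => f x = c).card : ℂ) * c := by
    intro t
    rw [← Finset.sum_fiberwise_of_maps_to (fun x hx => Finset.mem_image_of_mem f hx)]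
    refine Finset.sum_congr rfl fun c _ => ?_
    rw [Finset.sum_congr rfl fun x hx => (Finset.mem_filter.1 hx).2, Finset.sum_const, nsmul_eq_mul]
  set t := s.filter (fun x => ∀ a : P, a • x = x)
  have hsub : t.image f ⊆ s.image f := Finset.image_subset_image (Finset.filter_subset _ _)
  rw [hfib s, hfib t, Finset.sum_subset hsub (fun c _ hc => by
    rw [Finset.card_eq_zero.2 (Finset.filter_eq_empty_iff.2 fun x hx h =>
      hc (Finset.mem_image.2 ⟨x, hx, h⟩)), Nat.cast_zero, zero_mul]), ← Finset.sum_sub_distrib]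
  refine memIdeal_sum hM _ fun c hc => ?_
  obtain ⟨x₀, hx₀, rfl⟩ := Finset.mem_image.1 hc
  rw [← sub_mul]
  refine memIdeal_mul_right hM ?_ (hf x₀ hx₀)
  set S := {x : α // x ∈ s ∧ f x = f x₀}
  let _ : MulAction P S :=
    { smul := fun a x => ⟨a • x.1, hs a x.1 x.2.1, (hinv a x.1 x.2.1).trans x.2.2⟩
      one_smul := fun x => Subtype.ext (one_smul P x.1)
      mul_smul := fun a b x => Subtype.ext (mul_smul a b x.1) }
  have : Finite S := Finite.of_injective (fun x : S => (⟨x.1, x.2.1⟩ : s))
    fun a b h => Subtype.ext (congrArg (fun z : s => (z : α)) h)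
  have hmod := hP.card_modEq_card_fixedPoints S
  have h1 : Nat.card S = (s.filter fun x => f x = f x₀).card := by
    rw [← Nat.card_eq_finsetCard]
    exact Nat.card_congr (Equiv.subtypeEquivRight fun x => by simp)
  have h2 : Nat.card (MulAction.fixedPoints P S) = (t.filter fun x => f x = f x₀).card := by
    rw [← Nat.card_eq_finsetCard]
    refine Nat.card_congr ⟨fun x => ⟨x.1.1, Finset.mem_filter.2 ⟨Finset.mem_filter.2
        ⟨x.1.2.1, fun a => congrArg Subtype.val (x.2 a)⟩, x.1.2.2⟩⟩,
      fun x => ⟨⟨x.1, (Finset.mem_filter.1 (Finset.mem_filter.1 x.2).1).1,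
        (Finset.mem_filter.1 x.2).2⟩,
        fun a => Subtype.ext ((Finset.mem_filter.1 (Finset.mem_filter.1 x.2).1).2 a)⟩,
      fun _ => rfl, fun _ => rfl⟩
  rw [h1, h2, ← Int.natCast_modEq_iff, Int.modEq_iff_dvd] at hmod
  have := memIdeal_neg ((memIdeal_intCast_iff hM _).2 hmod)
  push_cast at this
  simpa using this

/-- Regular sums reduce to the elements centralised by a `p`-subgroup. -/
theorem regSum_sub_centralized [Fintype G] [Fact p.Prime] (hM : IsPModular p M) (P : Subgroup G)
    (hP : IsPGroup p P) (f : G → ℂ) (hf : ∀ x, MemLocalRing M (f x))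
    (hinv : ∀ u ∈ P, ∀ x, f (u * x * u⁻¹) = f x)
    [DecidablePred fun x : G => x ∈ Subgroup.centralizer (P : Set G)] :
    MemLocalIdeal M (regSum p f - ∑ x ∈ Finset.univ.filter
      (fun x : G => ¬ p ∣ orderOf x ∧ x ∈ Subgroup.centralizer (P : Set G)), f x) := by
  classical
  let φ : P →* MulAut G := (MulAut.conj).comp P.subtype
  let _ : MulAction P G := MulAction.compHom G φ
  have hsmul : ∀ (a : P) (x : G), a • x = (a : G) * x * (a : G)⁻¹ := fun a x => rfl
  have h := sum_fixedPoints_memIdeal hM hP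
    (Finset.univ.filter fun x : G => ¬ p ∣ orderOf x) (fun a x hx => by
      rw [Finset.mem_filter] at hx ⊢
      rw [hsmul, show orderOf ((a : G) * x * (a : G)⁻¹) = orderOf x from
        MulEquiv.orderOf_eq (MulAut.conj (a : G)) x]
      exact ⟨Finset.mem_univ _, hx.2⟩) f (fun x _ => hf x)
    (fun a x _ => by rw [hsmul]; exact hinv a a.2 x)
  rw [Finset.filter_filter] at h
  have hiff : ∀ x : G, x ∈ Subgroup.centralizer (P : Set G) ↔ ∀ a : P, a • x = x := by
    intro x
    rw [Subgroup.mem_centralizer_iff]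
    refine ⟨fun h a => ?_, fun h u hu => ?_⟩
    · rw [hsmul, h _ a.2, mul_inv_cancel_right]
    · have := h ⟨u, hu⟩
      rwa [hsmul, mul_inv_eq_iff_eq_mul] at this
  convert h using 4
  · rfl
  · simp only [hiff]

end CfsgLib.BlockPrincipal
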