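import Cfsg.Agent.Lib.BlockPrincipal.LatticeBound
import Cfsg.Agent.Lib.BlockPrincipal.Criterion
import Cfsg.Agent.Lib.BlockPrincipal.Parity
import Cfsg.Agent.Lib.BlockRank.Subsection
import Cfsg.Agent.Lib.BlockRank.Major
import Cfsg.Agent.Lib.BlockRank.CycloBound
import Cfsg.Agent.Lib.Blk83.PrincipalBound

/-!
# Height zero characters of the principal block and a centralizer with small Sylow subgroup
-/

set_option autoImplicit false

open Cfsg CfsgLib.BlockReg CfsgLib.BlockPrincipal
open scoped ComplexConjugate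
open Polynomial Matrix

namespace CfsgLib.SmallDefect

universe u

variable {G : Type u} [Group G] {p : ℕ} {M : Ideal Cfsg.AlgInt}

/-- A root of unity of `p`-power order is `1` modulo `M`. -/
theorem root_sub_one_memIdeal (hM : IsPModular p M) {w : ℂ} {k : ℕ} (h : w ^ p ^ k = 1) :
    MemLocalIdeal M (w - 1) := by
  have hint : IsIntegral ℤ w :=
    ⟨X ^ (p ^ k) - 1, monic_X_pow_sub_C 1 (pow_ne_zero _ hM.1.ne_zero), by simp [h]⟩
  have : M.IsMaximal := hM.2.1
  have hR : w ∈ CfsgLib.Blocks.locRing M := memRing_algInt hM hint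
  rw [← OneMemClass.coe_one (CfsgLib.Blocks.locRing M),
    CfsgLib.Blocks.memLocalIdeal_sub_iff (x := ⟨w, hR⟩), map_one]
  exact CfsgLib.Blocks.red_eq_one_of_pow_prime_pow hM.1 hM.2.2 (k := k) (Subtype.ext h)

/-- Regular elements of a subgroup, weighted by a function of the group. -/
theorem regSum_sub_centralizer [Fintype G] [Fact p.Prime] (hM : IsPModular p M) {x : G} {k : ℕ}
    (hx : orderOf x = p ^ k) {C : Subgroup G} [Fintype C] (hC : C = Subgroup.centralizer {x})
    (χ : IrrCharacter G) :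
    MemLocalIdeal M (regSum p (χ : G → ℂ) -
      ∑ c ∈ CfsgLib.BlockRank.regSet (G := C) p, (χ : G → ℂ) c) := by
  classical
  have h := regSum_sub_centralized (p := p) hM (Subgroup.zpowers x)
    (IsPGroup.of_card (by rw [Nat.card_zpowers, hx]))
    (χ : G → ℂ) (fun g => memRing_char hM χ g)
    (fun u _ g => CfsgLib.Char.IsIrrCharacter.isClassFunction χ.2 g u)
  convert h using 2
  have hmem : ∀ g : G, g ∈ Subgroup.centralizer ((Subgroup.zpowers x : Subgroup G) : Set G) ↔
      g ∈ C := by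
    intro g
    rw [hC, Subgroup.zpowers_eq_closure, Subgroup.centralizer_closure]
  refine Finset.sum_bij (fun c _ => (c : G)) (fun c hc => ?_) (fun c _ d _ he => Subtype.ext he)
    (fun g hg => ?_) (fun c _ => rfl)
  · have h1 : ¬ p ∣ orderOf c := (Finset.mem_filter.1 hc).2
    refine Finset.mem_filter.2 ⟨Finset.mem_univ _, ?_, (hmem _).2 c.2⟩
    rw [Subgroup.orderOf_coe]; exact h1
  · obtain ⟨-, hg1, hg2⟩ := Finset.mem_filter.1 hg
    refine ⟨⟨g, (hmem g).1 hg2⟩, Finset.mem_filter.2 ⟨Finset.mem_univ _, ?_⟩, rfl⟩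
    show ¬ p ∣ orderOf _
    rw [Subgroup.orderOf_mk]; exact hg1

/-- The data of the central element `x` in its centralizer. -/
structure Data [Fintype G] (p : ℕ) (C : Subgroup G) [Fintype C] (x : G) (n : ℕ) (ζ : ℂ) where
  xmem : x ∈ C
  i : IrrCharacter C → ℕ
  hi : ∀ (φ : IrrCharacter C) (c : C), (φ : C → ℂ) (⟨x, xmem⟩ * c) = ζ ^ i φ * (φ : C → ℂ) c
  m : IrrCharacter G → IrrCharacter C → ℕ
  hm : ∀ (χ : IrrCharacter G) (c : C),
    (χ : G → ℂ) c = ∑ φ : IrrCharacter C, (m χ φ : ℂ) * (φ : C → ℂ) c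

theorem exists_data [Fintype G] {C : Subgroup G} [Fintype C] {x : G}
    (hC : C = Subgroup.centralizer {x}) {ζ : ℂ} (hζ : IsPrimitiveRoot ζ (orderOf x)) :
    Nonempty (Data p C x (orderOf x) ζ) := by
  classical
  have hxC : x ∈ C := by rw [hC, Subgroup.mem_centralizer_singleton_iff]
  have hz : (⟨x, hxC⟩ : C) ∈ Subgroup.center C := by
    rw [Subgroup.mem_center_iff]
    exact fun g => Subtype.ext (Subgroup.mem_centralizer_singleton_iff.mp
      (hC ▸ g.2 : (g : G) ∈ Subgroup.centralizer {x}))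
  have hxn : (⟨x, hxC⟩ : C) ^ orderOf x = 1 := Subtype.ext (by simp [pow_orderOf_eq_one x])
  choose i hi using CfsgLib.BlockRank.exists_central_root (G := C) (orderOf_pos x) hζ hz hxn
  choose m hm using fun (χ : IrrCharacter G) (φ : IrrCharacter C) =>
    CfsgLib.Char.IsCharacter.exists_nat_classInner
      (CfsgLib.Char.IsCharacter.restrict (CfsgLib.Char.IsIrrCharacter.isCharacter χ.2) C) φ.2
  refine ⟨⟨hxC, i, hi, m, fun χ c => ?_⟩⟩
  have h := congrFun (CfsgLib.Char.IsCharacter.eq_sum_classInner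
    (CfsgLib.Char.IsCharacter.restrict (CfsgLib.Char.IsIrrCharacter.isCharacter χ.2) C)) c
  simpa [Finset.sum_apply, hm] using h

variable [Fintype G] {C : Subgroup G} [Fintype C] {x : G} {n : ℕ} {ζ : ℂ}

theorem Data.translate (D : Data p C x n ζ) (χ : IrrCharacter G) (k : ℕ) (c : C) :
    (χ : G → ℂ) (x ^ k * c) =
      ∑ φ : IrrCharacter C, (D.m χ φ : ℂ) * ζ ^ (k * D.i φ) * (φ : C → ℂ) c := by
  have h : ∀ (φ : IrrCharacter C) (k : ℕ),
      (φ : C → ℂ) ((⟨x, D.xmem⟩ : C) ^ k * c) = ζ ^ (k * D.i φ) * (φ : C → ℂ) c := by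
    intro φ k
    induction k with
    | zero => simp
    | succ k ih => rw [pow_succ', mul_assoc, D.hi, ih, Nat.succ_mul, pow_add]; ring
  refine (D.hm χ ((⟨x, D.xmem⟩ : C) ^ k * c)).trans (Finset.sum_congr rfl fun φ _ => ?_)
  rw [h, mul_assoc]

theorem Data.translate_one (D : Data p C x n ζ) (χ : IrrCharacter G) (c : C) :
    (χ : G → ℂ) (x * c) =
      ∑ φ : IrrCharacter C, (D.m χ φ : ℂ) * ζ ^ (D.i φ) * (φ : C → ℂ) c := by
  simpa using D.translate χ 1 c

/-- The pairing of a height zero character of the principal block with the trivial character on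
the section of `x` is not zero. -/
theorem Data.regSum_ne_zero [Fact p.Prime] (hM : IsPModular p M) (D : Data p C x n ζ)
    (hC : C = Subgroup.centralizer {x}) {k : ℕ} (hx : orderOf x = p ^ k) (hζ : ζ ^ (p ^ k) = 1)
    {χ : IrrCharacter G} (hχ : χ ∈ principalBlock M G)
    (hdeg : ¬ p ∣ charDegree (χ : G → ℂ)) :
    ∑ c ∈ CfsgLib.BlockRank.regSet (G := C) p, (χ : G → ℂ) (x * c) ≠ 0 := by
  classical
  intro h0
  refine (mem_principal_iff_of_not_dvd hM χ hdeg).1 hχ ?_
  have h1 := regSum_sub_centralizer hM hx hC χ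
  have h2 : MemLocalIdeal M (∑ c ∈ CfsgLib.BlockRank.regSet (G := C) p,
      ((χ : G → ℂ) c - (χ : G → ℂ) (x * c))) := by
    refine memIdeal_sum hM _ fun c _ => ?_
    rw [D.translate_one, D.hm, ← Finset.sum_sub_distrib]
    refine memIdeal_sum hM _ fun φ _ => ?_
    have : MemLocalIdeal M (1 - ζ ^ D.i φ) := by
      rw [← neg_sub]
      exact memIdeal_neg (root_sub_one_memIdeal hM (k := k) (by rw [pow_right_comm, hζ, one_pow]))
    have := memIdeal_mul_left hM (memRing_mul hM (memRing_natCast hM (D.m χ φ))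
      (memRing_char hM φ c)) this
    convert this using 1
    ring
  rw [Finset.sum_sub_distrib, h0, sub_zero] at h2
  simpa using memIdeal_add hM h1 h2

/-- The inner products of the regular parts, scaled to be integers. -/
theorem exists_zmat [Fact p.Prime] (hM : IsPModular p M) (C : Subgroup G) [Fintype C] :
    ∃ z : IrrCharacter C → IrrCharacter C → ℤ, ∀ φ θ,
      (z φ θ : ℂ) * (Nat.card C : ℂ) = ((p ^ (Nat.card C).factorization p : ℕ) : ℂ) *
        ∑ s ∈ CfsgLib.BlockRank.regSet (G := C) p, (φ : C → ℂ) s * conj ((θ : C → ℂ) s) := by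
  classical
  choose z hz using fun φ θ : IrrCharacter C => exists_int_classInner_tilde (p := p) hM.1 φ θ
  refine ⟨z, fun φ θ => ?_⟩
  rw [← hz, classInner, mul_comm ((Nat.card C : ℂ)⁻¹) _, mul_assoc, inv_mul_cancel₀
    (Nat.cast_ne_zero.mpr Nat.card_pos.ne'), mul_one, Finset.mul_sum,
    CfsgLib.BlockRank.regSet, Finset.sum_filter]
  refine Finset.sum_congr rfl fun s _ => ?_
  by_cases hs : p ∣ orderOf s
  · simp [tilde, hs, Cfsg.IsPRegular]
  · simp [tilde, hs, Cfsg.IsPRegular, mul_assoc]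

/-- Case of a cyclic Sylow subgroup generated by `x`. -/
theorem card_le_of_cyclic [Fact p.Prime] (hM : IsPModular p M) (hC : C = Subgroup.centralizer {x})
    {k : ℕ} (hx : orderOf x = p ^ k) (hfac : (Nat.card C).factorization p = k) :
    Nat.card {χ : IrrCharacter G // χ ∈ principalBlock M G ∧ ¬ p ∣ charDegree (χ : G → ℂ)} ≤
      p ^ k := by
  classical
  have hp : p.Prime := Fact.out
  let ζ := Complex.exp (2 * Real.pi * Complex.I / (orderOf x : ℕ))
  have hζ : IsPrimitiveRoot ζ (orderOf x) :=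
    Complex.isPrimitiveRoot_exp _ (orderOf_pos x).ne'
  obtain ⟨D⟩ := exists_data (p := p) hC hζ
  obtain ⟨z, hz⟩ := exists_zmat hM C
  set R := CfsgLib.BlockRank.regSet (G := C) p with hR
  set one : IrrCharacter C := CfsgLib.Char.principalIrr with hone
  set q : ℂ := ((p ^ k : ℕ) : ℂ) / (Nat.card C : ℂ) with hq
  -- the number of regular elements
  have hsyl : ∀ S : Sylow p C, (S : Subgroup C) ≤ Subgroup.center C := by
    intro S
    have hzc : (⟨x, D.xmem⟩ : C) ∈ Subgroup.center C := by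
      rw [Subgroup.mem_center_iff]
      exact fun g => Subtype.ext (Subgroup.mem_centralizer_singleton_iff.mp
        (hC ▸ g.2 : (g : G) ∈ Subgroup.centralizer {x}))
    set Z := Subgroup.zpowers (⟨x, D.xmem⟩ : C) with hZ
    have hZc : Z ≤ Subgroup.center C := Subgroup.zpowers_le.2 hzc
    have hZn : Z.Normal := ⟨fun a ha g => by
      rwa [Subgroup.mem_center_iff.1 (hZc ha) g, mul_inv_cancel_right]⟩
    have hZcard : Nat.card Z = p ^ k := by rw [hZ, Nat.card_zpowers, Subgroup.orderOf_mk, hx]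
    obtain ⟨T, hT⟩ := (IsPGroup.of_card hZcard).exists_le_sylow
    have hTeq : Z = (T : Subgroup C) := Subgroup.eq_of_le_of_card_ge hT (by
      rw [hZcard, T.card_eq_multiplicity, hfac])
    obtain ⟨g, hg⟩ := MulAction.exists_smul_eq C T S
    have hSZ : (S : Subgroup C) = Z := by
      rw [← hg, Sylow.coe_subgroup_smul, ← hTeq]
      exact Subgroup.Normal.conj_smul_eq_self g Z
    rw [hSZ]; exact hZc
  obtain ⟨S⟩ : Nonempty (Sylow p C) := inferInstance
  obtain ⟨N, -, hNidx, hNreg⟩ := CfsgLib.Blk83.exists_regular_subgroup_of_central_sylow S (hsyl S)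
  have hcard : (R.card : ℂ) * (p ^ k : ℕ) = (Nat.card C : ℂ) := by
    have h1 : R.card = Nat.card N := by
      rw [hR, CfsgLib.BlockRank.regSet, Nat.card_eq_fintype_card, Fintype.card_subtype]
      congr 1
      exact Finset.filter_congr fun c _ => hNreg c
    rw [h1, ← N.card_mul_index, hNidx, S.card_eq_multiplicity, hfac]
    push_cast; rfl
  -- the pairings as cyclotomic integers
  let P : IrrCharacter G → ℤ[X] := fun χ =>
    ∑ φ : IrrCharacter C, Polynomial.C ((D.m χ φ : ℤ) * z φ one) * X ^ D.i φ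
  have hP : ∀ χ, aeval ζ (P χ) = q * ∑ s ∈ R, (χ : G → ℂ) (x * s) := by
    intro χ
    simp only [P, map_sum, map_mul, map_pow, aeval_C, aeval_X, D.translate_one χ]
    rw [Finset.sum_comm, Finset.mul_sum]
    refine Finset.sum_congr rfl fun φ _ => ?_
    have h := hz φ one
    rw [hfac] at h
    simp only [hone, CfsgLib.Char.principalIrr_apply, map_one, mul_one] at h
    rw [← Finset.mul_sum]
    have hC0 : (Nat.card C : ℂ) ≠ 0 := Nat.cast_ne_zero.mpr Nat.card_pos.ne'
    have hz' : (z φ one : ℂ) = q * ∑ s ∈ R, (φ : C → ℂ) s := by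
      rw [hq, div_mul_eq_mul_div, eq_div_iff hC0]
      exact h
    simp only [eq_intCast, Int.cast_natCast]
    rw [show ((D.m χ φ : ℂ) * (z φ one : ℂ)) = (D.m χ φ : ℂ) * (z φ one : ℂ) from rfl, hz']
    ring
  have hq' : conj q = q := by rw [hq, map_div₀, map_natCast, map_natCast]
  have htot : ∑ χ : IrrCharacter G, aeval ζ (P χ) * conj (aeval ζ (P χ)) = ((p ^ k : ℕ) : ℂ) := by
    have hexp : ∀ χ : IrrCharacter G, aeval ζ (P χ) * conj (aeval ζ (P χ)) =
        q * q * ∑ s ∈ R, ∑ t ∈ R, (χ : G → ℂ) (x * s) * conj ((χ : G → ℂ) (x * t)) := by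
      intro χ
      rw [hP, map_mul, hq', map_sum, ← Finset.sum_mul_sum]
      ring
    rw [Finset.sum_congr rfl fun χ _ => hexp χ, ← Finset.mul_sum, Finset.sum_comm]
    have hst : ∀ s ∈ R, ∀ t ∈ R,
        ∑ χ : IrrCharacter G, (χ : G → ℂ) (x * s) * conj ((χ : G → ℂ) (x * t)) =
          ∑ φ : IrrCharacter C, (φ : C → ℂ) s * conj ((φ : C → ℂ) t) := fun s hs t ht =>
      CfsgLib.BlockRank.sum_translate_mul_conj hC ⟨k, hx⟩ s t (Finset.mem_filter.mp hs).2
        (Finset.mem_filter.mp ht).2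
    rw [Finset.sum_congr rfl fun s hs => (Finset.sum_comm).trans
      (Finset.sum_congr rfl fun t ht => hst s hs t ht)]
    -- `∑_{s,t} ∑_φ φ s conj (φ t) = |C| |R|`
    have h1 : ∑ s ∈ R, ∑ t ∈ R, ∑ φ : IrrCharacter C, (φ : C → ℂ) s * conj ((φ : C → ℂ) t) =
        (Nat.card C : ℂ) * R.card := by
      calc _ = ∑ s ∈ R, ∑ t ∈ R, (if IsConj s t then
            (Nat.card (Subgroup.centralizer ({s} : Set C)) : ℂ) else 0) :=
          Finset.sum_congr rfl fun s _ => Finset.sum_congr rfl fun t _ =>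
            CfsgLib.Char.sum_mul_conj s t
        _ = ∑ s ∈ R, (Nat.card C : ℂ) := by
          refine Finset.sum_congr rfl fun s hs => ?_
          rw [← Finset.sum_filter, Finset.sum_const, nsmul_eq_mul]
          have hcl : (R.filter fun t => IsConj s t).card = Nat.card {t : C // IsConj s t} := by
            rw [Nat.card_eq_fintype_card, Fintype.card_subtype]
            congr 1
            ext t
            simp only [Finset.mem_filter, Finset.mem_univ, true_and]
            refine ⟨fun h => h.2, fun h => ⟨?_, h⟩⟩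
            refine Finset.mem_filter.2 ⟨Finset.mem_univ _, ?_⟩
            exact (CfsgLib.BlockRank.isPRegular_of_isConj h).1 (Finset.mem_filter.mp hs).2
          rw [hcl, ← Nat.cast_mul, CfsgLib.Char.card_isConj_mul_card_centralizer]
        _ = _ := by rw [Finset.sum_const, nsmul_eq_mul, mul_comm]
    rw [h1, hq]
    have hC0 : (Nat.card C : ℂ) ≠ 0 := Nat.cast_ne_zero.mpr Nat.card_pos.ne'
    field_simp
    linear_combination ((p ^ k : ℕ) : ℂ) * hcard
  let T := {χ : IrrCharacter G // aeval ζ (P χ) ≠ 0}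
  have hT : ∑ i : T, aeval ζ (P i.1) * conj (aeval ζ (P i.1)) = (((p ^ k : ℕ) : ℚ) : ℂ) := by
    rw [Rat.cast_natCast, ← htot,
      ← Finset.sum_subtype (Finset.univ.filter fun χ => aeval ζ (P χ) ≠ 0) (fun _ => by simp)
        (fun χ => aeval ζ (P χ) * conj (aeval ζ (P χ)))]
    refine Finset.sum_subset (Finset.subset_univ _) fun χ _ hχ => ?_
    rw [Finset.mem_filter, not_and, not_not] at hχ
    rw [hχ (Finset.mem_univ _), zero_mul]
  have hle : Fintype.card T ≤ p ^ k := by
    exact_mod_cast CfsgLib.BlockRank.card_le_of_sum_normSq (orderOf_pos x) hζ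
      (fun i : T => P i.1) (fun i => i.2) ((p ^ k : ℕ) : ℚ) hT
  refine le_trans ?_ hle
  rw [Nat.card_eq_fintype_card]
  refine Fintype.card_le_of_injective (fun χ => (⟨χ.1, ?_⟩ : T))
    (fun a b h => Subtype.ext (congrArg (fun i : T => i.1) h))
  rw [hP]
  refine mul_ne_zero (div_ne_zero (Nat.cast_ne_zero.mpr (pow_ne_zero _ hp.ne_zero))
    (Nat.cast_ne_zero.mpr Nat.card_pos.ne')) ?_
  exact D.regSum_ne_zero hM hC hx (by rw [← hx]; exact hζ.pow_eq_one) χ.2.1 χ.2.2

end CfsgLib.SmallDefect
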