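import Cfsg.Agent.Lib.PGroup.AbelianMax
import Cfsg.Agent.Lib.Transfer.PGroup
import Cfsg.Agent.Lib.Transfer.Tate
import Cfsg.Agent.Lib.Subnormal.Join
import Cfsg.Agent.Lib.Balance.Orbit

/-!
# Groups whose Sylow `p`-subgroup has abelianization of order `p ^ 2`
-/

set_option autoImplicit false
set_option maxHeartbeats 1000000

namespace CfsgLib.AbPSq

open scoped commutatorElement

universe u

section PGroup

variable {P : Type u} [Group P] [Finite P] {p : ℕ} [hp : Fact p.Prime]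

theorem isCyclic_of_index_le (hP : IsPGroup p P) (h : (commutator P).index ≤ p) :
    IsCyclic P := by
  haveI := hP.isNilpotent
  obtain ⟨n, hn⟩ := IsPGroup.iff_card.1 (hP.to_quotient (commutator P))
  rw [← Subgroup.index_eq_card] at hn
  have : n ≤ 1 := by
    by_contra h2
    rw [hn] at h
    have := Nat.pow_lt_pow_right hp.out.one_lt (show 1 < n by omega)
    rw [pow_one] at this
    omega
  have hc : IsCyclic (P ⧸ commutator P) := by
    rcases Nat.le_one_iff_eq_zero_or_eq_one.1 this with rfl | rfl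
    · rw [pow_zero, Subgroup.index_eq_card] at hn
      haveI := (Nat.card_eq_one_iff_unique.1 hn).1
      infer_instance
    · rw [pow_one, Subgroup.index_eq_card] at hn
      exact isCyclic_of_prime_card hn
  obtain ⟨q, hq⟩ := hc.exists_generator
  obtain ⟨y, rfl⟩ := QuotientGroup.mk_surjective q
  have htop : Subgroup.zpowers y ⊔ commutator P = ⊤ := by
    refine eq_top_iff.2 fun g _ => ?_
    obtain ⟨k, hk⟩ := Subgroup.mem_zpowers_iff.1 (hq (g : P ⧸ commutator P))
    rw [← QuotientGroup.mk_zpow, QuotientGroup.eq] at hk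
    have : g = y ^ k * ((y ^ k)⁻¹ * g) := by group
    rw [this]
    exact Subgroup.mul_mem_sup (Subgroup.zpow_mem _ (Subgroup.mem_zpowers y) k) hk
  have h2 := CfsgLib.Transfer.eq_top_of_sup_commutator htop
  exact ⟨⟨y, fun g => Subgroup.mem_zpowers_iff.1 (h2 ▸ Subgroup.mem_top g)⟩⟩

theorem commutator_eq_bot_of_index_le (hP : IsPGroup p P) (h : (commutator P).index ≤ p) :
    commutator P = ⊥ := by
  haveI := isCyclic_of_index_le hP h
  let _ := IsCyclic.commGroup (α := P)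
  rw [commutator_def, Subgroup.commutator_eq_bot_iff_le_centralizer]
  intro g _
  exact Subgroup.mem_centralizer_iff.2 fun x _ => mul_comm _ _

theorem card_eq_of_commutator_eq_bot (h2 : (commutator P).index = p ^ 2)
    (h : commutator P = ⊥) : Nat.card P = p ^ 2 := by
  rw [← h2, h, Subgroup.index_bot]

/-- If `P` is generated modulo `Q` by one element and `Q` is central modulo `M`, the quotient by
`M` is abelian. -/
theorem commutator_le_of_central (Q M : Subgroup P) [Q.Normal] [M.Normal] (y : P)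
    (htop : Q ⊔ Subgroup.zpowers y = ⊤) (hcen : ∀ q ∈ Q, ∀ x : P, ⁅q, x⁆ ∈ M) :
    commutator P ≤ M := by
  rw [commutator_def, Subgroup.commutator_le]
  intro a _ b _
  have hmk : ∀ q ∈ Q, ∀ x : P, (q : P ⧸ M) * (x : P ⧸ M) = (x : P ⧸ M) * q := by
    intro q hq x
    rw [← commutatorElement_eq_one_iff_mul_comm]
    exact (QuotientGroup.eq_one_iff _).2 (hcen q hq x)
  have hdec : ∀ x : P, ∃ q ∈ Q, ∃ k : ℤ, x = q * y ^ k := by
    intro x
    obtain ⟨q, hq, z, hz, rfl⟩ :=
      Subgroup.mem_sup_of_normal_left.1 (htop ▸ Subgroup.mem_top x : x ∈ Q ⊔ Subgroup.zpowers y)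
    obtain ⟨k, rfl⟩ := Subgroup.mem_zpowers_iff.1 hz
    exact ⟨q, hq, k, rfl⟩
  obtain ⟨q, hq, k, rfl⟩ := hdec a
  obtain ⟨r, hr, l, rfl⟩ := hdec b
  refine (QuotientGroup.eq_one_iff _).1 ?_
  show QuotientGroup.mk' M ⁅q * y ^ k, r * y ^ l⁆ = 1
  rw [map_commutatorElement, commutatorElement_eq_one_iff_commute, map_mul, map_mul]
  have c1 : Commute ((y ^ k : P) : P ⧸ M) ((y ^ l : P) : P ⧸ M) :=
    (((Commute.refl y).zpow_left k).zpow_right l).map (QuotientGroup.mk' M)
  exact ((show Commute (q : P ⧸ M) _ from hmk q hq r).mul_right (hmk q hq _)).mul_left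
    ((show Commute ((y ^ k : P) : P ⧸ M) (r : P ⧸ M) from (hmk r hr _).symm).mul_right c1)

/-- A normal subgroup outside the derived subgroup is everything or has index `p`. -/
theorem normal_cases (hP : IsPGroup p P) (h2 : (commutator P).index = p ^ 2)
    (Q : Subgroup P) [Q.Normal] (hQ : ¬ Q ≤ commutator P) :
    Q = ⊤ ∨ (Q.index = p ∧ commutator P ≤ Q ∧ ∃ y, y ∉ Q ∧ Q ⊔ Subgroup.zpowers y = ⊤) := by
  haveI := hP.isNilpotent
  by_cases hQT : Q = ⊤
  · exact Or.inl hQT
  refine Or.inr ?_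
  have hlt : commutator P < Q ⊔ commutator P :=
    lt_of_le_of_ne le_sup_right fun h => hQ (h ▸ le_sup_left)
  obtain ⟨j, hj, hjeq⟩ := (Nat.dvd_prime_pow hp.out).1
    (h2 ▸ Subgroup.index_dvd_of_le (le_sup_right : commutator P ≤ Q ⊔ commutator P))
  have hne : (Q ⊔ commutator P) ≠ ⊤ := fun h => hQT (CfsgLib.Transfer.eq_top_of_sup_commutator h)
  have hj1 : j = 1 := by
    rcases j with _ | _ | _ | j
    · exact absurd (Subgroup.index_eq_one.1 (by rw [hjeq, pow_zero])) hne
    · rfl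
    · exfalso
      have := Subgroup.relIndex_mul_index hlt.le
      rw [hjeq, h2] at this
      have h1 : (commutator P).relIndex (Q ⊔ commutator P) = 1 :=
        Nat.eq_of_mul_eq_mul_right (pow_pos hp.out.pos 2) (this.trans (one_mul _).symm)
      exact not_le_of_gt hlt (Subgroup.relIndex_eq_one.1 h1)
    · omega
  rw [hj1, pow_one] at hjeq
  obtain ⟨y, hy⟩ : ∃ y, y ∉ Q ⊔ commutator P := by
    by_contra h
    push Not at h
    exact hne (eq_top_iff.2 fun x _ => h x)
  have h1 := CfsgLib.PGroup.AbelianMax.sup_zpowers_eq_top _ (hjeq ▸ hp.out) y hy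
  have htop : Q ⊔ Subgroup.zpowers y = ⊤ := CfsgLib.Transfer.eq_top_of_sup_commutator (by
    rw [← h1, sup_right_comm])
  have hle : commutator P ≤ Q := commutator_le_of_central Q Q y htop fun q hq x => by
    rw [commutatorElement_def, mul_assoc, mul_assoc, ← mul_assoc x]
    exact mul_mem hq (Subgroup.Normal.conj_mem inferInstance _ (inv_mem hq) x)
  have hQe : Q ⊔ commutator P = Q := sup_eq_left.2 hle
  exact ⟨hQe ▸ hjeq, hle, y, hQe ▸ hy, htop⟩

/-- Centralizers outside an abelian subgroup of index `p`. -/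
theorem card_centralizer (h2 : (commutator P).index = p ^ 2) (A : Subgroup P) [A.Normal]
    (hab : ∀ a ∈ A, ∀ b ∈ A, a * b = b * a) (hA : A.index = p) (y : P) (hy : y ∉ A) :
    Nat.card (Subgroup.centralizer ({y} : Set P)) = p ^ 2 := by
  set C := Subgroup.centralizer ({y} : Set P) with hC
  have htop := CfsgLib.PGroup.AbelianMax.sup_zpowers_eq_top A (hA ▸ hp.out) y hy
  have h := CfsgLib.PGroup.AbelianMax.card_eq_card_commutator_mul A hab y htop
  have hT : Nat.card {a : A // (a : P) * y = y * a} = Nat.card (C.subgroupOf A) :=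
    Nat.card_congr (Equiv.subtypeEquivRight fun a => by
      rw [Subgroup.mem_subgroupOf, hC, Subgroup.mem_centralizer_singleton_iff])
  have h1 := (commutator P).card_mul_index
  have h3 := A.card_mul_index
  rw [h2, ← h3, hA, h, hT] at h1
  have hp' : Nat.card (C.subgroupOf A) = p :=
    Nat.eq_of_mul_eq_mul_left (Nat.card_pos (α := commutator P))
      (Nat.eq_of_mul_eq_mul_right hp.out.pos (by rw [← h1]; ring))
  have hd : A.relIndex C ∣ p := hA ▸ Subgroup.relIndex_dvd_index_of_normal A C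
  have hne : A.relIndex C ≠ 1 := fun h => hy (Subgroup.relIndex_eq_one.1 h
    (Subgroup.mem_centralizer_singleton_iff.2 rfl))
  have h4 := (A.subgroupOf C).card_mul_index
  rw [← h4, show (A.subgroupOf C).index = p from (hp.out.eq_one_or_self_of_dvd _ hd).resolve_left hne]
  have he : Nat.card (A.subgroupOf C) = Nat.card (C.subgroupOf A) :=
    Nat.card_congr ⟨fun x => ⟨⟨x.1.1, x.2⟩, x.1.2⟩, fun x => ⟨⟨x.1.1, x.2⟩, x.1.2⟩,
      fun _ => rfl, fun _ => rfl⟩
  rw [he, hp', sq]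

/-- Two disjoint commuting normal subgroups filling a subgroup of index at most `p`. -/
theorem card_eq_of_two_factors (hP : IsPGroup p P) (h2 : (commutator P).index = p ^ 2)
    (Q R₁ R₂ : Subgroup P) [Q.Normal] [R₁.Normal] [R₂.Normal] (h₁ : R₁ ≠ ⊥) (h₂ : R₂ ≠ ⊥)
    (hd : R₁ ⊓ R₂ = ⊥) (hQ : R₁ ⊔ R₂ = Q) (hQn : ¬ Q ≤ commutator P) :
    Nat.card P = p ^ 2 := by
  haveI := hP.isNilpotent
  have hcard : ∀ A B : Subgroup P, A.Normal → B.Normal → A ⊓ B = ⊥ →
      Nat.card (A ⊔ B : Subgroup P) = Nat.card A * Nat.card B := by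
    intro A B hA hB hAB
    rw [← Nat.card_prod]
    refine (Nat.card_congr (Equiv.ofBijective
      (fun ab : A × B => (⟨(ab.1 : P) * ab.2, Subgroup.mul_mem_sup ab.1.2 ab.2.2⟩ :
        (A ⊔ B : Subgroup P))) ⟨fun a b h => ?_, fun x => ?_⟩)).symm
    · exact Subgroup.mul_injective_of_disjoint (disjoint_iff.2 hAB) (congrArg Subtype.val h)
    · obtain ⟨a, ha, b, hb, hab⟩ := Subgroup.mem_sup_of_normal_left.1 x.2
      exact ⟨⟨⟨a, ha⟩, ⟨b, hb⟩⟩, Subtype.ext hab⟩
  set M₁ := ⁅R₁, (⊤ : Subgroup P)⁆ with hM₁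
  set M₂ := ⁅R₂, (⊤ : Subgroup P)⁆ with hM₂
  have hM₁le : M₁ ≤ R₁ := Subgroup.commutator_le_left _ _
  have hM₂le : M₂ ≤ R₂ := Subgroup.commutator_le_left _ _
  have hMd : M₁ ⊓ M₂ = ⊥ := le_bot_iff.1 (hd ▸ inf_le_inf hM₁le hM₂le)
  have hbig : ∀ R : Subgroup P, R.Normal → R ≠ ⊥ → p ≤ ⁅R, (⊤ : Subgroup P)⁆.relIndex R := by
    intro R hR hRne
    have hne : ⁅R, (⊤ : Subgroup P)⁆.relIndex R ≠ 1 := fun h => hRne (le_bot_iff.1
      (CfsgLib.Transfer.le_of_le_sup_commutator (L := R) (R := ⊥)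
        (by rw [bot_sup_eq]; exact Subgroup.relIndex_eq_one.1 h)))
    obtain ⟨n, hn⟩ := IsPGroup.iff_card.1 (hP.to_subgroup R)
    obtain ⟨i, -, hi⟩ := (Nat.dvd_prime_pow hp.out).1
      (hn ▸ Subgroup.relIndex_dvd_card ⁅R, (⊤ : Subgroup P)⁆ R)
    rw [hi] at hne ⊢
    exact Nat.le_of_dvd (pow_pos hp.out.pos i) (dvd_pow_self p (fun h => hne (by rw [h, pow_zero])))
  set M := M₁ ⊔ M₂ with hM
  have hMQ : M ≤ Q := hQ ▸ sup_le_sup hM₁le hM₂le
  have hrel : M.relIndex Q = M₁.relIndex R₁ * M₂.relIndex R₂ := by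
    have e1 := Subgroup.relIndex_mul_relIndex ⊥ M₁ R₁ bot_le hM₁le
    have e2 := Subgroup.relIndex_mul_relIndex ⊥ M₂ R₂ bot_le hM₂le
    have e3 := Subgroup.relIndex_mul_relIndex ⊥ M Q bot_le hMQ
    simp only [Subgroup.relIndex_bot_left] at e1 e2 e3
    rw [hM, hcard M₁ M₂ inferInstance inferInstance hMd, ← hQ,
      hcard R₁ R₂ inferInstance inferInstance hd, ← e1, ← e2, hQ, ← hM] at e3
    exact Nat.eq_of_mul_eq_mul_left (Nat.mul_pos Nat.card_pos Nat.card_pos) (e3.trans (by ring))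
  have hcen : ∀ q ∈ Q, ∀ x : P, ⁅q, x⁆ ∈ M := by
    intro q hq x
    rw [← hQ] at hq
    obtain ⟨a, ha, b, hb, rfl⟩ := Subgroup.mem_sup_of_normal_left.1 hq
    have e : ⁅a * b, x⁆ = (a * ⁅b, x⁆ * a⁻¹) * ⁅a, x⁆ := by
      simp only [commutatorElement_def]; group
    rw [e]
    exact mul_mem (Subgroup.Normal.conj_mem inferInstance _ (Subgroup.mem_sup_right
      (Subgroup.commutator_mem_commutator hb (Subgroup.mem_top x))) a)
      (Subgroup.mem_sup_left (Subgroup.commutator_mem_commutator ha (Subgroup.mem_top x)))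
  rcases normal_cases hP h2 Q hQn with htop | ⟨hidx, -, y, -, hy⟩
  · subst htop
    have hle : commutator P ≤ M :=
      commutator_le_of_central ⊤ M 1 (by simp) hcen
    have h3 : M.index ≤ p ^ 2 :=
      h2 ▸ Nat.le_of_dvd (by rw [h2]; exact pow_pos hp.out.pos 2) (Subgroup.index_dvd_of_le hle)
    rw [← Subgroup.relIndex_top_right, hrel] at h3
    have hb1 := hbig R₁ inferInstance h₁
    have hb2 := hbig R₂ inferInstance h₂
    rw [sq] at h3
    have key : ∀ (R R' : Subgroup P), R.Normal → R'.Normal → R ⊓ R' = ⊥ → R ⊔ R' = ⊤ →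
        ⁅R, (⊤ : Subgroup P)⁆.relIndex R ≤ p → ⁅R, (⊤ : Subgroup P)⁆ = ⊥ := by
      intro R R' _ _ hRR hsup hr
      have hsub : ⁅R, (⊤ : Subgroup P)⁆ ≤ ⁅R, R⁆ := by
        rw [Subgroup.commutator_le]
        intro a ha x _
        obtain ⟨b, hb, c, hc, rfl⟩ :=
          Subgroup.mem_sup_of_normal_left.1 (hsup ▸ Subgroup.mem_top x : x ∈ R ⊔ R')
        have hac : a * c = c * a :=
          Subgroup.commute_of_normal_of_disjoint R R' ‹_› ‹_› (disjoint_iff.2 hRR) a c ha hc
        have hac' : Commute a c := hac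
        have e : ⁅a, b * c⁆ = ⁅a, b⁆ := by
          simp only [commutatorElement_def, mul_inv_rev]
          calc a * (b * c) * a⁻¹ * (c⁻¹ * b⁻¹) = a * b * (c * a⁻¹) * c⁻¹ * b⁻¹ := by group
            _ = a * b * (a⁻¹ * c) * c⁻¹ * b⁻¹ := by rw [(hac'.inv_left).eq]
            _ = a * b * a⁻¹ * b⁻¹ := by group
        rw [e]
        exact Subgroup.commutator_mem_commutator ha hb
      have heq : ⁅R, (⊤ : Subgroup P)⁆ = (commutator R).map R.subtype := by
        rw [Subgroup.map_subtype_commutator]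
        exact le_antisymm hsub (Subgroup.commutator_mono le_rfl le_top)
      have hbot := commutator_eq_bot_of_index_le (hP.to_subgroup R) (by
        refine le_trans (le_of_eq ?_) hr
        rw [heq, Subgroup.relIndex, Subgroup.subgroupOf, Subgroup.comap_map_eq_self_of_injective
          R.subtype_injective])
      rw [heq, hbot, Subgroup.map_bot]
    have k1 : M₁ = ⊥ := key R₁ R₂ inferInstance inferInstance hd hQ
      (Nat.le_of_mul_le_mul_right ((Nat.mul_le_mul_left _ hb2).trans h3) hp.out.pos)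
    have k2 : M₂ = ⊥ := key R₂ R₁ inferInstance inferInstance (inf_comm R₁ R₂ ▸ hd)
      (sup_comm R₁ R₂ ▸ hQ)
      (Nat.le_of_mul_le_mul_left ((Nat.mul_le_mul_right _ hb1).trans h3) hp.out.pos)
    refine card_eq_of_commutator_eq_bot h2 (le_bot_iff.1 (hle.trans ?_))
    rw [hM, k1, k2, sup_bot_eq]
  · exfalso
    have hle : commutator P ≤ M := commutator_le_of_central Q M y hy hcen
    have h3 : M.index ∣ p ^ 2 := h2 ▸ Subgroup.index_dvd_of_le hle
    rw [← Subgroup.relIndex_mul_index hMQ, hidx, hrel] at h3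
    have h4 := Nat.le_of_dvd (pow_pos hp.out.pos 2) h3
    have hb := Nat.mul_le_mul (hbig R₁ inferInstance h₁) (hbig R₂ inferInstance h₂)
    have := hp.out.one_lt
    rw [sq] at h4
    nlinarith

theorem index_commutator_le (x : P) :
    (commutator P).index ≤ Nat.card (Subgroup.centralizer ({x} : Set P)) := by
  set C := Subgroup.centralizer ({x} : Set P) with hC
  have hinj : Function.Injective (fun q : P ⧸ C => (⟨⁅q.out, x⁆,
      Subgroup.commutator_mem_commutator (Subgroup.mem_top _) (Subgroup.mem_top x)⟩ :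
        (⁅(⊤ : Subgroup P), ⊤⁆ : Subgroup P))) := by
    intro q r h
    have h1 : ⁅q.out, x⁆ = ⁅r.out, x⁆ := congrArg Subtype.val h
    simp only [commutatorElement_def] at h1
    refine (QuotientGroup.out_eq' q).symm.trans
      ((QuotientGroup.eq.2 ?_).trans (QuotientGroup.out_eq' r))
    refine Subgroup.mem_centralizer_singleton_iff.2 ?_
    have h2 := mul_right_cancel h1
    calc q.out⁻¹ * r.out * x = q.out⁻¹ * (r.out * x * r.out⁻¹) * r.out := by group
      _ = q.out⁻¹ * (q.out * x * q.out⁻¹) * r.out := by rw [h2]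
      _ = x * (q.out⁻¹ * r.out) := by group
  have h1 := Nat.card_le_card_of_injective _ hinj
  rw [← Subgroup.index_eq_card, ← commutator_def] at h1
  have h2 := (commutator P).card_mul_index
  have h3 := C.card_mul_index
  nlinarith [Nat.card_pos (α := commutator P), Nat.card_pos (α := C)]

end PGroup

section Local

variable {G : Type u} [Group G]

/-- Distinct subgroups minimal among those normalized by `N` commute. -/
theorem commute_of_ne {N A B : Subgroup G} (hA : A ≤ N) (hB : B ≤ N)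
    (hAn : ∀ n ∈ N, ∀ a ∈ A, n * a * n⁻¹ ∈ A) (hBn : ∀ n ∈ N, ∀ a ∈ B, n * a * n⁻¹ ∈ B)
    (hd : A ⊓ B = ⊥) : ∀ a ∈ A, ∀ b ∈ B, a * b = b * a := by
  intro a ha b hb
  rw [← commutatorElement_eq_one_iff_mul_comm, ← Subgroup.mem_bot, ← hd]
  refine ⟨?_, ?_⟩
  · rw [commutatorElement_def, mul_assoc, mul_assoc, ← mul_assoc b]
    exact A.mul_mem ha (hAn b (hB hb) _ (A.inv_mem ha))
  · rw [commutatorElement_def]
    exact B.mul_mem (hBn a (hA ha) b hb) (B.inv_mem hb)

theorem exists_mul_of_mem_sup {A B : Subgroup G} (h : ∀ a ∈ A, ∀ b ∈ B, a * b = b * a) {x : G}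
    (hx : x ∈ A ⊔ B) : ∃ a ∈ A, ∃ b ∈ B, x = a * b := by
  have hcomm : ∀ (a : A) (b : B), Commute (A.subtype a) (B.subtype b) := fun a b => h a a.2 b b.2
  have : A ⊔ B = (A.subtype.noncommCoprod B.subtype hcomm).range := by
    rw [MonoidHom.noncommCoprod_range, Subgroup.range_subtype, Subgroup.range_subtype]
  rw [this] at hx
  obtain ⟨⟨a, b⟩, rfl⟩ := hx
  exact ⟨a, a.2, b, b.2, rfl⟩

theorem card_sup_eq [Finite G] {A B : Subgroup G} (h : ∀ a ∈ A, ∀ b ∈ B, a * b = b * a)
    (hd : A ⊓ B = ⊥) : Nat.card (A ⊔ B : Subgroup G) = Nat.card A * Nat.card B := by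
  rw [← Nat.card_prod]
  refine (Nat.card_congr (Equiv.ofBijective
    (fun ab : A × B => (⟨(ab.1 : G) * ab.2, Subgroup.mul_mem_sup ab.1.2 ab.2.2⟩ :
      (A ⊔ B : Subgroup G))) ⟨fun a b he => ?_, fun x => ?_⟩)).symm
  · exact Subgroup.mul_injective_of_disjoint (disjoint_iff.2 hd) (congrArg Subtype.val he)
  · obtain ⟨a, ha, b, hb, hab⟩ := exists_mul_of_mem_sup h x.2
    exact ⟨⟨⟨a, ha⟩, ⟨b, hb⟩⟩, Subtype.ext hab.symm⟩

variable [Finite G] {p : ℕ} [hp : Fact p.Prime]

/-- Internal direct products pass to Sylow subgroups. -/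
theorem sylow_inf_eq_sup (P : Sylow p G) {N A B : Subgroup G} (hA : A.IsSubnormal)
    (hB : B.IsSubnormal) (hN : N.IsSubnormal) (h : ∀ a ∈ A, ∀ b ∈ B, a * b = b * a)
    (hd : A ⊓ B = ⊥) (heq : A ⊔ B = N) :
    (A ⊓ (P : Subgroup G)) ⊔ (B ⊓ (P : Subgroup G)) = N ⊓ (P : Subgroup G) := by
  refine Subgroup.eq_of_le_of_card_ge (sup_le (inf_le_inf_right _ (heq ▸ le_sup_left))
    (inf_le_inf_right _ (heq ▸ le_sup_right))) (le_of_eq ?_)
  rw [card_sup_eq (A := A ⊓ (P : Subgroup G)) (B := B ⊓ (P : Subgroup G))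
      (fun a ha b hb => h a ha.1 b hb.1)
      (le_bot_iff.1 (hd ▸ inf_le_inf inf_le_left inf_le_left)),
    Subnormal.card_inf_sylow p hA P, Subnormal.card_inf_sylow p hB P,
    Subnormal.card_inf_sylow p hN P, ← heq, card_sup_eq h hd,
    Nat.factorization_mul Nat.card_pos.ne' Nat.card_pos.ne', Finsupp.add_apply, pow_add]

theorem isSubnormal_of_le (N : Subgroup G) [N.Normal] {S : Subgroup G} (hS : S ≤ N)
    (h : ∀ n ∈ N, ∀ a ∈ S, n * a * n⁻¹ ∈ S) : S.IsSubnormal :=
  Subgroup.IsSubnormal.step S N hS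
    (Subgroup.IsSubnormal.step N ⊤ le_top Subgroup.IsSubnormal.top inferInstance)
    ⟨fun a ha g => h g g.2 a ha⟩

theorem inf_sylow_ne_bot (hO : Cfsg.pPrimeCore p G = ⊥) (P : Sylow p G) {A : Subgroup G}
    (hA : A.IsSubnormal) (hne : A ≠ ⊥) : A ⊓ (P : Subgroup G) ≠ ⊥ := by
  intro h
  have h1 := Subnormal.card_inf_sylow p hA P
  rw [h, Subgroup.card_bot] at h1
  refine hne (CfsgLib.Balance.eq_bot_of_subnormal_coprime hO hA ?_)
  refine ((Fact.out : p.Prime).coprime_iff_not_dvd.2 fun hd => ?_).symm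
  have h2 := (Fact.out : p.Prime).factorization_pos_of_dvd Nat.card_pos.ne' hd
  exact (Nat.one_lt_pow h2.ne' hp.out.one_lt).ne h1

end Local

end CfsgLib.AbPSq
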