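import Cfsg.Agent.Lib.BlockPrincipal.AbelianizationPSq
import Cfsg.Agent.Lib.Solvable.Core
import Mathlib.GroupTheory.Abelianization.Finite

/-!
# Structure of a non almost simple group with Sylow abelianization of order `p ^ 2`
-/

set_option autoImplicit false
set_option maxHeartbeats 1000000

namespace CfsgLib.AbPSq

open scoped commutatorElement

universe u

variable {G : Type u} [Group G] [Finite G] {p : ℕ} [hp : Fact p.Prime]

theorem index_commutator_sylow (P : Sylow p G) :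
    (commutator (P : Subgroup G)).index =
      (⁅(P : Subgroup G), (P : Subgroup G)⁆).relIndex (P : Subgroup G) := by
  rw [Subgroup.relIndex, ← Subgroup.map_subtype_commutator, Subgroup.subgroupOf,
    Subgroup.comap_map_eq_self_of_injective (P : Subgroup G).subtype_injective]

theorem normal_pgroup_le (P : Sylow p G) {M : Subgroup G} [M.Normal] (h : IsPGroup p M) :
    M ≤ (P : Subgroup G) := by
  obtain ⟨Q, hQ⟩ := h.exists_le_sylow
  obtain ⟨g, hg⟩ := MulAction.exists_smul_eq G Q P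
  intro x hx
  rw [← hg, Sylow.coe_subgroup_smul, Subgroup.mem_pointwise_smul_iff_inv_smul_mem]
  apply hQ
  show (MulAut.conj g)⁻¹ • x ∈ M
  rw [← map_inv]
  exact Subgroup.Normal.conj_mem inferInstance x hx g⁻¹

/-- Either `|P| = p ^ 2` or a normal subgroup cuts an abelian subgroup of index `p` out of `P`. -/
theorem structure_of_abelianization_p_sq (P : Sylow p G) (hO : Cfsg.pPrimeCore p G = ⊥)
    (hcore : (⁅(P : Subgroup G), (P : Subgroup G)⁆).normalCore = ⊥)
    (hnas : ¬ ∃ S : Subgroup G, S.Normal ∧ IsSimpleGroup S ∧ ¬ IsMulCommutative S ∧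
      Subgroup.centralizer (S : Set G) = ⊥)
    (h2 : (⁅(P : Subgroup G), (P : Subgroup G)⁆).relIndex (P : Subgroup G) = p ^ 2) :
    Nat.card (P : Subgroup G) = p ^ 2 ∨ ∃ N : Subgroup G, N.Normal ∧
      N.relIndex (P : Subgroup G) = p ∧
      ∀ a ∈ N ⊓ (P : Subgroup G), ∀ b ∈ N ⊓ (P : Subgroup G), a * b = b * a := by
  rw [← index_commutator_sylow P] at h2
  have hP := P.isPGroup'
  haveI := hP.isNilpotent
  have hbig : p ^ 2 ≤ Nat.card (P : Subgroup G) := by
    rw [← h2]
    exact Nat.le_of_dvd Nat.card_pos (Subgroup.index_dvd_card _)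
  have hsub : ∀ N : Subgroup G, N.Normal → ∀ a b, a ∈ (P : Subgroup G) → b ∈ N ⊓ (P : Subgroup G) →
      a * b * a⁻¹ ∈ N ⊓ (P : Subgroup G) := fun N hN a b ha hb =>
    ⟨hN.conj_mem b hb.1 a, (P : Subgroup G).mul_mem ((P : Subgroup G).mul_mem ha hb.2)
      ((P : Subgroup G).inv_mem ha)⟩
  have hle_comm : ∀ N : Subgroup G, (N ⊓ (P : Subgroup G)).subgroupOf P ≤ commutator (P : Subgroup G) →
      N ⊓ (P : Subgroup G) ≤ ⁅(P : Subgroup G), (P : Subgroup G)⁆ := by
    intro N h x hx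
    rw [← Subgroup.map_subtype_commutator]
    exact ⟨⟨x, hx.2⟩, h hx, rfl⟩
  by_cases hpn : ∃ M : Subgroup G, M.Normal ∧ M ≠ ⊥ ∧ IsPGroup p M
  · obtain ⟨M₀, hM₀, hne₀, hp₀⟩ := hpn
    obtain ⟨M, hM, hne, hle, hmin⟩ := CfsgLib.Solvable.exists_minimal_normal_le M₀ hne₀
    have hMp : IsPGroup p M := hp₀.to_le hle
    haveI := hMp.isNilpotent
    have hab : ∀ a ∈ M, ∀ b ∈ M, a * b = b * a := by
      rcases hmin ⁅M, M⁆ inferInstance (Subgroup.commutator_le_left _ _) with h | h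
      · intro a ha b hb
        rw [← commutatorElement_eq_one_iff_mul_comm, ← Subgroup.mem_bot, ← h]
        exact Subgroup.commutator_mem_commutator ha hb
      · exfalso
        apply hne
        have h1 : commutator M = ⊤ := Subgroup.map_injective M.subtype_injective (by
          rw [Subgroup.map_subtype_commutator, h, ← MonoidHom.range_eq_map, Subgroup.range_subtype])
        have h3 := CfsgLib.Transfer.eq_top_of_sup_commutator (G := M) (X := ⊥) (by rw [h1, bot_sup_eq])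
        rw [eq_bot_iff]
        intro x hx
        have : (⟨x, hx⟩ : M) ∈ (⊥ : Subgroup M) := h3 ▸ Subgroup.mem_top _
        exact congrArg Subtype.val (Subgroup.mem_bot.1 this)
    have hMP : M ≤ (P : Subgroup G) := normal_pgroup_le P hMp
    set Q := (M ⊓ (P : Subgroup G)).subgroupOf P with hQ
    haveI : Q.Normal := ⟨fun x hx g => hsub M hM g x g.2 hx⟩
    have hQn : ¬ Q ≤ commutator (P : Subgroup G) := fun h => hne (le_bot_iff.1 (hcore ▸
      (Subgroup.normal_le_normalCore).2 ((le_inf le_rfl hMP).trans (hle_comm M h))))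
    rcases normal_cases hP h2 Q hQn with htop | ⟨hidx, -, -⟩
    · refine Or.inl (card_eq_of_commutator_eq_bot h2 ?_)
      rw [commutator_def, Subgroup.commutator_eq_bot_iff_le_centralizer]
      intro a _
      refine Subgroup.mem_centralizer_iff.2 fun b _ => Subtype.ext ?_
      have ha : a ∈ Q := htop ▸ Subgroup.mem_top a
      have hb : b ∈ Q := htop ▸ Subgroup.mem_top b
      exact hab (b : G) hb.1 (a : G) ha.1
    · refine Or.inr ⟨M, hM, ?_, fun a ha b hb => hab a ha.1 b hb.1⟩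
      rw [← Subgroup.inf_relIndex_right]
      exact hidx
  push Not at hpn
  -- no nontrivial normal `p`-subgroup
  have hnab : ∀ N : Subgroup G, N.Normal → N ≠ ⊥ → ¬ ∀ a ∈ N, ∀ b ∈ N, a * b = b * a := by
    intro N hN hne hab
    have hdvd : p ∣ Nat.card N := by
      by_contra hd
      exact hne (CfsgLib.Balance.eq_bot_of_subnormal_coprime hO hN.isSubnormal
        ((hp.out.coprime_iff_not_dvd.2 hd).symm))
    obtain ⟨a, ha⟩ := exists_prime_orderOf_dvd_card' (G := N) p hdvd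
    let M₀ : Subgroup G :=
      { carrier := {x | x ∈ N ∧ x ^ p = 1}
        one_mem' := ⟨N.one_mem, one_pow _⟩
        mul_mem' := fun {a b} ha hb => ⟨N.mul_mem ha.1 hb.1, by
          rw [(show Commute a b from hab a ha.1 b hb.1).mul_pow, ha.2, hb.2, one_mul]⟩
        inv_mem' := fun {a} ha => ⟨N.inv_mem ha.1, by rw [inv_pow, ha.2, inv_one]⟩ }
    have hM₀ : M₀.Normal := ⟨fun x hx g => ⟨hN.conj_mem x hx.1 g, by
      rw [conj_pow, hx.2, mul_one, mul_inv_cancel]⟩⟩
    refine hpn M₀ hM₀ ?_ (fun x => ⟨1, Subtype.ext (by rw [pow_one]; exact x.2.2)⟩)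
    intro h
    have h1 : (a : G) ∈ M₀ := ⟨a.2, by
      rw [← Subgroup.coe_pow, ← ha, pow_orderOf_eq_one, Subgroup.coe_one]⟩
    rw [h, Subgroup.mem_bot] at h1
    rw [orderOf_eq_one_iff.2 (Subtype.ext h1)] at ha
    exact hp.out.one_lt.ne ha
  have hQn : ∀ N : Subgroup G, N.Normal → N ≠ ⊥ →
      ¬ (N ⊓ (P : Subgroup G)).subgroupOf P ≤ commutator (P : Subgroup G) := by
    intro N hN hne h
    have hfr : N ⊓ (P : Subgroup G) ≤ (frattini (P : Subgroup G)).map (P : Subgroup G).subtype :=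
      fun x hx => ⟨⟨x, hx.2⟩, CfsgLib.Transfer.commutator_le_frattini (h hx), rfl⟩
    obtain ⟨R, K, hK, hKR⟩ := CfsgLib.Transfer.hasNormalPComplement_of_inf_le_frattini P N hfr
    have hKc : (Nat.card K).Coprime p := by
      refine ((hp.out.coprime_iff_not_dvd.2 fun hd => ?_)).symm
      apply R.not_dvd_index
      have h1 := hKR.card_mul
      rw [← (R : Subgroup N).card_mul_index, mul_comm] at h1
      rwa [← Nat.eq_of_mul_eq_mul_left Nat.card_pos h1]
    have hK0 : K.map N.subtype = ⊥ := CfsgLib.Balance.eq_bot_of_subnormal_coprime hO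
      (Subgroup.IsSubnormal.trans' hK.isSubnormal hN.isSubnormal)
      (by rw [Subgroup.card_map_of_injective N.subtype_injective]; exact hKc)
    rw [Subgroup.map_eq_bot_iff_of_injective _ N.subtype_injective] at hK0
    refine hpn N hN hne ?_
    have h1 := hKR.card_mul
    rw [hK0, Subgroup.card_bot, one_mul] at h1
    obtain ⟨n, hn⟩ := IsPGroup.iff_card.1 R.isPGroup'
    exact IsPGroup.of_card (h1.symm.trans hn)
  have hne' : ∀ A : Subgroup G, A.IsSubnormal → A ≠ ⊥ →
      (A ⊓ (P : Subgroup G)).subgroupOf P ≠ ⊥ := by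
    intro A hA hne h
    refine inf_sylow_ne_bot hO P hA hne (eq_bot_iff.2 fun x hx => ?_)
    have : (⟨x, hx.2⟩ : (P : Subgroup G)) ∈ (A ⊓ (P : Subgroup G)).subgroupOf P := hx
    rw [h, Subgroup.mem_bot] at this
    exact congrArg Subtype.val this
  have hPne : (⊤ : Subgroup G) ≠ ⊥ := by
    intro h
    have := Subgroup.card_subgroup_dvd_card (P : Subgroup G)
    rw [← Subgroup.card_top (G := G), h, Subgroup.card_bot, Nat.dvd_one] at this
    rw [this] at hbig
    exact absurd hbig (not_le.2 (Nat.one_lt_pow (by norm_num) hp.out.one_lt))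
  obtain ⟨N, hN, hNne, -, hNmin⟩ := CfsgLib.Solvable.exists_minimal_normal_le ⊤ hPne
  by_cases hC : Subgroup.centralizer (N : Set G) = ⊥
  swap
  · obtain ⟨K, hK, hKne, hKC, hKmin⟩ := CfsgLib.Solvable.exists_minimal_normal_le _ hC
    have hd : N ⊓ K = ⊥ := by
      refine (hNmin (N ⊓ K) inferInstance inf_le_left).resolve_right fun h => hnab N hN hNne ?_
      intro a ha b hb
      exact (Subgroup.mem_centralizer_iff.1 (hKC ((inf_eq_left.1 h) hb)) a ha)
    set Q := (N ⊓ (P : Subgroup G)).subgroupOf P with hQ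
    set R := (K ⊓ (P : Subgroup G)).subgroupOf P with hR
    haveI : Q.Normal := ⟨fun x hx g => hsub N hN g x g.2 hx⟩
    haveI : R.Normal := ⟨fun x hx g => hsub K hK g x g.2 hx⟩
    have hQR : Q ⊓ R = ⊥ := eq_bot_iff.2 fun x hx => Subtype.ext (by
      have : (x : G) ∈ N ⊓ K := ⟨hx.1.1, hx.2.1⟩
      rwa [hd] at this)
    have hQ0 := hne' N hN.isSubnormal hNne
    have hR0 := hne' K hK.isSubnormal hKne
    rcases normal_cases hP h2 Q (hQn N hN hNne) with h | ⟨hQi, -, -⟩
    · rw [h, top_inf_eq] at hQR; exact absurd hQR hR0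
    rcases normal_cases hP h2 R (hQn K hK hKne) with h | ⟨hRi, -, -⟩
    · rw [h, inf_top_eq] at hQR; exact absurd hQR hQ0
    refine Or.inl (le_antisymm ?_ hbig)
    have h1 := Q.card_mul_index
    have h3 := R.card_mul_index
    rw [hQi] at h1
    rw [hRi] at h3
    have h4 : Nat.card Q * Nat.card R ≤ Nat.card (P : Subgroup G) := by
      rw [← Nat.card_prod]
      exact Nat.card_le_card_of_injective (fun x : Q × R => (x.1 : (P : Subgroup G)) * x.2)
        (Subgroup.mul_injective_of_disjoint (disjoint_iff.2 hQR))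
    have h5 : Nat.card (P : Subgroup G) * Nat.card (P : Subgroup G) ≤
        Nat.card (P : Subgroup G) * (p * p) :=
      calc Nat.card (P : Subgroup G) * Nat.card (P : Subgroup G)
          = Nat.card Q * p * (Nat.card R * p) := by rw [h1, h3]
        _ = Nat.card Q * Nat.card R * (p * p) := by ring
        _ ≤ Nat.card (P : Subgroup G) * (p * p) := Nat.mul_le_mul_right _ h4
    rw [sq]
    exact Nat.le_of_mul_le_mul_left h5 Nat.card_pos
  -- a unique minimal normal subgroup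
  obtain ⟨S, -, hS⟩ := exists_minimal_le_of_wellFoundedLT
    (fun K : Subgroup G => K ≤ N ∧ K ≠ ⊥ ∧ ∀ n ∈ N, ∀ a ∈ K, n * a * n⁻¹ ∈ K) N
    ⟨le_rfl, hNne, fun n hn a ha => N.mul_mem (N.mul_mem hn ha) (N.inv_mem hn)⟩
  obtain ⟨hSN, hSne, hSn⟩ := hS.1
  let cS : G → Subgroup G := fun g => S.map (MulAut.conj g).toMonoidHom
  have hmem_cS : ∀ g x, x ∈ cS g ↔ g⁻¹ * x * g ∈ S := by
    intro g x
    constructor
    · rintro ⟨a, ha, rfl⟩
      simpa [MulAut.conj_apply, mul_assoc] using ha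
    · intro h
      exact ⟨_, h, by simp [MulAut.conj_apply, mul_assoc]⟩
  have hcSN : ∀ g, cS g ≤ N := by
    intro g x hx
    have := hN.conj_mem _ (hSN ((hmem_cS g x).1 hx)) g
    simpa [mul_assoc] using this
  have hcSn : ∀ g, ∀ n ∈ N, ∀ a ∈ cS g, n * a * n⁻¹ ∈ cS g := by
    intro g n hn a ha
    rw [hmem_cS] at ha ⊢
    have := hSn (g⁻¹ * n * g) (by simpa [mul_assoc] using hN.conj_mem n hn g⁻¹) _ ha
    simpa [mul_assoc] using this
  have hmin : ∀ g, ∀ K ≤ cS g, K ≠ ⊥ → (∀ n ∈ N, ∀ a ∈ K, n * a * n⁻¹ ∈ K) → K = cS g := by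
    intro g K hK hKne hKn
    refine le_antisymm hK fun x hx => ?_
    set K' := K.map (MulAut.conj g⁻¹).toMonoidHom with hK'
    have hK'S : K' ≤ S := by
      rintro _ ⟨a, ha, rfl⟩
      simpa [MulAut.conj_apply] using (hmem_cS g a).1 (hK ha)
    have hK'ne : K' ≠ ⊥ := fun h => hKne
      ((Subgroup.map_eq_bot_iff_of_injective _ (MulAut.conj g⁻¹).injective).1 h)
    have hK'n : ∀ n ∈ N, ∀ a ∈ K', n * a * n⁻¹ ∈ K' := by
      rintro n hn _ ⟨a, ha, rfl⟩
      refine ⟨_, hKn (g * n * g⁻¹) (hN.conj_mem n hn g) a ha, ?_⟩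
      simp [MulAut.conj_apply, mul_assoc]
    obtain ⟨a, ha, hax⟩ := hS.2 ⟨hK'S.trans hSN, hK'ne, hK'n⟩ hK'S ((hmem_cS g x).1 hx)
    have : x = a := by
      simp only [MulEquiv.coe_toMonoidHom, MulAut.conj_apply, inv_inv] at hax
      exact (mul_left_cancel (mul_right_cancel hax)).symm
    rwa [this]
  have hcomm : ∀ g h, cS g ≠ cS h → ∀ a ∈ cS g, ∀ b ∈ cS h, a * b = b * a := by
    intro g h hne
    refine commute_of_ne (hcSN g) (hcSN h) (hcSn g) (hcSn h) ?_
    by_contra hd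
    have hnn : ∀ n ∈ N, ∀ a ∈ cS g ⊓ cS h, n * a * n⁻¹ ∈ cS g ⊓ cS h := fun n hn a ha =>
      ⟨hcSn g n hn a ha.1, hcSn h n hn a ha.2⟩
    exact hne ((hmin g _ inf_le_left hd hnn).symm.trans (hmin h _ inf_le_right hd hnn))
  have hgen : ∀ X : Subgroup G, (∀ g, cS g ≤ X) → N ≤ X := by
    intro X hX
    have hY : (⨆ g, cS g).Normal := by
      refine ⟨fun x hx a => ?_⟩
      have hle : (⨆ g, cS g) ≤ (⨆ g, cS g).comap (MulAut.conj a).toMonoidHom := iSup_le fun g y hy => by
        refine Subgroup.mem_comap.2 (le_iSup cS (a * g) ?_)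
        rw [hmem_cS] at hy ⊢
        simpa [MulAut.conj_apply, mul_assoc] using hy
      simpa [MulAut.conj_apply] using hle hx
    have hS1 : S ≤ ⨆ g, cS g := le_trans (fun x hx => (hmem_cS 1 x).2 (by simpa using hx)) (le_iSup cS 1)
    rcases hNmin _ hY (iSup_le hcSN) with h | h
    · exact absurd (le_bot_iff.1 (h ▸ hS1)) hSne
    · exact h ▸ iSup_le hX
  -- the subgroup generated by the `P`-conjugates of `S` and its centralizer in `N`
  set T : Subgroup G := ⨆ g : (P : Subgroup G), cS g with hT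
  set C : Subgroup G := N ⊓ Subgroup.centralizer (T : Set G) with hCdef
  have hcS1 : cS 1 = S := by ext x; rw [hmem_cS]; simp
  have hST : S ≤ T := hcS1 ▸ le_iSup (fun g : (P : Subgroup G) => cS g) 1
  have hTN : T ≤ N := iSup_le fun g => hcSN g
  have hTn : ∀ n ∈ N, ∀ a ∈ T, n * a * n⁻¹ ∈ T := by
    intro n hn a ha
    have hle : T ≤ T.comap (MulAut.conj n).toMonoidHom := iSup_le fun g y hy =>
      Subgroup.mem_comap.2 (le_iSup (fun g : (P : Subgroup G) => cS g) g (hcSn g n hn y hy))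
    simpa [MulAut.conj_apply] using hle ha
  have hTP : ∀ g ∈ (P : Subgroup G), ∀ a ∈ T, g * a * g⁻¹ ∈ T := by
    intro g hg a ha
    have hle : T ≤ T.comap (MulAut.conj g).toMonoidHom := iSup_le fun h y hy => by
      refine Subgroup.mem_comap.2 (le_iSup (fun g : (P : Subgroup G) => cS g) (⟨g, hg⟩ * h) ?_)
      rw [hmem_cS] at hy ⊢
      simpa [MulAut.conj_apply, mul_assoc] using hy
    simpa [MulAut.conj_apply] using hle ha
  have hnormC : ∀ x, (∀ a ∈ T, x⁻¹ * a * x ∈ T) → ∀ c ∈ C, x * c * x⁻¹ ∈ C := by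
    intro x hx c hc
    refine ⟨hN.conj_mem c hc.1 x, Subgroup.mem_centralizer_iff.2 fun a ha => ?_⟩
    have := Subgroup.mem_centralizer_iff.1 hc.2 _ (hx a ha)
    calc a * (x * c * x⁻¹) = x * ((x⁻¹ * a * x) * c) * x⁻¹ := by group
      _ = x * (c * (x⁻¹ * a * x)) * x⁻¹ := by rw [this]
      _ = x * c * x⁻¹ * a := by group
  have hCn : ∀ n ∈ N, ∀ c ∈ C, n * c * n⁻¹ ∈ C := fun n hn => hnormC n fun a ha => by
    simpa using hTn n⁻¹ (N.inv_mem hn) a ha
  have hTC : T ⊔ C = N := by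
    refine le_antisymm (sup_le hTN inf_le_left) (hgen _ fun g => ?_)
    by_cases h : ∃ a : (P : Subgroup G), cS g = cS a
    · obtain ⟨a, ha⟩ := h
      exact ha ▸ le_sup_of_le_left (le_iSup (fun g : (P : Subgroup G) => cS g) a)
    · refine le_sup_of_le_right fun x hx => ⟨hcSN g hx, ?_⟩
      have : T ≤ Subgroup.centralizer ({x} : Set G) := iSup_le fun a y hy =>
        Subgroup.mem_centralizer_singleton_iff.2
          (hcomm g a (fun he => h ⟨a, he⟩) x hx y hy).symm
      exact Subgroup.mem_centralizer_iff.2 fun y hy => Subgroup.mem_centralizer_singleton_iff.1 (this hy)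
  have hcommTC : ∀ a ∈ T, ∀ b ∈ C, a * b = b * a := fun a ha b hb =>
    Subgroup.mem_centralizer_iff.1 hb.2 a ha
  have hTCd : T ⊓ C = ⊥ := by
    rw [eq_bot_iff, ← hC]
    rintro x ⟨hxT, hxC⟩
    refine Subgroup.mem_centralizer_iff.2 fun n hn => ?_
    obtain ⟨a, ha, b, hb, rfl⟩ := exists_mul_of_mem_sup hcommTC (hTC.symm ▸ hn : n ∈ T ⊔ C)
    have h1 : Commute a x := hcommTC a ha x hxC
    have h3 : Commute b x := (hcommTC x hxT b hb).symm
    exact (h1.mul_left h3).eq
  set Q := (N ⊓ (P : Subgroup G)).subgroupOf P with hQ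
  haveI : Q.Normal := ⟨fun x hx g => hsub N hN g x g.2 hx⟩
  have hsnT := isSubnormal_of_le N hTN hTn
  have hsnC := isSubnormal_of_le N (inf_le_left : C ≤ N) hCn
  by_cases hCb : C = ⊥
  swap
  · refine Or.inl ?_
    haveI : ((T ⊓ (P : Subgroup G)).subgroupOf P).Normal := ⟨fun x hx g =>
      ⟨hTP g g.2 x hx.1, (P : Subgroup G).mul_mem ((P : Subgroup G).mul_mem g.2 hx.2)
        ((P : Subgroup G).inv_mem g.2)⟩⟩
    haveI : ((C ⊓ (P : Subgroup G)).subgroupOf P).Normal := ⟨fun x hx g =>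
      ⟨hnormC g (fun a ha => by
          simpa using hTP (g : G)⁻¹ ((P : Subgroup G).inv_mem g.2) a ha) x hx.1,
        (P : Subgroup G).mul_mem ((P : Subgroup G).mul_mem g.2 hx.2)
        ((P : Subgroup G).inv_mem g.2)⟩⟩
    refine card_eq_of_two_factors hP h2 Q _ _ (hne' T hsnT ?_) (hne' C hsnC hCb) ?_ ?_
      (hQn N hN hNne)
    · exact fun h => hSne (le_bot_iff.1 (h ▸ hST))
    · rw [eq_bot_iff]
      intro x hx
      have : (x : G) ∈ T ⊓ C := ⟨hx.1.1, hx.2.1⟩
      rw [hTCd] at this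
      exact Subgroup.mem_bot.2 (Subtype.ext (Subgroup.mem_bot.1 this))
    · rw [hQ, ← sylow_inf_eq_sup P hsnT hsnC hN.isSubnormal hcommTC hTCd hTC,
        Subgroup.subgroupOf_sup inf_le_right inf_le_right]
  -- the conjugates are permuted transitively
  have hTN' : T = N := by rw [← hTC, hCb, sup_bot_eq]
  obtain ⟨g₀, hg₀⟩ : ∃ g : (P : Subgroup G), cS g ≠ S := by
    by_contra hh
    push Not at hh
    have hSeq : S = N := by rw [← hTN', hT]; simp [hh]
    refine hnas ⟨N, hN, ?_, fun h => hnab N hN hNne fun a ha b hb => ?_, hC⟩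
    · haveI : Nontrivial N := (Subgroup.nontrivial_iff_ne_bot N).2 hNne
      refine ⟨fun K hK => ?_⟩
      by_cases hKb : K.map N.subtype = ⊥
      · exact Or.inl ((Subgroup.map_eq_bot_iff_of_injective _ N.subtype_injective).1 hKb)
      · refine Or.inr ?_
        have h1 : K.map N.subtype = cS 1 := hmin 1 _ (by
            rw [hcS1, hSeq]; exact Subgroup.map_subtype_le K) hKb (by
          rintro n hn _ ⟨a, ha, rfl⟩
          exact ⟨⟨n, hn⟩ * a * ⟨n, hn⟩⁻¹, hK.conj_mem a ha _, rfl⟩)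
        refine Subgroup.map_injective N.subtype_injective ?_
        rw [h1, hcS1, hSeq, ← MonoidHom.range_eq_map, Subgroup.range_subtype]
    · exact congrArg Subtype.val (@mul_comm' _ _ h ⟨a, ha⟩ ⟨b, hb⟩)
  -- `Q` normalizes `S`
  have hQS : ∀ q ∈ Q, cS q = S := by
    intro q hq
    ext x
    rw [hmem_cS]
    have hqN : (q : G) ∈ N := hq.1
    constructor
    · intro h
      simpa [mul_assoc] using hSn q hqN _ h
    · intro h
      simpa [mul_assoc] using hSn _ (N.inv_mem hqN) x h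
  rcases normal_cases hP h2 Q (hQn N hN hNne) with htop | ⟨hidx, -, y, hyQ, hytop⟩
  · exact absurd (hQS g₀ (htop ▸ Subgroup.mem_top g₀)) hg₀
  refine Or.inr ⟨N, hN, by rw [← Subgroup.inf_relIndex_right]; exact hidx, ?_⟩
  let St : Subgroup (P : Subgroup G) :=
    { carrier := {g | ∀ x, x ∈ S ↔ (g : G) * x * (g : G)⁻¹ ∈ S}
      one_mem' := fun x => by simp
      mul_mem' := fun {a b} ha hb x => by
        rw [hb x, ha]
        simp [mul_assoc]
      inv_mem' := fun {a} ha x => by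
        rw [Subgroup.coe_inv, ha ((a : G)⁻¹ * x * ((a : G)⁻¹)⁻¹)]
        simp [mul_assoc] }
  have hSt : ∀ g : (P : Subgroup G), g ∈ St → cS g = S := by
    intro g hg
    ext x
    rw [hmem_cS, hg ((g : G)⁻¹ * x * g)]
    simp [mul_assoc]
  have hQSt : Q ≤ St := fun q hq x => by
    have hqN : (q : G) ∈ N := hq.1
    exact ⟨fun h => hSn q hqN x h, fun h => by simpa [mul_assoc] using hSn _ (N.inv_mem hqN) _ h⟩
  have hmove : ∀ i, 0 < i → i < p → cS ((y ^ i : (P : Subgroup G)) : G) ≠ S := by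
    intro i hi hip he
    have hyi : y ^ i ∈ St := by
      intro x
      conv_rhs => rw [← he, hmem_cS]
      simp [mul_assoc]
    have hynot : y ^ i ∉ Q := by
      intro hmem
      have h1 : ((y : (P : Subgroup G) ⧸ Q)) ^ i = 1 := by
        rw [← QuotientGroup.mk_pow]; exact (QuotientGroup.eq_one_iff _).2 hmem
      have h3 : orderOf (y : (P : Subgroup G) ⧸ Q) = p :=
        (hp.out.eq_one_or_self_of_dvd _ (by
          have h := orderOf_dvd_natCard (y : (P : Subgroup G) ⧸ Q)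
          rwa [← Subgroup.index_eq_card, hidx] at h)).resolve_left
          fun h => hyQ ((QuotientGroup.eq_one_iff y).1 (orderOf_eq_one_iff.1 h))
      have := Nat.le_of_dvd hi (h3 ▸ orderOf_dvd_of_pow_eq_one h1)
      omega
    refine hg₀ (hSt g₀ ?_)
    have : St = ⊤ := top_le_iff.1 ((CfsgLib.PGroup.AbelianMax.sup_zpowers_eq_top Q (by rw [hidx]; exact hp.out)
      (y ^ i) hynot).ge.trans (sup_le hQSt (Subgroup.zpowers_le.2 hyi)))
    exact this ▸ Subgroup.mem_top g₀
  -- projection to the quotient isomorphic to `S`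
  set CS : Subgroup G := N ⊓ Subgroup.centralizer (S : Set G) with hCS
  have hCSn : ∀ n ∈ N, ∀ c ∈ CS, n * c * n⁻¹ ∈ CS := by
    intro n hn c hc
    refine ⟨hN.conj_mem c hc.1 n, Subgroup.mem_centralizer_iff.2 fun a ha => ?_⟩
    have := Subgroup.mem_centralizer_iff.1 hc.2 _ (hSn _ (N.inv_mem hn) a ha)
    calc a * (n * c * n⁻¹) = n * ((n⁻¹ * a * n⁻¹⁻¹) * c) * n⁻¹ := by group
      _ = n * (c * (n⁻¹ * a * n⁻¹⁻¹)) * n⁻¹ := by rw [this]
      _ = n * c * n⁻¹ * a := by group
  have hScomm : ∀ a ∈ S, ∀ b ∈ CS, a * b = b * a := fun a ha b hb =>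
    Subgroup.mem_centralizer_iff.1 hb.2 a ha
  have hSCS : S ⊔ CS = N := by
    refine le_antisymm (sup_le hSN inf_le_left) (hgen _ fun g => ?_)
    by_cases h : cS g = S
    · exact h ▸ le_sup_left
    · refine le_sup_of_le_right fun x hx => ⟨hcSN g hx, Subgroup.mem_centralizer_iff.2 fun a ha => ?_⟩
      exact hcomm 1 g (fun he => h (he ▸ hcS1)) a (hcS1.symm ▸ ha) x hx
  have hSd : S ⊓ CS = ⊥ := by
    rw [eq_bot_iff, ← hC]
    rintro x ⟨hxS, hxC⟩
    refine Subgroup.mem_centralizer_iff.2 fun n hn => ?_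
    obtain ⟨a, ha, b, hb, rfl⟩ := exists_mul_of_mem_sup hScomm (hSCS.symm ▸ hn : n ∈ S ⊔ CS)
    have h1 : Commute a x := hScomm a ha x hxC
    have h3 : Commute b x := (hScomm x hxS b hb).symm
    exact (h1.mul_left h3).eq
  let CS' : Subgroup N := CS.subgroupOf N
  haveI : CS'.Normal := ⟨fun c hc n => hCSn n n.2 c hc⟩
  let Qg : Subgroup G := N ⊓ (P : Subgroup G)
  let π₀ : Qg →* N ⧸ CS' := (QuotientGroup.mk' CS').comp (Subgroup.inclusion inf_le_left)
  let α : Qg →* Abelianization π₀.range := Abelianization.of.comp π₀.rangeRestrict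
  let cj : ↥(P : Subgroup G) → Qg →* Qg := fun g => MonoidHom.mk'
    (fun q => ⟨(g : G) * q * (g : G)⁻¹, hsub N hN g q g.2 q.2⟩)
    (fun a b => Subtype.ext (by simp [mul_assoc]))
  have hcj : ∀ g h : (P : Subgroup G), ∀ q, cj (g * h) q = cj g (cj h q) := fun g h q =>
    Subtype.ext (by simp [cj, mul_assoc])
  have hα : ∀ g : Qg, ∀ q, α (cj ⟨g, g.2.2⟩ q) = α q := by
    intro g q
    have : cj ⟨g, g.2.2⟩ q = g * q * g⁻¹ := Subtype.ext rfl
    rw [this, map_mul, map_mul, map_inv, mul_comm (α g), mul_inv_cancel_right]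
  let f : Qg →* Abelianization π₀.range := MonoidHom.mk'
    (fun q => ∏ i ∈ Finset.range p, α (cj (y ^ i) q))
    (fun a b => by simp [Finset.prod_mul_distrib])
  have hypow : y ^ p ∈ Q := by
    rw [← QuotientGroup.eq_one_iff, QuotientGroup.mk_pow]
    have := pow_card_eq_one' (x := (y : (P : Subgroup G) ⧸ Q))
    rwa [← Subgroup.index_eq_card, hidx] at this
  have hfy : ∀ q, f (cj y q) = f q := by
    intro q
    show ∏ i ∈ Finset.range p, α (cj (y ^ i) (cj y q)) = ∏ i ∈ Finset.range p, α (cj (y ^ i) q)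
    simp only [← hcj, ← pow_succ]
    have h1 := Finset.prod_range_succ' (fun i => α (cj (y ^ i) q)) p
    rw [Finset.prod_range_succ, pow_zero] at h1
    have h3 : α (cj (y ^ p) q) = α (cj 1 q) := by
      exact (hα ⟨_, hypow⟩ q).trans (congrArg α (Subtype.ext (by simp [cj])))
    rw [h3] at h1
    exact (mul_right_cancel h1).symm
  have hfq : ∀ g : Qg, ∀ q, f (cj ⟨g, g.2.2⟩ q) = f q := by
    intro g q
    have : cj ⟨g, g.2.2⟩ q = g * q * g⁻¹ := Subtype.ext rfl
    rw [this, map_mul, map_mul, map_inv, mul_comm (f g), mul_inv_cancel_right]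
  have hinv : ∀ g : (P : Subgroup G), ∀ q, f (cj g q) = f q := by
    let Inv : Subgroup (P : Subgroup G) :=
      { carrier := {g | ∀ q, f (cj g q) = f q}
        one_mem' := fun q => congrArg f (Subtype.ext (by simp [cj]))
        mul_mem' := fun {a b} ha hb q => by rw [hcj, ha, hb]
        inv_mem' := fun {a} ha q => by
          rw [← ha (cj a⁻¹ q), ← hcj, mul_inv_cancel]
          exact congrArg f (Subtype.ext (by simp [cj])) }
    intro g
    have : Inv = ⊤ := top_le_iff.1 (hytop.ge.trans (sup_le (fun q hq r => hfq ⟨q, hq⟩ r)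
      (Subgroup.zpowers_le.2 hfy)))
    exact (this ▸ Subgroup.mem_top g : g ∈ Inv)
  have hsurj : Function.Surjective f := by
    intro v
    obtain ⟨w, rfl⟩ := QuotientGroup.mk_surjective v
    obtain ⟨q, hq⟩ := π₀.rangeRestrict_surjective w
    obtain ⟨r, hr, c, hc, hrc⟩ := exists_mul_of_mem_sup (A := S ⊓ (P : Subgroup G))
      (B := CS ⊓ (P : Subgroup G)) (fun a ha b hb => hScomm a ha.1 b hb.1)
      ((sylow_inf_eq_sup P (isSubnormal_of_le N hSN hSn)
        (isSubnormal_of_le N inf_le_left hCSn) hN.isSubnormal hScomm hSd hSCS).symm ▸ q.2 :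
        (q : G) ∈ (S ⊓ (P : Subgroup G)) ⊔ (CS ⊓ (P : Subgroup G)))
    refine ⟨⟨r, hSN hr.1, hr.2⟩, ?_⟩
    have hone : ∀ i ∈ Finset.range p, i ≠ 0 → α (cj (y ^ i) ⟨r, hSN hr.1, hr.2⟩) = 1 := by
      intro i hi hi0
      have h1 : π₀ (cj (y ^ i) ⟨r, hSN hr.1, hr.2⟩) = 1 := by
        refine (QuotientGroup.eq_one_iff _).2 ⟨hN.conj_mem r (hSN hr.1) _,
          Subgroup.mem_centralizer_iff.2 fun a ha => ?_⟩
        exact hcomm 1 _ (fun he => hmove i (Nat.pos_of_ne_zero hi0) (Finset.mem_range.1 hi)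
          (he ▸ hcS1)) a (hcS1.symm ▸ ha) _ ((hmem_cS _ _).2 (by simpa [cj, mul_assoc] using hr.1))
      show Abelianization.of (π₀.rangeRestrict _) = 1
      rw [show π₀.rangeRestrict (cj (y ^ i) ⟨r, hSN hr.1, hr.2⟩) = 1 from Subtype.ext h1, map_one]
    show ∏ i ∈ Finset.range p, α (cj (y ^ i) ⟨r, hSN hr.1, hr.2⟩) = _
    rw [Finset.prod_eq_single 0 hone (fun h => absurd (Finset.mem_range.2 hp.out.pos) h)]
    show Abelianization.of (π₀.rangeRestrict _) = Abelianization.of w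
    congr 1
    rw [← hq]
    refine Subtype.ext (QuotientGroup.eq.2 ?_)
    show (cj (y ^ 0) ⟨r, hSN hr.1, hr.2⟩ : G)⁻¹ * (q : G) ∈ CS
    simpa [cj, hrc] using hc.1
  let ι : Qg →* (P : Subgroup G) := Subgroup.inclusion inf_le_right
  let M := f.ker.map ι
  have hMn : M.Normal := ⟨by
    rintro _ ⟨q, hq, rfl⟩ g
    exact ⟨cj g q, MonoidHom.mem_ker.2 (by rw [hinv]; exact hq), Subtype.ext rfl⟩⟩
  have hcomm_le : commutator (P : Subgroup G) ≤ M := by
    refine commutator_le_of_central Q M y hytop fun q hq x => ?_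
    refine ⟨⟨q, hq⟩ * cj x ⟨q, hq⟩⁻¹, MonoidHom.mem_ker.2 ?_, Subtype.ext ?_⟩
    · rw [map_mul, hinv, map_inv, mul_inv_cancel]
    · simp [ι, cj, commutatorElement_def, mul_assoc]
  have hA : Nat.card (Abelianization π₀.range) ≤ p := by
    have h1 := Nat.le_of_dvd (by rw [h2]; exact pow_pos hp.out.pos 2)
      (Subgroup.index_dvd_of_le hcomm_le)
    have h3 := M.card_mul_index
    have h4 := Q.card_mul_index
    have h5 := f.ker.card_mul_index
    rw [Subgroup.index_ker, MonoidHom.range_eq_top.2 hsurj, Subgroup.card_top] at h5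
    rw [h2] at h1
    rw [hidx, show Nat.card Q = Nat.card Qg from Nat.card_congr
      (Subgroup.subgroupOfEquivOfLe inf_le_right).toEquiv, ← h5,
      ← Subgroup.card_map_of_injective (Subgroup.inclusion_injective (inf_le_right : Qg ≤ (P : Subgroup G))) (K := f.ker), ← h3,
      mul_assoc] at h4
    rw [← Nat.eq_of_mul_eq_mul_left Nat.card_pos h4, sq] at h1
    exact Nat.le_of_mul_le_mul_right h1 hp.out.pos
  have hR : IsPGroup p π₀.range :=
    (hP.to_le (inf_le_right : Qg ≤ (P : Subgroup G))).of_surjective π₀.rangeRestrict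
      π₀.rangeRestrict_surjective
  have hcommR := commutator_eq_bot_of_index_le hR (by rw [Subgroup.index_eq_card]; exact hA)
  intro a ha b hb
  rw [← commutatorElement_eq_one_iff_mul_comm, ← Subgroup.mem_bot, ← hCb]
  set a' : Qg := ⟨a, ha⟩
  set b' : Qg := ⟨b, hb⟩
  refine ⟨(⁅a', b'⁆ : Qg).2.1, Subgroup.mem_centralizer_iff.2 fun t ht => ?_⟩
  have hle : T ≤ Subgroup.centralizer ({⁅a, b⁆} : Set G) := iSup_le fun g x hx => by
    have h1 : π₀ (cj g⁻¹ ⁅a', b'⁆) = 1 := by
      have h3 : π₀.rangeRestrict ⁅cj g⁻¹ a', cj g⁻¹ b'⁆ = 1 := by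
        rw [map_commutatorElement, ← Subgroup.mem_bot, ← hcommR, commutator_def]
        exact Subgroup.commutator_mem_commutator (Subgroup.mem_top _) (Subgroup.mem_top _)
      rw [map_commutatorElement]
      exact congrArg Subtype.val h3
    have h3 : (g : G)⁻¹ * ⁅a, b⁆ * g ∈ CS := by
      have := (QuotientGroup.eq_one_iff _).1 h1
      simpa [cj, CS', Subgroup.mem_subgroupOf, commutatorElement_def, a', b'] using this
    refine Subgroup.mem_centralizer_singleton_iff.2 ?_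
    have h4 := Subgroup.mem_centralizer_iff.1 h3.2 _ ((hmem_cS _ x).1 hx)
    calc x * ⁅a, b⁆ = g * ((g : G)⁻¹ * x * g * ((g : G)⁻¹ * ⁅a, b⁆ * g)) * (g : G)⁻¹ := by group
      _ = g * ((g : G)⁻¹ * ⁅a, b⁆ * g * ((g : G)⁻¹ * x * g)) * (g : G)⁻¹ := by rw [h4]
      _ = ⁅a, b⁆ * x := by group
  exact (Subgroup.mem_centralizer_singleton_iff.1 (hle ht))

end CfsgLib.AbPSq
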