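import Cfsg.Agent.Lib.BlockPrincipal.Cover
import Cfsg.Agent.Lib.Char.Clifford
import Cfsg.Agent.Lib.Char.Equiv
import Cfsg.Agent.Lib.Char.Induced
import Cfsg.Agent.Lib.Char.Complete
import Cfsg.Agent.Lib.CharDeep.Extend
import Cfsg.Agent.Lib.CharDeep.Gallagher
import Cfsg.Agent.Lib.WreathEmbed.Basic
import Cfsg.Agent.S0886

/-!
Alperin's isomorphism of principal blocks: if `N` is normal of `p'` index and `G = N·C(P)`, every
character of the principal block of `N` has exactly one extension in the principal block of `G`.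
-/

set_option autoImplicit false

open Cfsg CfsgLib.BlockReg CfsgLib.BlockPrincipal CfsgLib.CharTwist

namespace CfsgLib.PrincipalCover

universe u

variable {p : ℕ} [Fact p.Prime] {M : Ideal Cfsg.AlgInt}

/-- An irreducible character of a commutative group has degree one. -/
theorem irr_apply_one_of_comm {Q : Type u} [Group Q] [Finite Q]
    (hc : ∀ a b : Q, a * b = b * a) {β : Q → ℂ} (hβ : IsIrrCharacter Q β) : β 1 = 1 := by
  obtain ⟨n, ρ, hρ, rfl⟩ := hβ
  have hnt := CharKernel.nontrivial_of_irreducible ρ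
  obtain ⟨v, hv⟩ := exists_ne (0 : Fin n → ℂ)
  rcases CharKernel.eq_bot_or_eq_top ρ (Submodule.span ℂ {v}) (fun g w hw => by
    obtain ⟨c, hcg⟩ := Char.exists_scalar_of_commute ρ (ρ g)
      (fun h => by rw [← map_mul, ← map_mul, hc])
    rw [hcg, LinearMap.smul_apply, Module.End.one_apply]
    exact Submodule.smul_mem _ c hw) with h | h
  · exact absurd ((Submodule.span_singleton_eq_bot).1 h) hv
  · rw [Representation.char_one, ← finrank_top ℂ (Fin n → ℂ), ← h, finrank_span_singleton hv,
      Nat.cast_one]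

/-- A root of unity of order prime to `p` congruent to `1` is `1`. -/
theorem eq_one_of_sub_one_memIdeal (hM : IsPModular p M) {z : ℂ} {n : ℕ} (hn : ¬ p ∣ n)
    (hz : z ^ n = 1) (h : MemLocalIdeal M (z - 1)) : z = 1 := by
  by_contra hne
  have hn0 : 0 < n := Nat.pos_of_ne_zero fun h0 => hn (h0 ▸ dvd_zero p)
  have hg : ∑ i ∈ Finset.range n, z ^ i = 0 := by
    have := geom_sum_mul z n
    rw [hz, sub_self, mul_eq_zero] at this
    exact this.resolve_right (sub_ne_zero.2 hne)
  have h1 : MemLocalIdeal M (∑ i ∈ Finset.range n, (z ^ i - 1)) := by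
    refine memIdeal_sum hM _ fun i _ => ?_
    rw [← geom_sum_mul z i]
    exact memIdeal_mul_left hM (memRing_sum hM _ fun j _ =>
      memRing_pow hM (memRing_of_pow_eq_one hM hn0 hz) j) h
  rw [Finset.sum_sub_distrib, hg, Finset.sum_const, Finset.card_range, nsmul_eq_mul, mul_one,
    zero_sub] at h1
  refine not_memIdeal_natCast hM hn ?_
  simpa using memIdeal_neg h1

variable {G : Type u} [Group G] [Fintype G] {P N : Subgroup G} [N.Normal]

/-- The regular sum of an induced class function. -/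
theorem regSum_indFun (H : Subgroup G) [Fintype H] (θ : H → ℂ) :
    regSum p (Cfsg.indFun H θ) = (H.index : ℂ) * regSum p θ := by
  classical
  have hx : ∀ x : G, (∑ g ∈ Finset.univ.filter (fun g : G => ¬ p ∣ orderOf g),
      extendByZero H θ (x⁻¹ * g * x)) = regSum p θ := by
    intro x
    have h1 : (∑ g ∈ Finset.univ.filter (fun g : G => ¬ p ∣ orderOf g),
        extendByZero H θ (x⁻¹ * g * x)) =
        ∑ g ∈ Finset.univ.filter (fun g : G => ¬ p ∣ orderOf g), extendByZero H θ g := by
      refine Finset.sum_equiv (MulAut.conj x⁻¹).toEquiv (fun g => ?_) (fun g _ => ?_)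
      · simp only [Finset.mem_filter, Finset.mem_univ, true_and]
        rw [show orderOf ((MulAut.conj x⁻¹).toEquiv g) = orderOf g from
          MulEquiv.orderOf_eq (MulAut.conj x⁻¹) g]
      · simp [mul_assoc]
    rw [h1, Finset.sum_filter]
    have h2 := Char.sum_extendByZero_mul H θ (fun g => if ¬ p ∣ orderOf g then (1 : ℂ) else 0)
    simp only [mul_ite, mul_one, mul_zero] at h2
    rw [h2, regSum, Finset.sum_filter]
    exact Finset.sum_congr rfl fun h _ => if_congr (by rw [Subgroup.orderOf_coe]) rfl rfl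
  unfold regSum
  simp only [Char.indFun_apply]
  rw [← Finset.mul_sum, Finset.sum_comm, Finset.sum_congr rfl fun x _ => hx x, Finset.sum_const,
    Finset.card_univ, nsmul_eq_mul, ← mul_assoc, ← Nat.card_eq_fintype_card,
    ← H.card_mul_index, Nat.cast_mul, ← mul_assoc, inv_mul_cancel₀ (by
      exact_mod_cast Nat.card_pos.ne'), one_mul]
  rfl

/-- Twisting by a linear character of the quotient. -/
theorem s_linear_mul (l : G →* ℂˣ) (hl : ∀ n ∈ N, l n = 1) (η : G → ℂ) (g : G) :
    s p N (fun x => (l x : ℂ) * η x) (g : G ⧸ N) = (l g : ℂ) * s p N η (g : G ⧸ N) := by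
  simp only [s, map_one, Units.val_one, one_mul]
  rw [← mul_div_assoc, Finset.mul_sum]
  congr 1
  refine Finset.sum_congr rfl fun x hx => ?_
  have hxg : x⁻¹ * g ∈ N := QuotientGroup.eq.1 (mem_S.1 hx).2
  have h1 := hl _ hxg
  rw [map_mul, map_inv, inv_mul_eq_one] at h1
  rw [h1]

/-- A nontrivial linear character of the quotient makes a twist leave the principal block. -/
theorem twist_not_mem (hM : IsPModular p M) (h : Hyp p P N) {χ : IrrCharacter G}
    (hg : Good p M P N (χ : G → ℂ)) (l : G →* ℂˣ) (hl : ∀ n ∈ N, l n = 1) (hne : l ≠ 1)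
    {χ' : IrrCharacter G} (hχ' : ∀ g, (χ' : G → ℂ) g = (l g : ℂ) * (χ : G → ℂ) g) :
    χ' ∉ principalBlock M G := by
  classical
  let _ := Fintype.ofFinite (G ⧸ N)
  let L : G ⧸ N →* ℂˣ := QuotientGroup.lift N l fun n hn => MonoidHom.mem_ker.2 (hl n hn)
  rw [mem_principal_iff hM, not_not, regSum_div_eq (N := N)]
  have hsum : ∑ q : G ⧸ N, (L q : ℂ) = 0 := by
    obtain ⟨g, hg'⟩ : ∃ g, l g ≠ 1 := by
      by_contra hall
      push Not at hall
      exact hne (MonoidHom.ext hall)
    have h1 : (L (g : G ⧸ N) : ℂ) * ∑ q : G ⧸ N, (L q : ℂ) = ∑ q : G ⧸ N, (L q : ℂ) := by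
      rw [Finset.mul_sum]
      refine Fintype.sum_equiv (Equiv.mulLeft (g : G ⧸ N)) _ _ fun q => ?_
      rw [Equiv.coe_mulLeft, map_mul, Units.val_mul]
    by_contra hc
    exact hg' (Units.ext ((mul_left_eq_self₀.1 h1).resolve_right hc))
  have hterm : ∀ q : G ⧸ N, s p N (χ' : G → ℂ) q = (L q : ℂ) * s p N (χ : G → ℂ) q := by
    intro q
    obtain ⟨g, rfl⟩ := QuotientGroup.mk_surjective q
    rw [show (χ' : G → ℂ) = fun x => (l x : ℂ) * (χ : G → ℂ) x from funext hχ',
      s_linear_mul l hl]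
    rfl
  rw [Finset.sum_congr rfl fun q _ => hterm q]
  have hroot : ∀ q : G ⧸ N, MemLocalRing M (L q : ℂ) := fun q => by
    refine memRing_of_pow_eq_one hM (Nat.card_pos (α := G ⧸ N)) ?_
    rw [← Units.val_pow_eq_pow_val, ← map_pow, pow_card_eq_one', map_one, Units.val_one]
  have h2 : MemLocalIdeal M
      (∑ q : G ⧸ N, ((L q : ℂ) * s p N (χ : G → ℂ) q - (L q : ℂ) * (cnt p P N : ℂ))) :=
    memIdeal_sum hM _ fun q _ => by
      rw [← mul_sub]; exact memIdeal_mul_left hM (hroot q) (hg q)
  rwa [Finset.sum_sub_distrib, ← Finset.sum_mul _ _ (cnt p P N : ℂ), hsum, zero_mul, sub_zero] at h2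

/-- Some member of the principal block lies over a given member of that of `N`. -/
theorem exists_over (hM : IsPModular p M) [Fintype N] (hidx : ¬ p ∣ N.index) {θ : IrrCharacter N}
    (hθ : θ ∈ principalBlock M N) : ∃ χ : IrrCharacter G, χ ∈ principalBlock M G ∧
      classInner (fun n : N => (χ : G → ℂ) n) (θ : N → ℂ) ≠ 0 := by
  classical
  by_contra hno
  push Not at hno
  refine not_memIdeal_mul hM (memRing_natCast hM N.index) (memRing_regSum_div hM θ)
    (not_memIdeal_natCast hM hidx) ((mem_principal_iff hM θ).1 hθ) ?_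
  rw [← mul_div_assoc, ← regSum_indFun N (θ : N → ℂ)]
  have hcl := Char.isClassFunction_indFun N (θ : N → ℂ)
  rw [Char.IsClassFunction.eq_sum_classInner hcl]
  simp only [regSum, Finset.sum_apply, Pi.smul_apply, smul_eq_mul]
  rw [Finset.sum_comm, Finset.sum_div]
  refine memIdeal_sum hM _ fun χ _ => ?_
  by_cases hc : classInner (fun n : N => (χ : G → ℂ) n) (θ : N → ℂ) = 0
  · rw [Char.classInner_indFun N _ _ (Char.IsIrrCharacter.isClassFunction χ.2),
      ← Char.classInner_conj_symm, hc, map_zero]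
    simp [memIdeal_zero hM]
  have hχ : χ ∉ principalBlock M G := fun hh => hc (hno χ hh)
  rw [mem_principal_iff hM, not_not] at hχ
  obtain ⟨m, hm⟩ := Char.IsCharacter.exists_nat_classInner
    (Clifford.isCharacter_res (Char.IsIrrCharacter.isCharacter χ.2) N) θ.2
  rw [Char.classInner_indFun N _ _ (Char.IsIrrCharacter.isClassFunction χ.2),
    ← Char.classInner_conj_symm, hm, map_natCast, ← Finset.mul_sum]
  have h1 : (χ : G → ℂ) 1 = ((m * (inertia N (θ : N → ℂ)).index : ℕ) : ℂ) * (θ : N → ℂ) 1 := by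
    rw [Clifford.apply_one_eq N χ.2 θ.2 hc, hm]; push_cast; ring
  rw [show ((m : ℂ) * ∑ x ∈ Finset.univ.filter (fun x : G => ¬ p ∣ orderOf x), (χ : G → ℂ) x) /
      (θ : N → ℂ) 1 = ((m * (m * (inertia N (θ : N → ℂ)).index) : ℕ) : ℂ) *
        (regSum p (χ : G → ℂ) / (χ : G → ℂ) 1) by
    have hd := deg_ne_zero χ
    have hθd := deg_ne_zero θ
    unfold regSum
    field_simp
    rw [h1]
    push_cast
    ring]
  exact memIdeal_mul_left hM (memRing_natCast hM _) hχ

/-- Over a cyclic quotient: the good extension. -/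
theorem exists_good_of_cyclic (hM : IsPModular p M) (h : Hyp p P N) (hcyc : IsCyclic (G ⧸ N))
    {θ : IrrCharacter N} (hθ : θ ∈ principalBlock M N) :
    ∃ χ : IrrCharacter G, (∀ n : N, (χ : G → ℂ) n = (θ : N → ℂ) n) ∧
      Good p M P N (χ : G → ℂ) := by
  classical
  let _ := Fintype.ofFinite N
  let _ : CommGroup (G ⧸ N) := hcyc.commGroup
  obtain ⟨χ, hχ, hover⟩ := exists_over hM h.index_not_dvd hθ
  have hgood : Good p M P N (χ : G → ℂ) := fun q =>
    s_sub_cnt_of_principal hM h hχ q fun r => mul_comm r q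
  have hle := le_inertia N (Char.IsIrrCharacter.isClassFunction θ.2)
  have hinv : ∀ g : G, g ∈ inertia N (θ : N → ℂ) := by
    by_contra hno
    push Not at hno
    obtain ⟨g, hg⟩ := hno
    set T := inertia N (θ : N → ℂ)
    let _ := Fintype.ofFinite T
    set T' := T.map (QuotientGroup.mk' N)
    have hT' : (g : G ⧸ N) ∉ T' := by
      rintro ⟨t, ht, hte⟩
      have h1 : t⁻¹ * g ∈ N := QuotientGroup.eq.1 hte
      have := T.mul_mem ht (hle h1)
      rw [mul_inv_cancel_left] at this
      exact hg this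
    have hTn : T.Normal := ⟨fun t ht x => by
      have h1 : ((x * t * x⁻¹ : G) : G ⧸ N) = (t : G ⧸ N) := by
        rw [QuotientGroup.mk_mul, QuotientGroup.mk_mul, QuotientGroup.mk_inv, mul_comm (x : G ⧸ N),
          mul_inv_cancel_right]
      have h2 : t⁻¹ * (x * t * x⁻¹) ∈ N := QuotientGroup.eq.1 h1.symm
      have := T.mul_mem ht (hle h2)
      rwa [mul_inv_cancel_left] at this⟩
    have : T'.Normal := Subgroup.normal_of_comm T'
    have hne : ((g : G ⧸ N) : (G ⧸ N) ⧸ T') ≠ 1 := fun e => hT' ((QuotientGroup.eq_one_iff _).1 e)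
    obtain ⟨f, hf⟩ := CommGroup.exists_apply_ne_one_of_hasEnoughRootsOfUnity
      ((G ⧸ N) ⧸ T') ℂ hne
    let l : G →* ℂˣ := f.comp ((QuotientGroup.mk' T').comp (QuotientGroup.mk' N))
    have hlT : ∀ t ∈ T, l t = 1 := fun t ht => by
      show f (((t : G ⧸ N)) : (G ⧸ N) ⧸ T') = 1
      rw [(QuotientGroup.eq_one_iff (N := T') (t : G ⧸ N)).2 ⟨t, ht, rfl⟩, map_one]
    obtain ⟨ψ, hψ, hψχ, -⟩ := Clifford.exists_indFun_eq N T hle θ.2
      (fun x => mem_inertia) χ.2 hover
    have hfix : ∀ x, (χ : G → ℂ) x = (l x : ℂ) * (χ : G → ℂ) x := by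
      intro x
      by_cases hx : x ∈ T
      · rw [hlT x hx, Units.val_one, one_mul]
      · rw [← hψχ, Char.indFun_eq_zero_of_normal T ψ hx, mul_zero]
    exact twist_not_mem hM h hgood l (fun n hn => hlT n (hle hn))
      (fun e => hf (DFunLike.congr_fun e g)) hfix hχ
  obtain ⟨η, hη, hηN⟩ := Cfsg.Agent.S0886.result N hcyc (θ : N → ℂ) θ.2
    fun g n => congrFun (hinv g) n
  obtain ⟨-, -, h3⟩ := CharDeep.Gal.quotient_bijection N hη
    (by rw [show (fun n : N => η n) = (θ : N → ℂ) from funext hηN]; exact θ.2)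
  obtain ⟨β, hβ, hβχ⟩ := h3 (χ : G → ℂ) χ.2
    (by rw [show (fun n : N => η n) = (θ : N → ℂ) from funext hηN]; exact hover)
  refine ⟨χ, fun n => ?_, hgood⟩
  rw [← hβχ]
  show β ((n : G) : G ⧸ N) * η n = _
  rw [(QuotientGroup.eq_one_iff (n : G)).2 n.2, irr_apply_one_of_comm (fun a b => mul_comm a b) hβ,
    one_mul, hηN]

section Subgroup

variable (K : Subgroup G) [Fintype K]

/-- The map of quotients induced by an inclusion. -/
def quotMap : K ⧸ N.subgroupOf K →* G ⧸ N :=
  QuotientGroup.lift (N.subgroupOf K) ((QuotientGroup.mk' N).comp K.subtype) fun x hx =>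
    MonoidHom.mem_ker.2 ((QuotientGroup.eq_one_iff (x : G)).2 hx)

theorem quotMap_mk (x : K) : quotMap (N := N) K (x : K ⧸ N.subgroupOf K) = ((x : G) : G ⧸ N) := rfl

theorem quotMap_injective : Function.Injective (quotMap (N := N) K) := by
  rw [injective_iff_map_eq_one]
  intro q hq
  obtain ⟨x, rfl⟩ := QuotientGroup.mk_surjective q
  exact (QuotientGroup.eq_one_iff x).2 ((QuotientGroup.eq_one_iff (x : G)).1 hq)

variable {K}

theorem map_S (hNK : N ≤ K) (q : K ⧸ N.subgroupOf K) (x : G) :
    x ∈ S p N (quotMap K q) ↔ ∃ y ∈ S p (N.subgroupOf K) q, (y : G) = x := by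
  constructor
  · intro hx
    obtain ⟨hr, hq⟩ := mem_S.1 hx
    obtain ⟨k, rfl⟩ := QuotientGroup.mk_surjective q
    have hxK : x ∈ K := by
      have h1 : (k : G)⁻¹ * x ∈ N := QuotientGroup.eq.1 hq.symm
      have := K.mul_mem k.2 (hNK h1)
      rwa [mul_inv_cancel_left] at this
    refine ⟨⟨x, hxK⟩, mem_S.2 ⟨by rwa [Subgroup.orderOf_mk], ?_⟩, rfl⟩
    exact quotMap_injective K
      (show quotMap (N := N) K ((⟨x, hxK⟩ : K) : K ⧸ N.subgroupOf K) = quotMap K (k : K ⧸ N.subgroupOf K)
        from hq)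
  · rintro ⟨y, hy, rfl⟩
    obtain ⟨hr, hq⟩ := mem_S.1 hy
    exact mem_S.2 ⟨by rwa [Subgroup.orderOf_coe], by rw [← hq]; rfl⟩

theorem s_subgroupOf (hNK : N ≤ K) (η : G → ℂ) (q : K ⧸ N.subgroupOf K) :
    s p (N.subgroupOf K) (fun x : K => η x) q = s p N η (quotMap K q) := by
  simp only [s, OneMemClass.coe_one]
  congr 1
  refine Finset.sum_bij (fun (y : K) _ => (y : G)) (fun y hy => (map_S hNK q _).2 ⟨y, hy, rfl⟩)
    (fun a _ b _ h => Subtype.ext h) (fun x hx => ?_) (fun y _ => rfl)
  obtain ⟨y, hy, hyx⟩ := (map_S hNK q x).1 hx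
  exact ⟨y, hy, hyx⟩

theorem cnt_subgroupOf (hP : P ≤ K) (hNK : N ≤ K) :
    cnt p (P.subgroupOf K) (N.subgroupOf K) = cnt p P N := by
  refine Finset.card_bij (fun (y : K) _ => (y : G)) (fun y hy => ?_)
    (fun a _ b _ h => Subtype.ext h) (fun x hx => ?_)
  · obtain ⟨hr, hC, hq⟩ := mem_O.1 hy
    refine mem_O.2 ⟨by rwa [Subgroup.orderOf_coe], ?_, ?_⟩
    · rw [Subgroup.mem_centralizer_iff] at hC ⊢
      exact fun u hu => congrArg Subtype.val (hC ⟨u, hP hu⟩ hu)
    · exact (QuotientGroup.eq_one_iff _).2 ((QuotientGroup.eq_one_iff y).1 hq : (y : G) ∈ N)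
  · obtain ⟨hr, hC, hq⟩ := mem_O.1 hx
    have hxN : x ∈ N := (QuotientGroup.eq_one_iff x).1 hq
    refine ⟨⟨x, hNK hxN⟩, mem_O.2 ⟨by rwa [Subgroup.orderOf_mk], ?_, ?_⟩, rfl⟩
    · rw [Subgroup.mem_centralizer_iff] at hC ⊢
      exact fun u hu => Subtype.ext (hC (u : G) hu)
    · exact (QuotientGroup.eq_one_iff _).2 hxN

end Subgroup

/-- In a group with a class of size prime to `p`, some conjugate centralises the `p`-subgroup. -/
theorem exists_conj_centralizer {K : Type u} [Group K] [Finite K] {Q : Subgroup K}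
    (hQ : IsPGroup p Q) {g : K} (hg : ¬ p ∣ csize g) :
    ∃ k : K, k * g * k⁻¹ ∈ Subgroup.centralizer (Q : Set K) := by
  obtain ⟨c, hc⟩ := hQ.nonempty_fixed_point_of_prime_not_dvd_card
    (K ⧸ Subgroup.centralizer ({g} : Set K)) (by rw [← Subgroup.index_eq_card]; exact hg)
  obtain ⟨k, rfl⟩ := QuotientGroup.mk_surjective c
  refine ⟨k, ?_⟩
  rw [Subgroup.mem_centralizer_iff]
  intro u hu
  have h1 : (((u * k : K)) : K ⧸ Subgroup.centralizer ({g} : Set K)) = (k : K ⧸ _) := hc ⟨u, hu⟩
  have h2 := Subgroup.mem_centralizer_iff.1 (QuotientGroup.eq.1 h1) g rfl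
  calc u * (k * g * k⁻¹) = u * k * (g * ((u * k)⁻¹ * k)) * k⁻¹ * u := by group
    _ = u * k * (((u * k)⁻¹ * k) * g) * k⁻¹ * u := by rw [h2]
    _ = k * g * k⁻¹ * u := by group

/-- Two good extensions of the same character coincide. -/
theorem good_unique (hM : IsPModular p M) (h : Hyp p P N) {θ : IrrCharacter N}
    {η η' : IrrCharacter G} (hη : ∀ n : N, (η : G → ℂ) n = (θ : N → ℂ) n)
    (hη' : ∀ n : N, (η' : G → ℂ) n = (θ : N → ℂ) n) (hg : Good p M P N (η : G → ℂ))
    (hg' : Good p M P N (η' : G → ℂ)) : η = η' := by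
  classical
  let _ := Fintype.ofFinite N
  obtain ⟨l, hlN, hl⟩ := CharDeep.Gal.exists_linear_of_res_eq N η.2 η'.2
    (by rw [show (fun n : N => (η : G → ℂ) n) = (θ : N → ℂ) from funext hη]; exact θ.2)
    (fun n => (hη' n).trans (hη n).symm)
  have hl1 : l = 1 := by
    by_contra hne
    exact twist_not_mem hM h hg l (fun n hn => hlN ⟨n, hn⟩) hne (congrFun hl)
      (hg'.mem_principal hM h)
  refine Subtype.ext (funext fun g => ?_)
  rw [congrFun hl g, hl1, MonoidHom.one_apply, Units.val_one, one_mul]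

/-- An extension can be twisted into a good one. -/
theorem exists_good_of_extension (hM : IsPModular p M) (h : Hyp p P N) {θ : IrrCharacter N}
    (hθ : θ ∈ principalBlock M N) {η : IrrCharacter G}
    (hη : ∀ n : N, (η : G → ℂ) n = (θ : N → ℂ) n) :
    ∃ χ : IrrCharacter G, (∀ n : N, (χ : G → ℂ) n = (θ : N → ℂ) n) ∧
      Good p M P N (χ : G → ℂ) := by
  classical
  let _ := Fintype.ofFinite N
  let _ := Fintype.ofFinite (G ⧸ N)
  have hp : p.Prime := Fact.out
  set a : ℂ := (cnt p P N : ℂ)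
  have haR : MemLocalRing M a := memRing_natCast hM _
  have haU : ¬ MemLocalIdeal M a := not_memIdeal_natCast hM (cnt_not_dvd h)
  -- the cyclic subgroups
  have key : ∀ q : G ⧸ N, ∃ ε : ℂ, ε ^ N.index = 1 ∧
      MemLocalIdeal M (s p N (η : G → ℂ) q - ε * a) ∧
      ∀ F : G → ℂ, (∀ x, MemLocalRing M (F x)) → (∀ x : G, (x : G ⧸ N) ≠ q → F x = 0) →
        (∀ n ∈ N, ∀ x : G, F (n * x * n⁻¹) = F x) →
        (∀ x ∈ Subgroup.centralizer (P : Set G), MemLocalIdeal M (F x)) →
        MemLocalIdeal M ((∑ x, F x * (η : G → ℂ) x) / (η : G → ℂ) 1) := by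
    intro q
    set K := (Subgroup.zpowers q).comap (QuotientGroup.mk' N) with hKdef
    have hNK : N ≤ K := fun n hn => by
      rw [hKdef, Subgroup.mem_comap, QuotientGroup.mk'_apply, (QuotientGroup.eq_one_iff n).2 hn]
      exact Subgroup.one_mem _
    let _ := Fintype.ofFinite K
    let _ := Fintype.ofFinite (N.subgroupOf K)
    have hK := h.subgroupOf hNK
    have hcyc : IsCyclic (K ⧸ N.subgroupOf K) := isCyclic_of_injective
      ((quotMap (N := N) K).codRestrict (Subgroup.zpowers q) fun r => by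
        obtain ⟨k, rfl⟩ := QuotientGroup.mk_surjective r
        exact k.2)
      fun r r' hr => quotMap_injective K (congrArg Subtype.val hr)
    let eN : N.subgroupOf K ≃* N := Subgroup.subgroupOfEquivOfLe hNK
    let θK : IrrCharacter (N.subgroupOf K) :=
      ⟨(θ : N → ℂ) ∘ eN, isIrrCharacter_comp_equiv θ.2 eN⟩
    have hθK : θK ∈ principalBlock M (N.subgroupOf K) := by
      rw [mem_principal_iff hM]
      have h1 : (θK : N.subgroupOf K → ℂ) 1 = (θ : N → ℂ) 1 := by
        show (θ : N → ℂ) (eN 1) = _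
        rw [map_one]
      have h2 : regSum p (θK : N.subgroupOf K → ℂ) = regSum p (θ : N → ℂ) := by
        refine Finset.sum_equiv eN.toEquiv (fun x => ?_) (fun x _ => rfl)
        simp [MulEquiv.orderOf_eq]
      rw [h1, h2]
      exact (mem_principal_iff hM θ).1 hθ
    obtain ⟨ξ, hξN, hξg⟩ := exists_good_of_cyclic hM hK hcyc hθK
    have hres : ∀ n : N.subgroupOf K, (η : G → ℂ) ((n : K) : G) = (θK : N.subgroupOf K → ℂ) n :=
      fun n => hη (eN n)
    have hresN : IsIrrCharacter (N.subgroupOf K) (fun n : N.subgroupOf K => (ξ : K → ℂ) n) := by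
      rw [show (fun n : N.subgroupOf K => (ξ : K → ℂ) n) = (θK : N.subgroupOf K → ℂ) from
        funext hξN]
      exact θK.2
    have hresK : IsIrrCharacter K (fun x : K => (η : G → ℂ) x) := by
      have hch := Clifford.isCharacter_res (Char.IsIrrCharacter.isCharacter η.2) K
      obtain ⟨φ, hφ, hφc⟩ := Clifford.exists_constituent hch (deg_ne_zero η)
      obtain ⟨m, hm⟩ := Char.IsCharacter.exists_nat_combination hch
      have hr : (fun n : N.subgroupOf K => (η : G → ℂ) ((n : K) : G)) =
          (θK : N.subgroupOf K → ℂ) := funext hres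
      choose d hd using fun ψ : IrrCharacter K => Char.IsCharacter.exists_nat_classInner
        (Clifford.isCharacter_res (Char.IsIrrCharacter.isCharacter ψ.2) (N.subgroupOf K)) θK.2
      choose dg hdg0 hdg using fun ψ : IrrCharacter K => Char.IsIrrCharacter.exists_degree ψ.2
      obtain ⟨dθ, hdθ0, hdθ⟩ := Char.IsIrrCharacter.exists_degree θK.2
      have hsum : 1 = ∑ ψ, m ψ * d ψ := by
        have h1 := Char.classInner_irr_self θK.2
        nth_rewrite 1 [← hr] at h1
        rw [show (fun n : N.subgroupOf K => (η : G → ℂ) ((n : K) : G)) =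
          ∑ ψ : IrrCharacter K, (m ψ : ℂ) • fun n : N.subgroupOf K => (ψ : K → ℂ) n from
          funext fun n => by
            have := congrFun hm (n : K)
            simpa [Finset.sum_apply] using this, Char.classInner_sum_left] at h1
        simp only [Char.classInner_smul_left, hd] at h1
        exact_mod_cast h1.symm
      have hdeg : dθ = ∑ ψ, m ψ * dg ψ := by
        have h1 := congrFun hm 1
        simp only [Finset.sum_apply, Pi.smul_apply, smul_eq_mul, hdg, OneMemClass.coe_one] at h1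
        have h2 := hres 1
        simp only [OneMemClass.coe_one, hdθ] at h2
        rw [h2] at h1
        exact_mod_cast h1
      obtain ⟨ψ, -, hψ⟩ := Finset.exists_ne_zero_of_sum_ne_zero
        (show ∑ ψ, m ψ * d ψ ≠ 0 by omega)
      have hle1 : m ψ * d ψ ≤ 1 := hsum ▸ Finset.single_le_sum
        (f := fun ψ => m ψ * d ψ) (fun _ _ => Nat.zero_le _) (Finset.mem_univ ψ)
      have hmd : m ψ = 1 ∧ d ψ = 1 := by
        obtain ⟨e1, e2⟩ := mul_ne_zero_iff.1 hψ
        constructor <;> nlinarith [Nat.pos_of_ne_zero e1, Nat.pos_of_ne_zero e2]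
      have hψdeg : dθ ≤ dg ψ := by
        have hne : classInner (fun n : N.subgroupOf K => (ψ : K → ℂ) n)
            (θK : N.subgroupOf K → ℂ) ≠ 0 := by rw [hd, hmd.2, Nat.cast_one]; exact one_ne_zero
        have h1 := Clifford.apply_one_eq (N.subgroupOf K) ψ.2 θK.2 hne
        rw [hdg, hd, hmd.2, hdθ] at h1
        have h2 : dg ψ = 1 * (inertia (N.subgroupOf K) (θK : N.subgroupOf K → ℂ)).index * dθ := by
          exact_mod_cast h1
        have h3 := Nat.pos_of_ne_zero
          (Subgroup.index_ne_zero_of_finite (H := inertia (N.subgroupOf K) (θK : N.subgroupOf K → ℂ)))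
        nlinarith
      rw [← Finset.add_sum_erase _ _ (Finset.mem_univ ψ), hmd.1] at hdeg
      have hrest : ∑ φ ∈ Finset.univ.erase ψ, m φ * dg φ = 0 := by omega
      have heq : (fun x : K => (η : G → ℂ) x) = (ψ : K → ℂ) := by
        rw [hm, Finset.sum_eq_single ψ]
        · rw [hmd.1, Nat.cast_one, one_smul]
        · intro φ _ hne
          have := Finset.sum_eq_zero_iff.1 hrest φ (Finset.mem_erase.2 ⟨hne, Finset.mem_univ _⟩)
          rcases mul_eq_zero.1 this with h0 | h0
          · rw [h0, Nat.cast_zero, zero_smul]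
          · exact absurd h0 (hdg0 φ).ne'
        · simp
      rw [heq]; exact ψ.2
    obtain ⟨l, hlN, hl⟩ := CharDeep.Gal.exists_linear_of_res_eq (N.subgroupOf K) ξ.2 hresK hresN
      (fun n => (hres n).trans (hξN n).symm)
    obtain ⟨g₀, hg₀⟩ := QuotientGroup.mk_surjective q
    have hg₀K : g₀ ∈ K := by
      rw [hKdef, Subgroup.mem_comap, QuotientGroup.mk'_apply, hg₀]
      exact Subgroup.mem_zpowers q
    have hroot : ∀ k : K, (l k : ℂ) ^ N.index = 1 := by
      intro k
      have h1 : k ^ N.index ∈ N.subgroupOf K := by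
        rw [Subgroup.mem_subgroupOf, Subgroup.coe_pow]
        exact N.pow_index_mem _
      rw [← Units.val_pow_eq_pow_val, ← map_pow, hlN ⟨_, h1⟩, Units.val_one]
    have hq : quotMap (N := N) K ((⟨g₀, hg₀K⟩ : K) : K ⧸ N.subgroupOf K) = q := hg₀
    have hcnt : (cnt p (P.subgroupOf K) (N.subgroupOf K) : ℂ) = a := by
      rw [cnt_subgroupOf (h.le.trans hNK) hNK]
    refine ⟨(l ⟨g₀, hg₀K⟩ : ℂ), hroot _, ?_, ?_⟩
    · rw [← hq, ← s_subgroupOf hNK, hl,
        s_linear_mul l (fun n hn => hlN ⟨n, hn⟩), ← mul_sub, ← hcnt]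
      exact memIdeal_mul_left hM (memRing_of_pow_eq_one hM
        (Nat.pos_of_ne_zero Subgroup.index_ne_zero_of_finite) (hroot _)) (hξg _)
    · intro F hFR hF0 hFN hFC
      let _ := Fintype.ofFinite (ConjClasses K)
      have hgen : ∀ x : G, (x : G ⧸ N) = q → ∀ k ∈ K, ∃ n ∈ N, ∃ i : ℤ, k = n * x ^ i := by
        intro x hx k hk
        obtain ⟨i, hi⟩ := (show (k : G ⧸ N) ∈ Subgroup.zpowers q from hk)
        refine ⟨k * (x ^ i)⁻¹, ?_, i, by group⟩
        rw [← QuotientGroup.eq_one_iff, QuotientGroup.mk_mul, QuotientGroup.mk_inv,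
          QuotientGroup.mk_zpow, hx, ← hi, mul_inv_cancel]
      have hFc : ∀ x y : K, IsConj x y → F x = F y := by
        intro x y hxy
        obtain ⟨k, hk⟩ := isConj_iff.1 hxy
        by_cases hx : ((x : G) : G ⧸ N) = q
        · obtain ⟨n, hn, i, hni⟩ := hgen x hx k k.2
          rw [← hk, Subgroup.coe_mul, Subgroup.coe_mul, Subgroup.coe_inv, hni,
            show n * (x : G) ^ i * x * (n * (x : G) ^ i)⁻¹ = n * x * n⁻¹ by group, hFN n hn]
        · rw [hF0 _ hx, hF0]
          intro hy
          refine hx ?_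
          obtain ⟨n, hn, i, hni⟩ := hgen y hy (k : G)⁻¹ (K.inv_mem k.2)
          have hxy' : (x : G) = (k : G)⁻¹ * y * ((k : G)⁻¹)⁻¹ := by
            rw [← hk, Subgroup.coe_mul, Subgroup.coe_mul, Subgroup.coe_inv]; group
          rw [hxy', hni, show n * (y : G) ^ i * y * (n * (y : G) ^ i)⁻¹ = n * y * n⁻¹ by group,
            QuotientGroup.mk_mul, QuotientGroup.mk_mul, QuotientGroup.mk_inv,
            (QuotientGroup.eq_one_iff n).2 hn, hy, one_mul, inv_one, mul_one]
      have hsum : (∑ x, F x * (η : G → ℂ) x) =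
          ∑ x : K, F x * (η : G → ℂ) x := by
        symm
        refine Finset.sum_of_injOn Subtype.val Subtype.coe_injective.injOn (by simp) ?_
          (fun x _ => rfl)
        intro x _ hx
        rw [hF0 x, zero_mul]
        intro hxq
        refine hx ⟨⟨x, ?_⟩, Finset.mem_coe.2 (Finset.mem_univ _), rfl⟩
        rw [hKdef, Subgroup.mem_comap, QuotientGroup.mk'_apply, hxq]
        exact Subgroup.mem_zpowers q
      rw [hsum]
      have h1 := sum_mul_char_div (⟨_, hresK⟩ : IrrCharacter K) (fun x : K => F x) hFc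
      simp only [OneMemClass.coe_one] at h1
      rw [h1]
      refine memIdeal_sum hM _ fun C _ => ?_
      set x := C.out
      by_cases hcs : p ∣ csize x
      · refine memIdeal_mul_left hM (hFR _) ?_
        have hb : MemLocalIdeal M (centralChar (ξ : K → ℂ) x) := by
          have hsb : SameBlock M (ξ : K → ℂ) ((Char.principalIrr : IrrCharacter K) : K → ℂ) :=
            block_congr hM isPBlock_principal (hξg.mem_principal hM hK) (principalIrr_mem hM)
          refine (memIdeal_iff_of_sub hM (hsb x)).2 ?_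
          rw [centralChar_eq]
          simpa [Char.principalIrr_apply] using (memIdeal_natCast_iff hM _).2 hcs
        have : centralChar (fun k : K => (η : G → ℂ) k) x = (l x : ℂ) * centralChar (ξ : K → ℂ) x := by
          rw [centralChar_eq ξ]
          show (csize x : ℂ) * (fun k : K => (η : G → ℂ) k) x / (fun k : K => (η : G → ℂ) k) 1 = _
          rw [hl]
          simp only [map_one, Units.val_one, one_mul]
          ring
        rw [this]
        exact memIdeal_mul_left hM (memRing_of_pow_eq_one hM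
          (Nat.pos_of_ne_zero Subgroup.index_ne_zero_of_finite) (hroot x)) hb
      · obtain ⟨k, hk⟩ := exists_conj_centralizer hK.pg hcs
        refine memIdeal_mul_right hM ?_ (memRing_centralChar hM (⟨_, hresK⟩ : IrrCharacter K) x)
        rw [hFc x (k * x * k⁻¹) (isConj_iff.2 ⟨k, rfl⟩)]
        refine hFC _ ?_
        rw [Subgroup.mem_centralizer_iff] at hk ⊢
        exact fun u hu => congrArg Subtype.val (hk ⟨u, hNK (h.le hu)⟩ hu)
  choose ε hεroot hεs hεF using key
  -- the scalars of the regular coset sums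
  obtain ⟨d, ρ, hρ, hρc⟩ := η.2
  let σ : Representation ℂ N (Fin d → ℂ) := ρ.comp N.subtype
  have hσ : σ.IsIrreducible := by
    obtain ⟨k, τ, hτ, hτc⟩ := θ.2
    obtain ⟨e⟩ := Char.nonempty_equiv_of_character_eq τ σ
      (hτc.trans (funext fun n => ((hη n).symm.trans (congrFun hρc.symm (n : G)))))
    exact Char.isIrreducible_of_equiv e
  have hd0 : (η : G → ℂ) 1 = (d : ℂ) := by rw [← hρc, ρ.char_one, Module.finrank_fin_fun]
  have hA : ∀ q : G ⧸ N, ∑ x ∈ S p N q, ρ x =
      s p N (η : G → ℂ) q • (1 : Module.End ℂ (Fin d → ℂ)) := by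
    intro q
    have hcomm : ∀ n : N, (∑ x ∈ S p N q, ρ x) * σ n =
        σ n * ∑ x ∈ S p N q, ρ x := by
      intro n
      rw [Finset.sum_mul, Finset.mul_sum]
      refine Finset.sum_equiv (MulAut.conj (n : G)⁻¹).toEquiv (fun x => ?_) (fun x _ => ?_)
      · have hn : (((n : G)⁻¹ : G) : G ⧸ N) = 1 :=
          (QuotientGroup.eq_one_iff _).2 (N.inv_mem n.2)
        rw [mem_S, mem_S, show orderOf ((MulAut.conj (n : G)⁻¹).toEquiv x) = orderOf x from
          MulEquiv.orderOf_eq (MulAut.conj (n : G)⁻¹) x]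
        simp [(QuotientGroup.eq_one_iff (n : G)).2 n.2]
      · simp only [MulEquiv.toEquiv_eq_coe, MulEquiv.coe_toEquiv, MulAut.conj_apply, inv_inv,
          σ, MonoidHom.comp_apply, Subgroup.subtype_apply, ← map_mul]
        congr 1
        group
    obtain ⟨c, hc⟩ := Char.exists_scalar_of_commute σ _ hcomm
    have ht := congrArg (LinearMap.trace ℂ (Fin d → ℂ)) hc
    rw [map_sum, map_smul, LinearMap.trace_one, Module.finrank_fin_fun, smul_eq_mul] at ht
    rw [hc, s, ← Finset.sum_congr rfl fun x _ => congrFun hρc x,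
      show (∑ x ∈ S p N q, ρ.character x) = c * (d : ℂ) from ht, hd0,
      mul_div_cancel_right₀ _ (by rw [← hd0]; exact deg_ne_zero η)]
  have hmul : ∀ i j : G ⧸ N,
      MemLocalIdeal M (s p N (η : G → ℂ) i * s p N (η : G → ℂ) j -
        a * s p N (η : G → ℂ) (i * j)) := by
    intro i j
    let F : G → ℂ := fun g => if (g : G ⧸ N) = i * j then
      ((∑ x ∈ S p N i, if x⁻¹ * g ∈ S p N j then (1 : ℂ) else 0) -
        if ¬ p ∣ orderOf g then a else 0) else 0
    have hFeq : s p N (η : G → ℂ) i * s p N (η : G → ℂ) j - a * s p N (η : G → ℂ) (i * j) =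
        (∑ g, F g * (η : G → ℂ) g) / (η : G → ℂ) 1 := by
      have hprod : (∑ x ∈ S p N i, ∑ y ∈ S p N j, (η : G → ℂ) (x * y)) =
          s p N (η : G → ℂ) i * s p N (η : G → ℂ) j * (η : G → ℂ) 1 := by
        have h1 := congrArg (LinearMap.trace ℂ (Fin d → ℂ))
          (congrArg₂ (· * ·) (hA i) (hA j))
        simp only [Finset.sum_mul, Finset.mul_sum, map_sum, smul_mul_smul_comm, mul_one, map_smul,
          LinearMap.trace_one, Module.finrank_fin_fun, smul_eq_mul, ← map_mul ρ] at h1
        rw [hd0, ← h1, ← hρc, Finset.sum_comm]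
        rfl
      have hF' : (∑ g, F g * (η : G → ℂ) g) =
          (∑ x ∈ S p N i, ∑ y ∈ S p N j, (η : G → ℂ) (x * y)) -
            a * ∑ g ∈ S p N (i * j), (η : G → ℂ) g := by
        have hx : ∀ x ∈ S p N i, ∑ y ∈ S p N j, (η : G → ℂ) (x * y) =
            ∑ g : G, if (g : G ⧸ N) = i * j then
              (if x⁻¹ * g ∈ S p N j then (η : G → ℂ) g else 0) else 0 := by
          intro x hx
          rw [← Finset.sum_ite_mem_eq (S p N j) fun y => (η : G → ℂ) (x * y)]
          refine Fintype.sum_equiv (Equiv.mulLeft x) _ _ fun y => ?_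
          simp only [Equiv.coe_mulLeft, inv_mul_cancel_left]
          by_cases hy : y ∈ S p N j
          · rw [if_pos hy, if_pos]
            rw [QuotientGroup.mk_mul, (mem_S.1 hx).2, (mem_S.1 hy).2]
          · simp [hy]
        rw [Finset.sum_congr rfl hx, Finset.sum_comm, Finset.mul_sum,
          ← Finset.sum_ite_mem_eq (S p N (i * j)) fun g => a * (η : G → ℂ) g,
          ← Finset.sum_sub_distrib]
        refine Finset.sum_congr rfl fun g _ => ?_
        simp only [F, mem_S]
        by_cases hg : (g : G ⧸ N) = i * j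
        · simp only [hg, if_true, and_true, sub_mul, Finset.sum_mul, ite_mul, one_mul, zero_mul]
        · simp [hg]
      have hd := deg_ne_zero η
      rw [hF', hprod, s, s, s]
      field_simp
    rw [hFeq]
    refine hεF (i * j) F (fun g => ?_) (fun g hg => if_neg hg) (fun n hn g => ?_) (fun g hgC => ?_)
    · simp only [F]
      split_ifs
      · exact memRing_sub hM (memRing_sum hM _ fun x _ => by
          split_ifs
          · exact memRing_one hM
          · exact memRing_zero hM) (memRing_zero hM)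
      · exact memRing_sub hM (memRing_sum hM _ fun x _ => by
          split_ifs
          · exact memRing_one hM
          · exact memRing_zero hM) haR
      · exact memRing_zero hM
    · have hn1 : (n : G ⧸ N) = 1 := (QuotientGroup.eq_one_iff n).2 hn
      have hq : ∀ y : G, ((n * y * n⁻¹ : G) : G ⧸ N) = (y : G ⧸ N) := fun y => by
        rw [QuotientGroup.mk_mul, QuotientGroup.mk_mul, QuotientGroup.mk_inv, hn1, one_mul, inv_one,
          mul_one]
      have ho : ∀ y : G, orderOf (n * y * n⁻¹) = orderOf y := fun y =>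
        MulEquiv.orderOf_eq (MulAut.conj n) y
      have hS : ∀ y : G, ∀ r : G ⧸ N, n * y * n⁻¹ ∈ S p N r ↔ y ∈ S p N r := fun y r => by
        rw [mem_S, mem_S, hq, ho]
      have hsum : (∑ x ∈ S p N i, if x⁻¹ * (n * g * n⁻¹) ∈ S p N j then (1 : ℂ) else 0) =
          ∑ x ∈ S p N i, if x⁻¹ * g ∈ S p N j then (1 : ℂ) else 0 := by
        refine (Finset.sum_equiv (MulAut.conj n).toEquiv (fun x => (hS x i).symm) fun x _ => ?_).symm
        show _ = if (n * x * n⁻¹)⁻¹ * (n * g * n⁻¹) ∈ S p N j then (1 : ℂ) else 0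
        rw [show (n * x * n⁻¹)⁻¹ * (n * g * n⁻¹) = n * (x⁻¹ * g) * n⁻¹ by group]
        exact if_congr (hS _ j).symm rfl rfl
      simp only [F, hq, ho, hsum]
    · have hsub := sum_S_sub_sum_O hM h i
        (fun x => if x⁻¹ * g ∈ S p N j then (1 : ℂ) else 0)
        (fun x => by split_ifs; exacts [memRing_one hM, memRing_zero hM])
        (fun u hu x => by
          have hug : u * g * u⁻¹ = g := by
            rw [Subgroup.mem_centralizer_iff.1 hgC u hu, mul_inv_cancel_right]
          refine if_congr ?_ rfl rfl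
          conv_lhs => rw [show (u * x * u⁻¹)⁻¹ * g = u * (x⁻¹ * g) * u⁻¹ by
            nth_rewrite 1 [← hug]; group]
          refine ⟨fun e => ?_, conj_mem_S h hu⟩
          have := conj_mem_S h (P.inv_mem hu) e
          rwa [show u⁻¹ * (u * (x⁻¹ * g) * u⁻¹) * u⁻¹⁻¹ = x⁻¹ * g by group] at this)
      simp only [F]
      split_ifs with hg hreg
      · rw [Finset.sum_eq_zero (s := O p P N i) (fun x hx => by
          obtain ⟨hxr, hxC, hxq⟩ := mem_O.1 hx
          refine if_neg fun e => ?_
          have := regular_mul h.pg h.sylow hxC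
            (Subgroup.mul_mem _ (Subgroup.inv_mem _ hxC) hgC) hxr (mem_S.1 e).1
          rw [mul_inv_cancel_left] at this
          exact this hreg)] at hsub
        simpa using hsub
      · rw [Finset.sum_congr rfl (s₁ := O p P N i) (g := fun _ => (1 : ℂ)) (fun x hx => by
          obtain ⟨hxr, hxC, hxq⟩ := mem_O.1 hx
          refine if_pos (mem_S.2 ⟨regular_mul h.pg h.sylow (Subgroup.inv_mem _ hxC) hgC
            (by rwa [orderOf_inv]) hreg, ?_⟩)
          rw [QuotientGroup.mk_mul, QuotientGroup.mk_inv, hxq, hg, inv_mul_cancel_left]),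
          Finset.sum_const, card_O h, nsmul_eq_mul, mul_one] at hsub
        exact hsub
      · exact memIdeal_zero hM
  -- the linear character
  have hεR : ∀ q, MemLocalRing M (ε q) := fun q =>
    memRing_of_pow_eq_one hM (Nat.pos_of_ne_zero Subgroup.index_ne_zero_of_finite) (hεroot q)
  have hε0 : ∀ q, ε q ≠ 0 := fun q h0 => by
    have := hεroot q
    rw [h0, zero_pow Subgroup.index_ne_zero_of_finite] at this
    exact zero_ne_one this
  have hεmul : ∀ i j, ε (i * j) = ε i * ε j := by
    intro i j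
    have h1 : MemLocalIdeal M (ε i * a * (ε j * a) - a * (ε (i * j) * a)) := by
      have e1 : MemLocalIdeal M (s p N (η : G → ℂ) i * s p N (η : G → ℂ) j - ε i * a * (ε j * a)) :=
        memIdeal_mul_sub_mul hM (memRing_of_sub hM (hεs j) (memRing_mul hM (hεR j) haR))
          (memRing_mul hM (hεR i) haR) (hεs i) (hεs j)
      have e2 : MemLocalIdeal M (a * s p N (η : G → ℂ) (i * j) - a * (ε (i * j) * a)) := by
        rw [← mul_sub]; exact memIdeal_mul_left hM haR (hεs _)
      have := memIdeal_add hM (memIdeal_sub hM (hmul i j) e1) e2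
      convert this using 1; ring
    have h2 : MemLocalIdeal M (ε i * ε j - ε (i * j)) := by
      have h3 := memIdeal_mul_right hM h1
        (memRing_inv hM (memRing_mul hM haR haR) (not_memIdeal_mul hM haR haR haU haU))
      have ha0 := ne_zero_of_not_memIdeal hM haU
      convert h3 using 1
      field_simp
    have h4 : ε i * ε j * (ε (i * j))⁻¹ = 1 := by
      refine eq_one_of_sub_one_memIdeal hM h.index_not_dvd ?_ ?_
      · rw [mul_pow, mul_pow, inv_pow, hεroot, hεroot, hεroot, mul_one, inv_one, mul_one]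
      · have := memIdeal_mul_right hM h2 (memRing_algInt hM
          (IsIntegral.of_pow (Nat.pos_of_ne_zero Subgroup.index_ne_zero_of_finite)
            (show IsIntegral ℤ ((ε (i * j))⁻¹ ^ N.index) by
              rw [inv_pow, hεroot, inv_one]; exact isIntegral_one)))
        convert this using 1
        rw [sub_mul, mul_inv_cancel₀ (hε0 _)]
    field_simp [hε0] at h4
    exact h4.symm
  let E : G ⧸ N →* ℂˣ := MonoidHom.mk' (fun q => Units.mk0 (ε q) (hε0 q))
    fun i j => Units.ext (hεmul i j)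
  let l : G →* ℂˣ := (E⁻¹).comp (QuotientGroup.mk' N)
  have hlN : ∀ n ∈ N, l n = 1 := fun n hn => by
    show (E⁻¹) (n : G ⧸ N) = 1
    rw [(QuotientGroup.eq_one_iff n).2 hn, map_one]
  refine ⟨⟨fun g => (l g : ℂ) * (η : G → ℂ) g, Char.IsIrrCharacter.linear_mul η.2 l⟩,
    fun n => by
      show (l (n : G) : ℂ) * _ = _
      rw [hlN n n.2, Units.val_one, one_mul, hη], fun q => ?_⟩
  obtain ⟨g, rfl⟩ := QuotientGroup.mk_surjective q
  show MemLocalIdeal M (s p N (fun g => (l g : ℂ) * (η : G → ℂ) g) (g : G ⧸ N) - a)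
  rw [s_linear_mul l hlN]
  have h5 := memIdeal_mul_left hM (memRing_algInt hM
    (IsIntegral.of_pow (Nat.pos_of_ne_zero Subgroup.index_ne_zero_of_finite)
      (show IsIntegral ℤ ((ε (g : G ⧸ N))⁻¹ ^ N.index) by
        rw [inv_pow, hεroot, inv_one]; exact isIntegral_one))) (hεs (g : G ⧸ N))
  convert h5 using 1
  show ((E (g : G ⧸ N))⁻¹ : ℂˣ).1 * _ - a = _
  rw [Units.val_inv_eq_inv_val]
  show (ε (g : G ⧸ N))⁻¹ * _ - a = _
  rw [mul_sub, inv_mul_cancel_left₀ (hε0 _)]

end CfsgLib.PrincipalCover
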