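import Cfsg.Agent.Lib.BlockPrincipal.Criterion
import Cfsg.Agent.Lib.BlockPrincipal.Parity
import Mathlib.GroupTheory.Transfer

/-!
Coverings `G = N·C(P)` with `P` Sylow in `N`: regular elements centralising `P`, coset sums and
their congruences.
-/

set_option autoImplicit false

open Cfsg CfsgLib.BlockReg CfsgLib.BlockPrincipal

namespace CfsgLib.PrincipalCover

universe u

variable {G : Type u} [Group G] {p : ℕ} [Fact p.Prime]

/-- `P` is a Sylow `p`-subgroup inside `N` and `G = N·C(P)`. -/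
structure Hyp (p : ℕ) (P N : Subgroup G) : Prop where
  pg : IsPGroup p P
  sylow : ¬ p ∣ P.index
  le : P ≤ N
  cover : ∀ g : G, ∃ c ∈ Subgroup.centralizer (P : Set G), g⁻¹ * c ∈ N

theorem Hyp.index_not_dvd {P N : Subgroup G} (h : Hyp p P N) : ¬ p ∣ N.index :=
  fun hd => h.sylow (hd.trans (Subgroup.index_dvd_of_le h.le))

theorem Hyp.subgroupOf {P N : Subgroup G} (h : Hyp p P N) {H : Subgroup G} (hNH : N ≤ H) :
    Hyp p (P.subgroupOf H) (N.subgroupOf H) where
  pg := h.pg.comap_of_injective H.subtype H.subtype_injective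
  sylow := fun hd => h.sylow (hd.trans
    ⟨H.index, (Subgroup.relIndex_mul_index (h.le.trans hNH)).symm⟩)
  le := fun x hx => h.le hx
  cover := fun g => by
    obtain ⟨c, hc, hgc⟩ := h.cover g
    have hcH : c ∈ H := by
      have := H.mul_mem g.2 (hNH hgc)
      rwa [mul_inv_cancel_left] at this
    refine ⟨⟨c, hcH⟩, ?_, hgc⟩
    rw [Subgroup.mem_centralizer_iff]
    intro u hu
    exact Subtype.ext (Subgroup.mem_centralizer_iff.1 hc u hu)

variable [Finite G]

/-- A `p`-element centralising a Sylow `p`-subgroup lies in it. -/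
theorem pElem_mem {P : Subgroup G} (hP : IsPGroup p P) (hS : ¬ p ∣ P.index) {x : G}
    (hx : x ∈ Subgroup.centralizer (P : Set G)) {k : ℕ} (hk : x ^ p ^ k = 1) : x ∈ P := by
  have hp : p.Prime := Fact.out
  have hz : IsPGroup p (Subgroup.zpowers x) := IsPGroup.of_card (n := (orderOf x).factorization p) (by
    rw [Nat.card_zpowers]
    obtain ⟨i, -, hi⟩ := (Nat.dvd_prime_pow hp).1 (orderOf_dvd_of_pow_eq_one hk)
    rw [hi, hp.factorization_pow, Finsupp.single_eq_same])
  have hle : Subgroup.zpowers x ≤ Subgroup.normalizer (P : Set G) := by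
    rw [Subgroup.zpowers_le, Subgroup.mem_normalizer_iff]
    intro u
    constructor
    · intro hu
      rw [← Subgroup.mem_centralizer_iff.1 hx u hu, mul_inv_cancel_right]
      exact hu
    · intro hu
      have h1 := Subgroup.mem_centralizer_iff.1 hx _ hu
      have : u = x * u * x⁻¹ := by
        calc u = x⁻¹ * ((x * u * x⁻¹) * x) := by group
          _ = x⁻¹ * (x * (x * u * x⁻¹)) := by rw [h1]
          _ = x * u * x⁻¹ := by group
      rwa [this]
  have hsup : IsPGroup p (Subgroup.zpowers x ⊔ P : Subgroup G) :=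
    IsPGroup.to_sup_of_normal_right' hz hP hle
  set Q := Subgroup.zpowers x ⊔ P
  obtain ⟨j, hj⟩ := IsPGroup.iff_card.1 hsup
  have hd : P.relIndex Q ∣ p ^ j := by rw [← hj]; exact Subgroup.index_dvd_card _
  obtain ⟨i, -, hi⟩ := (Nat.dvd_prime_pow hp).1 hd
  rcases i with - | i
  · rw [pow_zero, Subgroup.relIndex_eq_one] at hi
    exact hi (le_sup_left (b := P) (Subgroup.mem_zpowers x))
  · exact absurd ((hi ▸ dvd_pow_self p i.succ_ne_zero).trans
      ⟨Q.index, (Subgroup.relIndex_mul_index le_sup_right).symm⟩) hS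

/-- The regular elements centralising a Sylow `p`-subgroup are closed under products. -/
theorem regular_mul {P : Subgroup G} (hP : IsPGroup p P) (hS : ¬ p ∣ P.index) {x y : G}
    (hx : x ∈ Subgroup.centralizer (P : Set G)) (hy : y ∈ Subgroup.centralizer (P : Set G))
    (hxr : ¬ p ∣ orderOf x) (hyr : ¬ p ∣ orderOf y) : ¬ p ∣ orderOf (x * y) := by
  have hp : p.Prime := Fact.out
  set C := Subgroup.centralizer (P : Set G)
  obtain ⟨a, n', hn', hcard⟩ := Nat.exists_eq_pow_mul_and_not_dvd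
    (Nat.card_pos (α := G)).ne' p hp.ne_one
  have hpow : ∀ z : C, z ^ n' ∈ Subgroup.center C := by
    intro z
    have h1 : ((z ^ n' : C) : G) ^ p ^ a = 1 := by
      rw [Subgroup.coe_pow, ← pow_mul, mul_comm, ← hcard, pow_card_eq_one']
    have h2 := pElem_mem hP hS (z ^ n' : C).2 h1
    rw [Subgroup.mem_center_iff]
    intro w
    refine Subtype.ext ?_
    exact (Subgroup.mem_centralizer_iff.1 w.2 _ h2).symm
  have hqp : ¬ p ∣ (Subgroup.center C).index := by
    intro hd
    rw [Subgroup.index_eq_card] at hd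
    obtain ⟨q, hq⟩ := exists_prime_orderOf_dvd_card' p hd
    obtain ⟨z, rfl⟩ := QuotientGroup.mk_surjective q
    have hz1 : ((z : C ⧸ Subgroup.center C)) ^ n' = 1 := by
      rw [← QuotientGroup.mk_pow]; exact (QuotientGroup.eq_one_iff _).2 (hpow z)
    exact hn' (hq ▸ orderOf_dvd_of_pow_eq_one hz1)
  obtain ⟨t, ht⟩ : (Subgroup.center C).index ∣ n' := by
    have hd : (Subgroup.center C).index ∣ Nat.card G :=
      (Subgroup.index_dvd_card _).trans C.card_subgroup_dvd_card
    rw [hcard] at hd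
    exact (Nat.Coprime.dvd_mul_left (Nat.Coprime.pow_right a
      ((hp.coprime_iff_not_dvd.2 hqp).symm))).1 hd
  have hreg : ∀ z : C, ¬ p ∣ orderOf (z : G) → z ^ n' = 1 := by
    intro z hz
    have hd : orderOf (z : G) ∣ n' := by
      refine (Nat.Coprime.dvd_mul_left (Nat.Coprime.pow_right a
        ((hp.coprime_iff_not_dvd.2 hz).symm))).1 ?_
      rw [← hcard]
      exact orderOf_dvd_natCard _
    exact Subtype.ext (by rw [Subgroup.coe_pow]; exact orderOf_dvd_iff_pow_eq_one.1 hd)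
  have hmul : ((⟨x, hx⟩ : C) * ⟨y, hy⟩) ^ n' = 1 := by
    have e : ∀ z : C, z ^ n' = ((MonoidHom.transferCenterPow C z) ^ t : Subgroup.center C) := by
      intro z
      rw [Subgroup.coe_pow, MonoidHom.transferCenterPow_apply, ← pow_mul, ← ht]
    have hcomm : Commute (MonoidHom.transferCenterPow C ⟨x, hx⟩)
        (MonoidHom.transferCenterPow C ⟨y, hy⟩) :=
      Subtype.ext ((Subgroup.mem_center_iff.1 (MonoidHom.transferCenterPow C ⟨x, hx⟩).2 _).symm)
    rw [e, map_mul, hcomm.mul_pow, Subgroup.coe_mul, ← e, ← e, hreg _ hxr, hreg _ hyr, one_mul]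
  intro hd
  refine hn' (hd.trans (orderOf_dvd_of_pow_eq_one ?_))
  simpa using congrArg Subtype.val hmul

variable [Fintype G] {M : Ideal Cfsg.AlgInt}

open Classical in
/-- The regular elements of a coset. -/
noncomputable def S (p : ℕ) (N : Subgroup G) [N.Normal] (q : G ⧸ N) : Finset G :=
  Finset.univ.filter fun x : G => ¬ p ∣ orderOf x ∧ (x : G ⧸ N) = q

open Classical in
/-- The regular elements of a coset centralising `P`. -/
noncomputable def O (p : ℕ) (P N : Subgroup G) [N.Normal] (q : G ⧸ N) : Finset G :=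
  Finset.univ.filter fun x : G =>
    ¬ p ∣ orderOf x ∧ x ∈ Subgroup.centralizer (P : Set G) ∧ (x : G ⧸ N) = q

theorem mem_S {N : Subgroup G} [N.Normal] {q : G ⧸ N} {x : G} :
    x ∈ S p N q ↔ ¬ p ∣ orderOf x ∧ (x : G ⧸ N) = q := by simp [S]

theorem mem_O {P N : Subgroup G} [N.Normal] {q : G ⧸ N} {x : G} :
    x ∈ O p P N q ↔
      ¬ p ∣ orderOf x ∧ x ∈ Subgroup.centralizer (P : Set G) ∧ (x : G ⧸ N) = q := by simp [O]

variable {P N : Subgroup G} [N.Normal]

theorem exists_mem_O (h : Hyp p P N) (q : G ⧸ N) : ∃ x, x ∈ O p P N q := by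
  have hp : p.Prime := Fact.out
  obtain ⟨g, rfl⟩ := QuotientGroup.mk_surjective q
  obtain ⟨c, hc, hgc⟩ := h.cover g
  obtain ⟨a, n', hn', hcard⟩ := Nat.exists_eq_pow_mul_and_not_dvd
    (Nat.card_pos (α := G)).ne' p hp.ne_one
  have hco : Nat.Coprime (p ^ a) n' := Nat.Coprime.pow_left _ (hp.coprime_iff_not_dvd.2 hn')
  obtain ⟨m, hm0, hm1⟩ := Nat.chineseRemainder hco 0 1
  refine ⟨c ^ m, mem_O.2 ⟨fun hd => hn' (hd.trans (orderOf_dvd_of_pow_eq_one ?_)),
    Subgroup.pow_mem _ hc m, ?_⟩⟩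
  · obtain ⟨b, hb⟩ := Nat.modEq_zero_iff_dvd.1 hm0
    rw [← pow_mul, hb, show p ^ a * b * n' = Nat.card G * b by rw [hcard]; ring, pow_mul,
      pow_card_eq_one', one_pow]
  · have hcg : (c : G ⧸ N) = g := (QuotientGroup.eq.2 hgc).symm
    rw [QuotientGroup.mk_pow, hcg]
    conv_rhs => rw [← pow_one (g : G ⧸ N)]
    refine pow_eq_pow_iff_modEq.2 (hm1.of_dvd ?_)
    have hnd : ¬ p ∣ orderOf (g : G ⧸ N) := fun hd => h.index_not_dvd (by
      rw [Subgroup.index_eq_card]; exact hd.trans (orderOf_dvd_natCard _))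
    refine (Nat.Coprime.dvd_mul_left (Nat.Coprime.pow_right a
      ((hp.coprime_iff_not_dvd.2 hnd).symm))).1 ?_
    rw [← hcard]
    exact (orderOf_dvd_natCard _).trans (Subgroup.card_quotient_dvd_card N)

/-- The number of regular elements of `N` centralising `P`. -/
noncomputable def cnt (p : ℕ) (P N : Subgroup G) [N.Normal] : ℕ := (O p P N 1).card

theorem card_O (h : Hyp p P N) (q : G ⧸ N) : (O p P N q).card = cnt p P N := by
  obtain ⟨c, hc⟩ := exists_mem_O h q
  obtain ⟨hcr, hcC, hcq⟩ := mem_O.1 hc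
  have hci : ¬ p ∣ orderOf c⁻¹ := by rwa [orderOf_inv]
  refine (Finset.card_bij (fun x _ => x * c) (fun x hx => ?_) (fun x _ y _ h => mul_right_cancel h)
    (fun y hy => ⟨y * c⁻¹, ?_, inv_mul_cancel_right y c⟩)).symm
  · obtain ⟨hxr, hxC, hxq⟩ := mem_O.1 hx
    exact mem_O.2 ⟨regular_mul h.pg h.sylow hxC hcC hxr hcr, Subgroup.mul_mem _ hxC hcC,
      by rw [QuotientGroup.mk_mul, hxq, hcq, one_mul]⟩
  · obtain ⟨hyr, hyC, hyq⟩ := mem_O.1 hy
    exact mem_O.2 ⟨regular_mul h.pg h.sylow hyC (Subgroup.inv_mem _ hcC) hyr hci,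
      Subgroup.mul_mem _ hyC (Subgroup.inv_mem _ hcC),
      by rw [QuotientGroup.mk_mul, QuotientGroup.mk_inv, hyq, hcq, mul_inv_cancel]⟩

theorem cnt_not_dvd (h : Hyp p P N) : ¬ p ∣ cnt p P N := by
  classical
  have hp : p.Prime := Fact.out
  intro hd
  let R : Subgroup G :=
    { carrier := {x | x ∈ O p P N 1}
      one_mem' := mem_O.2 ⟨by simp [hp.ne_one], Subgroup.one_mem _, QuotientGroup.mk_one _⟩
      mul_mem' := fun {x y} hx hy => by
        obtain ⟨hxr, hxC, hxq⟩ := mem_O.1 hx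
        obtain ⟨hyr, hyC, hyq⟩ := mem_O.1 hy
        exact mem_O.2 ⟨regular_mul h.pg h.sylow hxC hyC hxr hyr, Subgroup.mul_mem _ hxC hyC,
          by rw [QuotientGroup.mk_mul, hxq, hyq, one_mul]⟩
      inv_mem' := fun {x} hx => by
        obtain ⟨hxr, hxC, hxq⟩ := mem_O.1 hx
        exact mem_O.2 ⟨by rwa [orderOf_inv], Subgroup.inv_mem _ hxC,
          by rw [QuotientGroup.mk_inv, hxq, inv_one]⟩ }
  have hR : Nat.card R = cnt p P N := Nat.card_eq_finsetCard (O p P N 1)
  obtain ⟨x, hx⟩ := exists_prime_orderOf_dvd_card' (G := R) p (hR ▸ hd)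
  exact (mem_O.1 x.2).1 (by rw [Subgroup.orderOf_coe, hx])

/-- Conjugation by an element of `P` keeps regular cosets. -/
theorem conj_mem_S (h : Hyp p P N) {q : G ⧸ N} {x u : G} (hu : u ∈ P) (hx : x ∈ S p N q) :
    u * x * u⁻¹ ∈ S p N q := by
  rw [mem_S] at hx ⊢
  have hu1 : (u : G ⧸ N) = 1 := (QuotientGroup.eq_one_iff u).2 (h.le hu)
  refine ⟨by rw [show orderOf (u * x * u⁻¹) = orderOf x from
    MulEquiv.orderOf_eq (MulAut.conj u) x]; exact hx.1, ?_⟩
  rw [QuotientGroup.mk_mul, QuotientGroup.mk_mul, QuotientGroup.mk_inv, hu1, hx.2, one_mul,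
    inv_one, mul_one]

/-- A `P`-invariant sum over a regular coset reduces to the part centralising `P`. -/
theorem sum_S_sub_sum_O (hM : IsPModular p M) (h : Hyp p P N) (q : G ⧸ N) (f : G → ℂ)
    (hf : ∀ x, MemLocalRing M (f x)) (hinv : ∀ u ∈ P, ∀ x, f (u * x * u⁻¹) = f x) :
    MemLocalIdeal M (∑ x ∈ S p N q, f x - ∑ x ∈ O p P N q, f x) := by
  classical
  let φ : P →* MulAut G := (MulAut.conj).comp P.subtype
  let _ : MulAction P G := MulAction.compHom G φ
  have hsmul : ∀ (a : P) (x : G), a • x = (a : G) * x * (a : G)⁻¹ := fun a x => rfl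
  have h1 := sum_fixedPoints_memIdeal hM h.pg (S p N q)
    (fun a x hx => by rw [hsmul]; exact conj_mem_S h a.2 hx) f (fun x _ => hf x)
    (fun a x _ => by rw [hsmul]; exact hinv a a.2 x)
  have hset : (S p N q).filter (fun x => ∀ a : P, a • x = x) = O p P N q := by
    ext x
    simp only [Finset.mem_filter, mem_S, mem_O, Subgroup.mem_centralizer_iff]
    constructor
    · rintro ⟨⟨hr, hq⟩, ha⟩
      refine ⟨hr, fun u hu => ?_, hq⟩
      have := ha ⟨u, hu⟩
      rwa [hsmul, mul_inv_eq_iff_eq_mul] at this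
    · rintro ⟨hr, hC, hq⟩
      refine ⟨⟨hr, hq⟩, fun a => ?_⟩
      rw [hsmul, hC _ a.2, mul_inv_cancel_right]
  rwa [hset] at h1

theorem card_S_sub_cnt (hM : IsPModular p M) (h : Hyp p P N) (q : G ⧸ N) :
    MemLocalIdeal M (((S p N q).card : ℂ) - (cnt p P N : ℂ)) := by
  have h1 := sum_S_sub_sum_O hM h q (fun _ => (1 : ℂ)) (fun _ => memRing_one hM) (fun _ _ _ => rfl)
  simpa [Finset.sum_const, card_O h q] using h1

/-- The normalised sum of a function over a regular coset. -/
noncomputable def s (p : ℕ) (N : Subgroup G) [N.Normal] (η : G → ℂ) (q : G ⧸ N) : ℂ :=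
  (∑ x ∈ S p N q, η x) / η 1

/-- All normalised coset sums are congruent to `cnt`. -/
def Good (p : ℕ) (M : Ideal Cfsg.AlgInt) (P N : Subgroup G) [N.Normal] (η : G → ℂ) : Prop :=
  ∀ q : G ⧸ N, MemLocalIdeal M (s p N η q - (cnt p P N : ℂ))

theorem regSum_div_eq [Fintype (G ⧸ N)] (η : G → ℂ) :
    regSum p η / η 1 = ∑ q : G ⧸ N, s p N η q := by
  classical
  simp only [s, ← Finset.sum_div, regSum]
  congr 1
  rw [← Finset.sum_fiberwise (Finset.univ.filter fun x : G => ¬ p ∣ orderOf x)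
    (fun x : G => (x : G ⧸ N))]
  refine Finset.sum_congr rfl fun q _ => Finset.sum_congr ?_ fun _ _ => rfl
  ext x
  simp [mem_S]

theorem Good.mem_principal (hM : IsPModular p M) (h : Hyp p P N) {η : IrrCharacter G}
    (hg : Good p M P N (η : G → ℂ)) : η ∈ principalBlock M G := by
  classical
  let _ := Fintype.ofFinite (G ⧸ N)
  rw [mem_principal_iff hM, regSum_div_eq (N := N)]
  intro hI
  have h1 : MemLocalIdeal M (∑ q : G ⧸ N, (s p N (η : G → ℂ) q - (cnt p P N : ℂ))) :=
    memIdeal_sum hM _ fun q _ => hg q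
  rw [Finset.sum_sub_distrib, Finset.sum_const, nsmul_eq_mul, Finset.card_univ,
    ← Nat.card_eq_fintype_card, ← Nat.cast_mul] at h1
  have h2 := (memIdeal_iff_of_sub hM h1).1 hI
  rw [memIdeal_natCast_iff hM, ← Subgroup.index_eq_card] at h2
  exact ((Fact.out : p.Prime).dvd_mul.1 h2).elim h.index_not_dvd (cnt_not_dvd h)

/-- In the principal block the coset sums over central cosets are congruent to `cnt`. -/
theorem s_sub_cnt_of_principal (hM : IsPModular p M) (h : Hyp p P N) {χ : IrrCharacter G}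
    (hχ : χ ∈ principalBlock M G) (q : G ⧸ N) (hq : ∀ r : G ⧸ N, r * q = q * r) :
    MemLocalIdeal M (s p N (χ : G → ℂ) q - (cnt p P N : ℂ)) := by
  classical
  let _ := Fintype.ofFinite (ConjClasses G)
  set f : G → ℂ := fun x => if x ∈ S p N q then 1 else 0 with hf
  have hfc : ∀ x y, IsConj x y → f x = f y := by
    intro x y hxy
    obtain ⟨c, rfl⟩ := isConj_iff.1 hxy
    have : c * x * c⁻¹ ∈ S p N q ↔ x ∈ S p N q := by
      rw [mem_S, mem_S, show orderOf (c * x * c⁻¹) = orderOf x from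
        MulEquiv.orderOf_eq (MulAut.conj c) x, QuotientGroup.mk_mul, QuotientGroup.mk_mul,
        QuotientGroup.mk_inv, mul_inv_eq_iff_eq_mul]
      refine and_congr_right fun _ => ⟨fun e => ?_, fun e => ?_⟩
      · rw [← hq] at e; exact mul_left_cancel e
      · rw [e, hq]
    simp only [hf, this]
  have hsum : ∀ g : G → ℂ, ∑ x, f x * g x = ∑ x ∈ S p N q, g x := fun g => by
    simp only [hf, ite_mul, one_mul, zero_mul, Finset.sum_ite_mem, Finset.univ_inter]
  have h1 := sum_mul_char_div χ f hfc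
  rw [hsum] at h1
  have h2 := sum_mul_char_div (CfsgLib.Char.principalIrr : IrrCharacter G) f hfc
  rw [hsum] at h2
  simp only [CfsgLib.Char.principalIrr_apply, Finset.sum_const, nsmul_eq_mul, mul_one,
    div_one] at h2
  have hsb : SameBlock M (χ : G → ℂ) ((CfsgLib.Char.principalIrr : IrrCharacter G) : G → ℂ) :=
    block_congr hM isPBlock_principal hχ (principalIrr_mem hM)
  have h3 : MemLocalIdeal M (s p N (χ : G → ℂ) q - ((S p N q).card : ℂ)) := by
    rw [s, h1, h2, ← Finset.sum_sub_distrib]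
    refine memIdeal_sum hM _ fun C _ => ?_
    rw [← mul_sub]
    refine memIdeal_mul_left hM ?_ (hsb _)
    simp only [hf]
    split_ifs
    · exact memRing_one hM
    · exact memRing_zero hM
  have := memIdeal_add hM h3 (card_S_sub_cnt hM h q)
  rwa [sub_add_sub_cancel] at this

end CfsgLib.PrincipalCover
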