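import Cfsg.Agent.Lib.Char.CliffordOver
import Mathlib.GroupTheory.Sylow

/-!
# Sylow subgroups and fully ramified characters

If `χ` is fully ramified over `Z` and `W / Z` is a Sylow subgroup of the quotient, only one
irreducible character of `W` lies over the character of `Z`.
-/

set_option autoImplicit false
set_option maxHeartbeats 1000000
set_option synthInstance.maxHeartbeats 200000

namespace CfsgLib.FullyRamified

open Cfsg CfsgLib CfsgLib.CharTwist
open scoped Classical ComplexConjugate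

universe u

section Basic

variable {A B : Type u} [Group A] [Fintype A] [Group B] [Fintype B]

/-- Multiplicity of a restriction, in terms of the constituents. -/
theorem exists_mult_res {ξ : B → ℂ} (hξ : IsCharacter B ξ) (f : A →* B) {θ : A → ℂ}
    (hθ : IsIrrCharacter A θ) : ∃ a d : IrrCharacter B → ℕ,
      (∀ κ : IrrCharacter B, classInner ξ (κ : B → ℂ) = a κ) ∧
      (∀ κ : IrrCharacter B, classInner ((κ : B → ℂ) ∘ f) θ = d κ) ∧
      classInner (ξ ∘ f) θ = ((∑ κ, a κ * d κ : ℕ) : ℂ) := by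
  choose a ha using fun κ : IrrCharacter B => Char.IsCharacter.exists_nat_classInner hξ κ.2
  choose d hd using fun κ : IrrCharacter B => Char.IsCharacter.exists_nat_classInner
    (isCharacter_comp (Char.IsIrrCharacter.isCharacter κ.2) f) hθ
  refine ⟨a, d, ha, hd, ?_⟩
  have e : ξ ∘ f = ∑ κ : IrrCharacter B, (a κ : ℂ) • ((κ : B → ℂ) ∘ f) := by
    funext x
    have := congrFun (Char.IsCharacter.eq_sum_classInner hξ) (f x)
    simpa [Finset.sum_apply, ha] using this
  rw [e, Char.classInner_sum_left]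
  simp only [Char.classInner_smul_left, hd]
  push_cast
  rfl

theorem res_ne_zero {ξ : B → ℂ} (hξ : IsCharacter B ξ) (f : A →* B) {θ : A → ℂ}
    (hθ : IsIrrCharacter A θ) {η : B → ℂ} (hη : IsIrrCharacter B η)
    (h1 : classInner ξ η ≠ 0) (h2 : classInner (η ∘ f) θ ≠ 0) : classInner (ξ ∘ f) θ ≠ 0 := by
  obtain ⟨a, d, ha, hd, hsum⟩ := exists_mult_res hξ f hθ
  rw [hsum, Nat.cast_ne_zero]
  intro h0
  rcases Nat.mul_eq_zero.1 ((Finset.sum_eq_zero_iff.1 h0) ⟨η, hη⟩ (Finset.mem_univ _)) with h | h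
  · exact h1 (by rw [ha ⟨η, hη⟩, h, Nat.cast_zero])
  · exact h2 (by rw [hd ⟨η, hη⟩, h, Nat.cast_zero])

theorem exists_of_res_ne_zero {ξ : B → ℂ} (hξ : IsCharacter B ξ) (f : A →* B) {θ : A → ℂ}
    (hθ : IsIrrCharacter A θ) (h : classInner (ξ ∘ f) θ ≠ 0) :
    ∃ κ : IrrCharacter B, classInner ξ (κ : B → ℂ) ≠ 0 ∧
      classInner ((κ : B → ℂ) ∘ f) θ ≠ 0 := by
  obtain ⟨a, d, ha, hd, hsum⟩ := exists_mult_res hξ f hθ
  rw [hsum, Nat.cast_ne_zero] at h
  obtain ⟨κ, -, hκ⟩ := Finset.exists_ne_zero_of_sum_ne_zero h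
  obtain ⟨h1, h2⟩ := mul_ne_zero_iff.1 hκ
  exact ⟨κ, by rw [ha]; exact Nat.cast_ne_zero.2 h1, by rw [hd]; exact Nat.cast_ne_zero.2 h2⟩

end Basic

/-- The constituents of an induced character cannot exceed its degree. -/
theorem sum_mult_degree_le {G : Type u} [Group G] [Fintype G] (N : Subgroup G) [Fintype N]
    {θ : N → ℂ} (hθ : IsIrrCharacter N θ) (S : Finset (IrrCharacter G)) (m : IrrCharacter G → ℕ)
    (hm : ∀ φ ∈ S, classInner (fun n : N => (φ : G → ℂ) n) θ = m φ) :
    ∑ φ ∈ S, m φ * Char.degree (φ : G → ℂ) ≤ N.index * Char.degree θ := by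
  have hind : IsCharacter G (Cfsg.indFun N θ) :=
    Char.IsCharacter.indFun N (Char.IsIrrCharacter.isCharacter hθ)
  choose a ha using fun φ : IrrCharacter G => Char.IsCharacter.exists_nat_classInner hind φ.2
  have h1 := congrFun (Char.IsCharacter.eq_sum_classInner hind) 1
  simp only [Finset.sum_apply, Pi.smul_apply, smul_eq_mul, ha, Char.indFun_apply_one] at h1
  have hd : ∀ φ : IrrCharacter G, (φ : G → ℂ) 1 = (Char.degree (φ : G → ℂ) : ℂ) := fun φ =>
    (Char.IsCharacter.degree_cast (Char.IsIrrCharacter.isCharacter φ.2)).symm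
  simp only [hd, ← Char.IsCharacter.degree_cast (Char.IsIrrCharacter.isCharacter hθ)] at h1
  norm_cast at h1
  rw [h1]
  refine le_trans (le_of_eq (Finset.sum_congr rfl fun φ hφ => ?_))
    (Finset.sum_le_sum_of_subset (Finset.subset_univ S))
  congr 1
  have h := ha φ
  rw [Char.classInner_indFun N θ _ (Char.IsIrrCharacter.isClassFunction φ.2),
    ← Char.classInner_conj_symm, hm φ hφ, map_natCast] at h
  exact_mod_cast h

theorem classInner_conj_eq {G : Type u} [Group G] (Z B : Subgroup G) [Z.Normal] [B.Normal]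
    [Fintype Z] (hZB : Z ≤ B) {θ : Z → ℂ} (hinv : ∀ g, CharTwist.conjFun Z θ g = θ) (η : B → ℂ)
    (g : G) : classInner (CharTwist.conjFun B η g ∘ Subgroup.inclusion hZB) θ =
      classInner (η ∘ Subgroup.inclusion hZB) θ := by
  have h1 : CharTwist.conjFun B η g ∘ Subgroup.inclusion hZB =
      (η ∘ Subgroup.inclusion hZB) ∘ MulAut.conjNormal (H := Z) g := by
    funext n
    exact congrArg η (Subtype.ext rfl)
  rw [h1]
  conv_lhs => rw [← hinv g, CharTwist.conjFun_eq_comp]
  exact Clifford.classInner_comp_equiv _ _ _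

section Core

variable {G : Type u} [Group G] [Fintype G] (Z W : Subgroup G) [Z.Normal] [Fintype Z] [Fintype W]
  (hZW : Z ≤ W) {θ : Z → ℂ} (hθ : IsIrrCharacter Z θ)
  (hinv : ∀ g, CharTwist.conjFun Z θ g = θ) {χ : G → ℂ} (hχ : IsCharacter G χ) {e : ℕ}
  (hres : ∀ z : Z, χ z = (e : ℂ) * θ z) (hoff : ∀ g, g ∉ Z → χ g = 0)
  {p k s : ℕ} [Fact p.Prime] (hW : Z.relIndex W = p ^ (2 * k)) (he : e = p ^ k * s) (hs : ¬ p ∣ s)

include hθ hinv hχ hres hoff hW he hs

/-- Every irreducible character of `W` over `θ` has degree `p ^ k θ(1)`, and there is only one. -/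
theorem degree_and_unique {ψ : W → ℂ} (hψ : IsIrrCharacter W ψ)
    (hc : classInner (ψ ∘ Subgroup.inclusion hZW) θ ≠ 0) :
    ψ 1 = (p : ℂ) ^ k * θ 1 ∧ ∀ ψ' : W → ℂ, IsIrrCharacter W ψ' →
      classInner (ψ' ∘ Subgroup.inclusion hZW) θ ≠ 0 → ψ' = ψ := by
  haveI := Fintype.ofFinite (Z.subgroupOf W)
  have hd : ∀ φ : W → ℂ, IsIrrCharacter W φ → φ 1 = (Char.degree φ : ℂ) := fun φ hφ =>
    (Char.IsCharacter.degree_cast (Char.IsIrrCharacter.isCharacter hφ)).symm
  have hθd : θ 1 = (Char.degree θ : ℂ) :=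
    (Char.IsCharacter.degree_cast (Char.IsIrrCharacter.isCharacter hθ)).symm
  have hθpos := Char.IsIrrCharacter.degree_pos hθ
  have key : ∀ φ : W → ℂ, IsIrrCharacter W φ →
      classInner (φ ∘ Subgroup.inclusion hZW) θ ≠ 0 → ∃ b : ℕ,
        classInner (φ ∘ Subgroup.inclusion hZW) θ = b ∧ p ^ k ≤ b ∧
        Char.degree φ = b * Char.degree θ := by
    intro φ hφ hφc
    obtain ⟨b, hb⟩ := Char.IsCharacter.exists_nat_classInner
      (isCharacter_comp (Char.IsIrrCharacter.isCharacter hφ) (Subgroup.inclusion hZW)) hθ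
    obtain ⟨n, hn⟩ := Char.IsCharacter.exists_nat_classInner (Clifford.isCharacter_res hχ W) hφ
    have hb0 : b ≠ 0 := fun h => hφc (by rw [hb, h, Nat.cast_zero])
    have hdeg : Char.degree φ = b * Char.degree θ := by
      have h := congrFun (Clifford.res_eq_smul_of_fixed Z W hZW hθ (fun g _ => hinv g) hφ hφc) 1
      simp only [Pi.smul_apply, smul_eq_mul] at h
      rw [show classInner (fun n : Z => φ ⟨n, hZW n.2⟩) θ = b from hb, hθd,
        show φ ⟨((1 : Z) : G), hZW (1 : Z).2⟩ = φ 1 from congrArg φ (Subtype.ext rfl),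
        hd φ hφ] at h
      exact_mod_cast h
    have hsum : ∑ w : W, χ w * conj (φ w) =
        (e : ℂ) * ∑ z : Z, θ z * conj ((φ ∘ Subgroup.inclusion hZW) z) := by
      rw [← Finset.sum_filter_add_sum_filter_not Finset.univ (fun w : W => (w : G) ∈ Z),
        Finset.sum_eq_zero (s := Finset.univ.filter fun w : W => ¬ (w : G) ∈ Z) (fun w hw => by
          rw [hoff _ (Finset.mem_filter.1 hw).2, zero_mul]), add_zero, Finset.mul_sum]
      symm
      refine Finset.sum_bij (fun z _ => Subgroup.inclusion hZW z) (fun z _ => by simp [z.2])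
        (fun a _ c _ h => Subgroup.inclusion_injective hZW h)
        (fun w hw => ⟨⟨w, (Finset.mem_filter.1 hw).2⟩, Finset.mem_univ _, Subtype.ext rfl⟩) ?_
      intro z _
      rw [Function.comp_apply, Subgroup.coe_inclusion, hres]
      ring
    have hcard : Nat.card W = Nat.card Z * p ^ (2 * k) := by
      rw [← hW, ← Subgroup.card_mul_index (Z.subgroupOf W),
        Nat.card_congr (Subgroup.subgroupOfEquivOfLe hZW).toEquiv]
      rfl
    have h2 : classInner θ (φ ∘ Subgroup.inclusion hZW) = b := by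
      rw [← Char.classInner_conj_symm, hb, map_natCast]
    have hW0 : (Nat.card W : ℂ) ≠ 0 := Nat.cast_ne_zero.2 Nat.card_pos.ne'
    have hZ0 : (Nat.card Z : ℂ) ≠ 0 := Nat.cast_ne_zero.2 Nat.card_pos.ne'
    rw [classInner, inv_mul_eq_iff_eq_mul₀ hZ0] at h2
    rw [classInner, inv_mul_eq_iff_eq_mul₀ hW0, hsum, h2, hcard] at hn
    have h3 : e * (Nat.card Z * b) = Nat.card Z * p ^ (2 * k) * n := by exact_mod_cast hn
    have h4 : s * b = p ^ k * n := by
      refine Nat.eq_of_mul_eq_mul_left (Nat.mul_pos (Nat.card_pos (α := Z))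
        (pow_pos (Fact.out : p.Prime).pos k)) ?_
      rw [he] at h3
      calc Nat.card Z * p ^ k * (s * b) = p ^ k * s * (Nat.card Z * b) := by ring
        _ = Nat.card Z * p ^ (2 * k) * n := h3
        _ = Nat.card Z * p ^ k * (p ^ k * n) := by rw [two_mul, pow_add]; ring
    have h5 : p ^ k ∣ b := (Nat.Coprime.pow_left k
      ((Fact.out : p.Prime).coprime_iff_not_dvd.2 hs)).dvd_of_dvd_mul_left ⟨n, h4⟩
    exact ⟨b, hb, Nat.le_of_dvd (Nat.pos_of_ne_zero hb0) h5, hdeg⟩
  have hbound : ∀ (S : Finset (IrrCharacter W)) (m : IrrCharacter W → ℕ),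
      (∀ φ ∈ S, classInner ((φ : W → ℂ) ∘ Subgroup.inclusion hZW) θ = m φ) →
      ∑ φ ∈ S, m φ * Char.degree (φ : W → ℂ) ≤ p ^ (2 * k) * Char.degree θ := by
    intro S m hm
    have hdt : Char.degree (CliffordOver.trans Z W hZW θ) = Char.degree θ := by
      rw [Char.degree, Char.degree, CliffordOver.trans, Function.comp_apply, map_one]
    have h := sum_mult_degree_le (Z.subgroupOf W) (CliffordOver.isIrrCharacter_trans Z W hZW hθ) S m
      (fun φ hφ => by rw [CliffordOver.classInner_trans]; exact hm φ hφ)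
    rw [hdt, show (Z.subgroupOf W).index = p ^ (2 * k) from hW] at h
    exact h
  obtain ⟨b, hb, hbk, hdeg⟩ := key ψ hψ hc
  have hpk : 0 < p ^ k := pow_pos (Fact.out : p.Prime).pos k
  have hbeq : b = p ^ k := by
    refine le_antisymm ?_ hbk
    have h := hbound {⟨ψ, hψ⟩} (fun _ => b) (fun φ hφ => by rw [Finset.mem_singleton.1 hφ]; exact hb)
    rw [Finset.sum_singleton, hdeg, ← mul_assoc] at h
    have := Nat.le_of_mul_le_mul_right h hθpos
    rw [two_mul, pow_add] at this
    nlinarith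
  refine ⟨by rw [hd ψ hψ, hdeg, hbeq, hθd]; push_cast; ring, ?_⟩
  intro ψ' hψ' hc'
  by_contra hne
  obtain ⟨b', hb', hbk', hdeg'⟩ := key ψ' hψ' hc'
  have hne' : (⟨ψ, hψ⟩ : IrrCharacter W) ≠ ⟨ψ', hψ'⟩ := fun h => hne (congrArg Subtype.val h).symm
  have h := hbound {⟨ψ, hψ⟩, ⟨ψ', hψ'⟩}
    (fun φ => if φ = ⟨ψ, hψ⟩ then b else b') (fun φ hφ => by
      rcases Finset.mem_insert.1 hφ with rfl | hφ
      · rw [if_pos rfl]; exact hb
      · rw [Finset.mem_singleton.1 hφ, if_neg (Ne.symm hne')]; exact hb')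
  rw [Finset.sum_pair hne', if_pos rfl, if_neg (Ne.symm hne'), hdeg, hdeg', ← mul_assoc,
    ← mul_assoc, ← add_mul] at h
  have := Nat.le_of_mul_le_mul_right h hθpos
  rw [two_mul, pow_add] at this
  nlinarith

variable (B : Subgroup G) [B.Normal] [Fintype B] (hZB : Z ≤ B) (hBW : B ≤ W)

include hZW hBW hZB

omit hinv hχ hres hoff hW he hs in
/-- A character over `θ` extends upwards. -/
theorem exists_over {η : B → ℂ} (hη : IsIrrCharacter B η)
    (hc : classInner (η ∘ Subgroup.inclusion hZB) θ ≠ 0) :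
    ∃ ψ : W → ℂ, IsIrrCharacter W ψ ∧ classInner (ψ ∘ Subgroup.inclusion hBW) η ≠ 0 ∧
      classInner (ψ ∘ Subgroup.inclusion hZW) θ ≠ 0 := by
  haveI := Fintype.ofFinite (B.subgroupOf W)
  have hη' := CliffordOver.isIrrCharacter_trans B W hBW hη
  obtain ⟨ψ, hψ, hc'⟩ := Clifford.exists_constituent
    (Char.IsCharacter.indFun (B.subgroupOf W) (Char.IsIrrCharacter.isCharacter hη'))
    (by
      rw [Char.indFun_apply_one]
      exact mul_ne_zero (Nat.cast_ne_zero.2 Subgroup.index_ne_zero_of_finite)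
        (Char.IsIrrCharacter.apply_one_ne_zero hη'))
  rw [Char.classInner_indFun _ _ _ (Char.IsIrrCharacter.isClassFunction hψ),
    ← Char.classInner_conj_symm, map_ne_zero, CliffordOver.classInner_trans] at hc'
  refine ⟨ψ, hψ, hc', ?_⟩
  exact res_ne_zero (isCharacter_comp (Char.IsIrrCharacter.isCharacter hψ) (Subgroup.inclusion hBW))
    (Subgroup.inclusion hZB) hθ hη hc' hc

/-- `W` is transitive on the characters of `B` over `θ`. -/
theorem exists_conj {η η' : B → ℂ} (hη : IsIrrCharacter B η) (hη' : IsIrrCharacter B η')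
    (hc : classInner (η ∘ Subgroup.inclusion hZB) θ ≠ 0)
    (hc' : classInner (η' ∘ Subgroup.inclusion hZB) θ ≠ 0) :
    ∃ a ∈ W, CharTwist.conjFun B η a = η' := by
  haveI := Fintype.ofFinite (B.subgroupOf W)
  obtain ⟨ψ, hψ, h1, h2⟩ := exists_over Z W hZW hθ B hZB hBW hη hc
  obtain ⟨ψ', hψ', h1', h2'⟩ := exists_over Z W hZW hθ B hZB hBW hη' hc'
  rw [(degree_and_unique Z W hZW hθ hinv hχ hres hoff hW he hs hψ h2).2 ψ' hψ' h2'] at h1'
  obtain ⟨a, ha⟩ := Clifford.exists_conjFun_eq (B.subgroupOf W) hψ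
    (CliffordOver.isIrrCharacter_trans B W hBW hη) (CliffordOver.isIrrCharacter_trans B W hBW hη')
    (by rw [CliffordOver.classInner_trans]; exact h1)
    (by rw [CliffordOver.classInner_trans]; exact h1')
  refine ⟨a, a.2, funext fun n => ?_⟩
  refine Eq.trans (congrArg η (Subtype.ext ?_))
    (Eq.trans (congrFun ha ((Subgroup.subgroupOfEquivOfLe hBW).symm n)) (congrArg η' (Subtype.ext ?_)))
  · simp
  · simp

/-- `G` is the product of the inertia group and `W`. -/
theorem exists_inertia_mul {η : B → ℂ} (hη : IsIrrCharacter B η)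
    (hc : classInner (η ∘ Subgroup.inclusion hZB) θ ≠ 0) (g : G) :
    ∃ a ∈ W, g * a⁻¹ ∈ CharTwist.inertia B η := by
  obtain ⟨a, ha, heq⟩ := exists_conj Z W hZW hθ hinv hχ hres hoff hW he hs B hZB hBW hη
    (CharTwist.isIrrCharacter_conjFun B hη g) hc
    (by rw [classInner_conj_eq Z B hZB hinv]; exact hc)
  refine ⟨a, ha, ?_⟩
  rw [CharTwist.mem_inertia, CharTwist.conjFun_mul, ← heq, ← CharTwist.conjFun_mul, mul_inv_cancel,
    CharTwist.conjFun_one]

end Core

end CfsgLib.FullyRamified
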