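import Cfsg.Agent.Lib.BlockPrincipal.FullyRamified

/-!
# Sylow complements in quotients by fully ramified characters
-/

set_option autoImplicit false
set_option maxHeartbeats 1000000
set_option synthInstance.maxHeartbeats 200000

namespace CfsgLib.FullyRamified

open Cfsg CfsgLib CfsgLib.CharTwist
open scoped Classical

universe u

theorem invariant_and_vanish {H : Type u} [Group H] [Fintype H] (Z : Subgroup H) [Z.Normal]
    [Fintype Z] (χ : IrrCharacter H) (θ : IrrCharacter Z) {e : ℕ} (he : e ^ 2 = Z.index)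
    (hres : ∀ z : Z, (χ : H → ℂ) z = (e : ℂ) * (θ : Z → ℂ) z) :
    (∀ g, CharTwist.conjFun Z (θ : Z → ℂ) g = θ) ∧ ∀ g, g ∉ Z → (χ : H → ℂ) g = 0 := by
  have he0 : (e : ℂ) ≠ 0 := by
    refine Nat.cast_ne_zero.2 fun h => Subgroup.index_ne_zero_of_finite (H := Z) ?_
    rw [← he, h]; norm_num
  refine ⟨fun g => funext fun n => ?_, fun g hg => ?_⟩
  · have h1 := hres ⟨g * n * g⁻¹, ‹Z.Normal›.conj_mem n n.2 g⟩
    rw [Char.IsIrrCharacter.isClassFunction χ.2 (n : H) g, hres n] at h1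
    exact (mul_left_cancel₀ he0 h1).symm
  have h1 := Char.classInner_irr_self χ.2
  have hH : (Nat.card H : ℂ) ≠ 0 := Nat.cast_ne_zero.2 Nat.card_pos.ne'
  have hZ : (Nat.card Z : ℂ) ≠ 0 := Nat.cast_ne_zero.2 Nat.card_pos.ne'
  rw [classInner, inv_mul_eq_iff_eq_mul₀ hH, mul_one] at h1
  have h2 := Char.classInner_irr_self θ.2
  rw [classInner, inv_mul_eq_iff_eq_mul₀ hZ, mul_one] at h2
  simp only [Complex.mul_conj] at h1 h2
  have hZ' : ∑ x ∈ Finset.univ.filter (fun x : H => x ∈ Z),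
      (Complex.normSq ((χ : H → ℂ) x) : ℂ) = (Nat.card H : ℂ) := by
    rw [Finset.sum_subtype (p := fun x : H => x ∈ Z) _ (fun x => by simp)]
    simp only [hres, Complex.normSq_mul, Complex.normSq_natCast, Complex.ofReal_mul,
      Complex.ofReal_natCast]
    rw [← Finset.mul_sum, h2, ← Subgroup.card_mul_index Z, ← he]
    push_cast
    ring
  have h3 : ∑ x ∈ Finset.univ.filter (fun x : H => ¬ x ∈ Z),
      (Complex.normSq ((χ : H → ℂ) x) : ℂ) = 0 := by
    rw [← Finset.sum_filter_add_sum_filter_not Finset.univ (fun x : H => x ∈ Z), hZ'] at h1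
    simpa using h1
  rw [← Complex.ofReal_sum, Complex.ofReal_eq_zero] at h3
  exact Complex.normSq_eq_zero.1
    ((Finset.sum_eq_zero_iff_of_nonneg fun x _ => Complex.normSq_nonneg _).1 h3 g (by simp [hg]))

/-- Some character of `B` lies over `θ`. -/
theorem exists_below {G : Type u} [Group G] [Fintype G] (Z B : Subgroup G) [Fintype Z] [Fintype B]
    (hZB : Z ≤ B) {θ : Z → ℂ} (hθ : IsIrrCharacter Z θ) {χ : G → ℂ} (hχ : IsCharacter G χ)
    {e : ℕ} (he : e ≠ 0) (hres : ∀ z : Z, χ z = (e : ℂ) * θ z) :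
    ∃ η : IrrCharacter B, classInner ((η : B → ℂ) ∘ Subgroup.inclusion hZB) θ ≠ 0 := by
  obtain ⟨η, -, h⟩ := exists_of_res_ne_zero (Clifford.isCharacter_res hχ B)
    (Subgroup.inclusion hZB) hθ (by
      have : (fun b : B => χ b) ∘ Subgroup.inclusion hZB = (e : ℂ) • θ := funext hres
      rw [this, Char.classInner_smul_left, Char.classInner_irr_self hθ, mul_one]
      exact Nat.cast_ne_zero.2 he)
  exact ⟨η, h⟩

/-- If some character of `B` over `θ` is moved by every element of `W` outside `B`, for the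
Sylow preimage `W` and `B = W ∩ K`, then the quotient by `K` has a Hall `p'`-subgroup. -/
theorem exists_hall {H : Type u} [Group H] [Fintype H] (Z : Subgroup H) [Z.Normal] [Fintype Z]
    {θ : Z → ℂ} (hθ : IsIrrCharacter Z θ) {χ : H → ℂ} (hχ : IsCharacter H χ) {e : ℕ}
    (hee : e ^ 2 = Z.index) (hres : ∀ z : Z, χ z = (e : ℂ) * θ z)
    (hoff : ∀ g, g ∉ Z → χ g = 0) (hinv : ∀ g, CharTwist.conjFun Z θ g = θ)
    (K : Subgroup H) [K.Normal] (hZK : Z ≤ K) (p : ℕ) [Fact p.Prime]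
    (hstab : ∀ (G : Type u) [Group G] [Fintype G] (ι : G →* H) (Z' W B : Subgroup G) [Z'.Normal]
      [B.Normal] [Fintype Z'] [Fintype W] [Fintype B] (hZB : Z' ≤ B) (hBW : B ≤ W)
      (θ' : Z' → ℂ) (k s : ℕ), IsIrrCharacter Z' θ' → (∀ g, CharTwist.conjFun Z' θ' g = θ') →
      (∀ z : Z', χ (ι z) = (e : ℂ) * θ' z) → (∀ g, g ∉ Z' → χ (ι g) = 0) →
      Z'.relIndex W = p ^ (2 * k) → e = p ^ k * s → ¬ p ∣ s →
      (∀ w ∈ W, (w ∈ B ↔ ι w ∈ K)) → B.relIndex W ∣ K.index →
      (∀ z : Z', ∃ hz : ι z ∈ Z, θ' z = θ ⟨ι z, hz⟩) →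
      ∃ η : B → ℂ, IsIrrCharacter B η ∧ classInner (η ∘ Subgroup.inclusion hZB) θ' ≠ 0 ∧
        CharTwist.inertia B η ⊓ W ≤ B) :
    ∃ M : Subgroup (H ⧸ K), ¬ p ∣ Nat.card M ∧ ∃ n, M.index = p ^ n := by
  have hp : p.Prime := Fact.out
  obtain ⟨Q⟩ : Nonempty (Sylow p K) := inferInstance
  obtain ⟨P, hQP⟩ := (Q.isPGroup'.map K.subtype).exists_le_sylow
  set Qm : Subgroup H := (Q : Subgroup K).map K.subtype with hQm
  have hPK : ∀ x, x ∈ (P : Subgroup H) → x ∈ K → x ∈ Qm := by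
    intro x hxP hxK
    have hle : (Q : Subgroup K) ≤ (P : Subgroup H).subgroupOf K := fun q hq =>
      Subgroup.mem_subgroupOf.2 (hQP (Subgroup.mem_map_of_mem _ hq))
    have heq := Q.is_maximal' (P.isPGroup'.comap_of_injective K.subtype K.subtype_injective) hle
    refine ⟨⟨x, hxK⟩, ?_, rfl⟩
    show (⟨x, hxK⟩ : K) ∈ (Q : Subgroup K)
    rw [← heq]
    exact hxP
  set W0 : Subgroup H := (P : Subgroup H) ⊔ Z with hW0
  set B0 : Subgroup H := W0 ⊓ K with hB0
  have hB0eq : B0 = Qm ⊔ Z := by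
    refine le_antisymm ?_ (sup_le ?_ ?_)
    · rintro w ⟨hwW, hwK⟩
      obtain ⟨x, hx, z, hz, rfl⟩ := Subgroup.mem_sup_of_normal_right.1 hwW
      refine Subgroup.mul_mem_sup (hPK x hx ?_) hz
      exact (K.mul_mem_cancel_right (hZK hz)).1 hwK
    · exact le_inf (hQP.trans le_sup_left) (Subgroup.map_subtype_le _)
    · exact le_inf le_sup_right hZK
  set N : Subgroup H := Subgroup.normalizer (B0 : Set H) with hN
  have hWN : W0 ≤ N := by
    intro a ha
    rw [hN, Subgroup.mem_normalizer_iff]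
    intro x
    simp only [hB0, Subgroup.mem_inf, SetLike.mem_coe]
    constructor
    · rintro ⟨h1, h2⟩
      exact ⟨W0.mul_mem (W0.mul_mem ha h1) (W0.inv_mem ha), ‹K.Normal›.conj_mem x h2 a⟩
    · rintro ⟨h1, h2⟩
      refine ⟨?_, ?_⟩
      · have := W0.mul_mem (W0.mul_mem (W0.inv_mem ha) h1) ha
        simpa [mul_assoc] using this
      · have := ‹K.Normal›.conj_mem _ h2 a⁻¹
        simpa [mul_assoc] using this
  have hfrat : N ⊔ K = ⊤ := by
    have h1 : Subgroup.normalizer (Qm : Set H) ≤ N := by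
      intro g hg
      rw [hN, hB0eq]
      rw [Subgroup.mem_normalizer_iff] at hg ⊢
      intro x
      constructor
      · intro hx
        obtain ⟨a, ha, z, hz, rfl⟩ := Subgroup.mem_sup_of_normal_right.1 hx
        have he' : g * (a * z) * g⁻¹ = (g * a * g⁻¹) * (g * z * g⁻¹) := by group
        rw [he']
        exact Subgroup.mul_mem_sup ((hg a).1 ha) (‹Z.Normal›.conj_mem z hz g)
      · intro hx
        obtain ⟨a, ha, z, hz, hxe⟩ := Subgroup.mem_sup_of_normal_right.1 hx
        have he' : x = (g⁻¹ * a * g) * (g⁻¹ * z * g) := by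
          have : x = g⁻¹ * (g * x * g⁻¹) * g := by group
          rw [this, ← hxe]; group
        rw [he']
        refine Subgroup.mul_mem_sup ((hg _).2 ?_) (by simpa using ‹Z.Normal›.conj_mem z hz g⁻¹)
        simpa [mul_assoc] using ha
    refine eq_top_iff.2 ?_
    rw [← Sylow.normalizer_sup_eq_top Q]
    exact sup_le_sup_right h1 _
  -- inside the normalizer
  haveI : Fintype N := Fintype.ofFinite N
  set Z' : Subgroup N := Z.subgroupOf N with hZ'
  set W : Subgroup N := W0.subgroupOf N with hW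
  set B : Subgroup N := B0.subgroupOf N with hB
  haveI : Z'.Normal := inferInstance
  haveI hBn : B.Normal := Subgroup.normal_subgroupOf_iff_le_normalizer (inf_le_left.trans hWN) |>.2 le_rfl
  haveI : Fintype Z' := Fintype.ofFinite _
  haveI : Fintype W := Fintype.ofFinite _
  haveI : Fintype B := Fintype.ofFinite _
  have hZN : Z ≤ N := le_sup_right.trans hWN
  have hZB : Z' ≤ B := Subgroup.comap_mono (le_inf le_sup_right hZK)
  have hBW : B ≤ W := Subgroup.comap_mono inf_le_left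
  -- indices
  obtain ⟨j, hj⟩ : ∃ j, Z.relIndex W0 = p ^ j := by
    rw [hW0, Subgroup.relIndex_sup_right]
    obtain ⟨n, hn⟩ := IsPGroup.iff_card.1 P.isPGroup'
    obtain ⟨j, -, hj⟩ := (Nat.dvd_prime_pow hp).1 (hn ▸ Subgroup.relIndex_dvd_card Z (P : Subgroup H))
    exact ⟨j, hj⟩
  have hW0p : ¬ p ∣ W0.index := fun h =>
    P.not_dvd_index (h.trans (Subgroup.index_dvd_of_le le_sup_left))
  have he0 : e ≠ 0 := by
    intro h
    exact Subgroup.index_ne_zero_of_finite (H := Z) (by rw [← hee, h]; norm_num)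
  obtain ⟨k, s, hs, he⟩ := Nat.exists_eq_pow_mul_and_not_dvd he0 p hp.ne_one
  have hk : j = 2 * k := by
    have h1 : p ^ j * W0.index = p ^ (2 * k) * s ^ 2 := by
      rw [← hj, Subgroup.relIndex_mul_index (le_sup_right : Z ≤ W0), ← hee, he]
      ring
    have h2 := congrArg (fun t => t.factorization p) h1
    have hs2 : ¬ p ∣ s ^ 2 := fun h => hs (hp.dvd_of_dvd_pow h)
    have hs20 : s ^ 2 ≠ 0 := fun h => hs2 (h.symm ▸ dvd_zero p)
    simp only [Nat.factorization_mul (pow_ne_zero _ hp.ne_zero) Subgroup.index_ne_zero_of_finite,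
      Nat.factorization_mul (pow_ne_zero _ hp.ne_zero) hs20,
      Finsupp.add_apply, hp.factorization_pow, Finsupp.single_eq_same,
      Nat.factorization_eq_zero_of_not_dvd hW0p, Nat.factorization_eq_zero_of_not_dvd hs2,
      add_zero] at h2
    exact h2
  subst hk
  have hZW : Z'.relIndex W = p ^ (2 * k) := by rw [hZ', hW, Subgroup.relIndex_subgroupOf hWN]; exact hj
  have hWp : ¬ p ∣ W.index := fun h => hW0p (h.trans
    (Dvd.intro _ (Subgroup.relIndex_mul_index hWN)))
  have hmemK : ∀ w ∈ W, (w ∈ B ↔ (N.subtype w) ∈ K) := fun w hw =>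
    ⟨fun h => h.2, fun h => ⟨hw, h⟩⟩
  have hBrel : B.relIndex W ∣ K.index := by
    rw [hB, hW, Subgroup.relIndex_subgroupOf hWN, hB0, Subgroup.inf_relIndex_left]
    exact Subgroup.relIndex_dvd_index_of_normal K W0
  let eZ : Z' ≃* Z := Subgroup.subgroupOfEquivOfLe hZN
  have hres' : ∀ z : Z', χ (N.subtype z) = (e : ℂ) * (θ ∘ eZ) z := fun z => hres (eZ z)
  have hinv' : ∀ g : N, CharTwist.conjFun Z' (θ ∘ eZ) g = θ ∘ eZ := fun g =>
    funext fun z => congrFun (hinv g) (eZ z)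
  have hoff' : ∀ g : N, g ∉ Z' → χ (N.subtype g) = 0 := fun g hg => hoff _ hg
  have hθ' := CharTwist.isIrrCharacter_comp_equiv hθ eZ
  obtain ⟨η, hη, hηc, hηS⟩ := hstab N N.subtype Z' W B hZB hBW (θ ∘ eZ) k s hθ' hinv' hres' hoff'
    hZW he hs hmemK hBrel (fun z => ⟨z.2, rfl⟩)
  set S := CharTwist.inertia B η with hS
  have hBS : B ≤ S := CharTwist.le_inertia B (Char.IsIrrCharacter.isClassFunction hη)
  have hprod : ∀ g : N, ∃ a ∈ W, g * a⁻¹ ∈ S := exists_inertia_mul Z' W (hZB.trans hBW) hθ' hinv'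
    (CharTwist.isCharacter_comp hχ N.subtype) hres' hoff' hZW he hs B hZB hBW hη hηc
  have hSrel : S.relIndex W = S.index := by
    refine le_antisymm (Subgroup.relIndex_top_right S ▸ Subgroup.relIndex_le_of_le_right le_top
      (by rw [Subgroup.relIndex_top_right]; exact Subgroup.index_ne_zero_of_finite)) ?_
    refine Nat.card_le_card_of_surjective
      (Quotient.map' (Subtype.val : W → N) (fun a b h => by
        rw [QuotientGroup.leftRel_apply, Subgroup.mem_subgroupOf] at h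
        rw [QuotientGroup.leftRel_apply]
        simpa using h)) ?_
    intro q
    obtain ⟨g, rfl⟩ := QuotientGroup.mk_surjective q
    obtain ⟨a, ha, hga⟩ := hprod g⁻¹
    refine ⟨QuotientGroup.mk ⟨a⁻¹, W.inv_mem ha⟩, ?_⟩
    refine QuotientGroup.eq.2 ?_
    simpa [mul_assoc] using S.inv_mem hga
  have hSBW : S.index = B.relIndex W := by
    rw [← hSrel, ← Subgroup.inf_relIndex_right S W, le_antisymm hηS (le_inf hBS hBW)]
  have hBS' : B.relIndex S = W.index := by
    have h1 := Subgroup.relIndex_mul_index hBS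
    rw [← Subgroup.relIndex_mul_index hBW, hSBW, mul_comm (B.relIndex W)] at h1
    exact Nat.eq_of_mul_eq_mul_right (Nat.pos_of_ne_zero fun h => by
      rw [← hSBW] at h; exact Subgroup.index_ne_zero_of_finite h) h1
  let f : N →* H ⧸ K := (QuotientGroup.mk' K).comp N.subtype
  have hf : Function.Surjective f := by
    intro q
    obtain ⟨x, rfl⟩ := QuotientGroup.mk_surjective q
    have hx : x ∈ N ⊔ K := hfrat ▸ Subgroup.mem_top x
    obtain ⟨a, ha, b, hb, rfl⟩ := Subgroup.mem_sup_of_normal_right.1 hx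
    refine ⟨⟨a, ha⟩, ?_⟩
    show ((a : H) : H ⧸ K) = _
    rw [QuotientGroup.mk_mul, (QuotientGroup.eq_one_iff b).2 hb, mul_one]
  refine ⟨S.map f, fun h => hWp ?_, ?_⟩
  · rw [← hBS']
    rw [← Subgroup.relIndex_ker] at h
    refine h.trans (Subgroup.relIndex_dvd_of_le_left S fun b hb => ?_)
    exact MonoidHom.mem_ker.2 ((QuotientGroup.eq_one_iff (b : H)).2 hb.2)
  · have h1 : (S.map f).index ∣ B.relIndex W := hSBW ▸ Subgroup.index_map_dvd _ hf
    have h2 : B.relIndex W ∣ p ^ (2 * k) :=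
      hZW ▸ Dvd.intro_left _ (Subgroup.relIndex_mul_relIndex Z' B W hZB hBW)
    obtain ⟨n, -, hn⟩ := (Nat.dvd_prime_pow hp).1 (h1.trans h2)
    exact ⟨n, hn⟩

end CfsgLib.FullyRamified
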