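import Cfsg.Agent.Lib.Blocks.ClassSum
import Mathlib.Tactic.NoncommRing
import Mathlib.Algebra.CharP.Algebra
import Mathlib.Algebra.CharP.Lemmas
import Mathlib.RingTheory.Nakayama
import Mathlib.RingTheory.LocalRing.MaximalIdeal.Basic
import Mathlib.RingTheory.LocalRing.RingHom.Basic
import Mathlib.GroupTheory.Nilpotent
import Mathlib.RingTheory.Noetherian.Basic
import Mathlib.LinearAlgebra.FiniteDimensional.Basic

/-!
# A central idempotent for which `P`-fixed vectors are fixed by a normal subgroup
-/

set_option autoImplicit false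

namespace CfsgLib.BlockPrincipal.Unipotent

open MonoidAlgebra CfsgLib.Blocks
open scoped Classical

variable {G : Type*} [Group G]

section Algebra

variable {k : Type*} [CommRing k]

/-- The factorisation `g ^ m - 1 = (g - 1) (m + (g - 1) c)`. -/
theorem exists_geom {A : Type*} [Ring A] (u : A) (m : ℕ) :
    ∃ c : A, Commute c u ∧ u ^ m - 1 = (u - 1) * ((m : A) + (u - 1) * c) := by
  induction m with
  | zero => exact ⟨0, Commute.zero_left _, by simp⟩
  | succ m ih =>
    obtain ⟨c, hc, h⟩ := ih
    refine ⟨c + ((m : A) + (u - 1) * c), ?_, ?_⟩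
    · exact hc.add_left (((m.cast_commute u)).add_left
        (((Commute.refl u).sub_left (Commute.one_left u)).mul_left hc))
    · have h1 : u ^ (m + 1) - 1 = (u - 1) * (u ^ m - 1) + (u ^ m - 1) + (u - 1) := by
        rw [pow_succ']; noncomm_ring
      rw [h1, h, Nat.cast_succ]
      noncomm_ring

end Algebra

section Field

variable {k : Type*} [Field k] {p : ℕ} [Fact p.Prime] [CharP k p]

/-- The filtration by elements killed successively by all `g - 1`. -/
noncomputable def fil (k : Type*) [Field k] (L : Subgroup G) : ℕ → Submodule k (MonoidAlgebra k G)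
  | 0 => ⊥
  | n + 1 =>
    { carrier := {a | ∀ g ∈ L, (single g (1 : k) - 1) * a ∈ fil k L n}
      zero_mem' := fun g _ => by rw [mul_zero]; exact zero_mem _
      add_mem' := fun ha hb g hg => by rw [mul_add]; exact add_mem (ha g hg) (hb g hg)
      smul_mem' := fun c a ha g hg => by
        rw [mul_smul_comm]; exact Submodule.smul_mem _ c (ha g hg) }

theorem mem_fil_succ {L : Subgroup G} {n : ℕ} {a : MonoidAlgebra k G} :
    a ∈ fil k L (n + 1) ↔ ∀ g ∈ L, (single g (1 : k) - 1) * a ∈ fil k L n := Iff.rfl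

theorem single_mul_mem_fil {L : Subgroup G} [L.Normal] :
    ∀ (n : ℕ) (x : G) (a : MonoidAlgebra k G), a ∈ fil k L n → single x (1 : k) * a ∈ fil k L n := by
  intro n
  induction n with
  | zero =>
    intro x a ha
    rw [fil, Submodule.mem_bot] at ha
    rw [ha, mul_zero]
    exact zero_mem _
  | succ n ih =>
    intro x a ha
    rw [mem_fil_succ] at ha ⊢
    intro g hg
    have h := ih x _ (ha (x⁻¹ * g * x) (by simpa using ‹L.Normal›.conj_mem g hg x⁻¹))
    convert h using 1
    rw [← mul_assoc, ← mul_assoc, sub_mul, mul_sub, one_mul, mul_one, single_mul_single,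
      single_mul_single]
    simp [mul_assoc]

theorem fil_le_succ {L : Subgroup G} [L.Normal] (n : ℕ) : fil k L n ≤ fil k L (n + 1) := by
  intro a ha g _
  rw [sub_mul, one_mul]
  exact sub_mem (single_mul_mem_fil n g a ha) ha

/-- Powers of `g - 1` kill the filtration. -/
theorem pow_mul_eq_zero {L : Subgroup G} {g : G} (hg : g ∈ L) :
    ∀ (n : ℕ) (a : MonoidAlgebra k G), a ∈ fil k L n → (single g (1 : k) - 1) ^ n * a = 0 := by
  intro n
  induction n with
  | zero =>
    intro a ha
    rw [fil, Submodule.mem_bot] at ha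
    rw [ha, mul_zero]
  | succ n ih =>
    intro a ha
    rw [pow_succ, mul_assoc]
    exact ih _ (ha g hg)

variable [Finite G]

/-- An element whose sums over the cosets of `P` vanish maps `P`-fixed vectors to zero. -/
theorem mul_mem_of_coset_sums {J : Submodule k (MonoidAlgebra k G)}
    (hJ : ∀ (x : G) (b : MonoidAlgebra k G), b ∈ J → single x (1 : k) * b ∈ J)
    (P : Subgroup G) [Fintype P] {w a : MonoidAlgebra k G}
    (hw : ∀ x : G, ∑ y : P, w.coeff (x * y) = 0)
    (ha : ∀ y ∈ P, single y (1 : k) * a - a ∈ J) : w * a ∈ J := by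
  haveI := Fintype.ofFinite G
  have hrep : ∀ x : G, single x (1 : k) * a - single ((x : G ⧸ P).out) (1 : k) * a ∈ J := by
    intro x
    obtain ⟨y, hy⟩ := QuotientGroup.mk_out_eq_mul P x
    have h := hJ x _ (ha (y : G) y.2)
    rw [mul_sub, ← mul_assoc, single_mul_single, one_mul, ← hy] at h
    rw [← neg_sub]
    exact neg_mem h
  have hw0 : ∑ x : G, w.coeff x • (single ((x : G ⧸ P).out) (1 : k) * a) = 0 := by
    rw [← Finset.sum_fiberwise Finset.univ (fun x : G => (x : G ⧸ P))]
    refine Finset.sum_eq_zero fun c _ => ?_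
    rw [Finset.sum_congr rfl (g := fun x => w.coeff x • (single c.out (1 : k) * a)) fun x hx => by
      rw [(Finset.mem_filter.1 hx).2], ← Finset.sum_smul]
    rw [show ∑ x ∈ Finset.univ.filter (fun x : G => (x : G ⧸ P) = c), w.coeff x =
      ∑ y : P, w.coeff (c.out * y) from ?_, hw, zero_smul]
    refine Finset.sum_nbij' (fun x => if h : c.out⁻¹ * x ∈ P then ⟨_, h⟩ else 1) (fun y => c.out * y)
      (fun x _ => Finset.mem_univ _) (fun y _ => ?_) (fun x hx => ?_) (fun y _ => ?_) (fun x hx => ?_)
    · simp [QuotientGroup.mk_mul_of_mem c.out y.2]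
    · have : c.out⁻¹ * x ∈ P := by
        rw [← QuotientGroup.eq, QuotientGroup.out_eq']
        exact ((Finset.mem_filter.1 hx).2).symm
      simp [this]
    · simp
    · have : c.out⁻¹ * x ∈ P := by
        rw [← QuotientGroup.eq, QuotientGroup.out_eq']
        exact ((Finset.mem_filter.1 hx).2).symm
      simp [this]
  have hwa : w * a = ∑ x : G, w.coeff x • (single x (1 : k) * a) := by
    simp only [← smul_mul_assoc, ← Finset.sum_mul]
    congr 1
    ext x
    simp [coeff_single_apply]
  rw [hwa, ← sub_zero (∑ x : G, _), ← hw0, ← Finset.sum_sub_distrib]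
  exact Submodule.sum_mem _ fun x _ => by rw [← smul_sub]; exact J.smul_mem _ (hrep x)

/-- A nonzero vector of `e k[G]` outside `J` fixed modulo `J` by the `p`-group `P`. -/
theorem exists_fixed {J : Submodule k (MonoidAlgebra k G)}
    (hJ : ∀ (x : G) (b : MonoidAlgebra k G), b ∈ J → single x (1 : k) * b ∈ J)
    {e : MonoidAlgebra k G} (hec : ∀ x : G, single x (1 : k) * e = e * single x 1)
    (he : e * e = e) (heJ : e ∉ J) (P : Subgroup G) (hP : IsPGroup p P) :
    ∃ a, e * a = a ∧ a ∉ J ∧ ∀ y ∈ P, single y (1 : k) * a - a ∈ J := by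
  let W : Subgroup P → Prop := fun Q =>
    ∃ a, e * a = a ∧ a ∉ J ∧ ∀ y ∈ Q, single (y : G) (1 : k) * a - a ∈ J
  have hbot : W ⊥ := ⟨e, he, heJ, fun y hy => by
    rw [Subgroup.mem_bot] at hy
    rw [hy, Subgroup.coe_one, ← MonoidAlgebra.one_def, one_mul, sub_self]
    exact zero_mem _⟩
  obtain ⟨Q, hQW, hQmax⟩ := Set.Finite.exists_maximalFor id {Q : Subgroup P | W Q}
    (Set.toFinite _) ⟨⊥, hbot⟩
  by_cases hQ : Q = ⊤
  · obtain ⟨a, h1, h2, h3⟩ := hQW
    exact ⟨a, h1, h2, fun y hy => h3 ⟨y, hy⟩ (hQ ▸ Subgroup.mem_top _)⟩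
  exfalso
  haveI := hP.isNilpotent
  obtain ⟨hlt, hne⟩ := lt_iff_le_and_ne.1
    (Group.normalizerCondition_of_isNilpotent Q (lt_top_iff_ne_top.2 hQ))
  obtain ⟨y, hyN, hyQ⟩ := SetLike.exists_of_lt (lt_of_le_of_ne hlt hne)
  obtain ⟨a, hea, haJ, hfix⟩ := hQW
  set u : MonoidAlgebra k G := single (y : G) (1 : k) - 1 with hu
  obtain ⟨j, hj⟩ := hP y
  have hpow : u ^ p ^ j = 0 := by
    haveI : CharP (MonoidAlgebra k G) p := charP_of_injective_algebraMap
      (algebraMap k (MonoidAlgebra k G)).injective p
    rw [hu, sub_pow_char_pow_of_commute _ _ (Commute.one_right _), one_pow, single_pow, one_pow,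
      show (y : G) ^ p ^ j = 1 from congrArg Subtype.val hj, ← MonoidAlgebra.one_def, sub_self]
  -- the last power of `y - 1` staying outside `J`
  have hex : ∃ i, u ^ i * a ∉ J ∧ u ^ (i + 1) * a ∈ J := by
    by_contra hno
    push Not at hno
    have hall : ∀ i, u ^ i * a ∉ J := fun i => by
      induction i with
      | zero => rwa [pow_zero, one_mul]
      | succ i ih => exact hno i ih
    exact hall (p ^ j) (by rw [hpow, zero_mul]; exact zero_mem _)
  obtain ⟨i, hi, hi'⟩ := hex
  have heu : ∀ i, e * (u ^ i * a) = u ^ i * a := fun i => by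
    have hc : Commute e u := (Commute.sub_right (hec (y : G)).symm (Commute.one_right e))
    rw [← mul_assoc, (hc.pow_right i).eq, mul_assoc, hea]
  have hfixi : ∀ i, ∀ q ∈ Q, single (q : G) (1 : k) * (u ^ i * a) - u ^ i * a ∈ J := by
    intro i
    induction i with
    | zero => intro q hq; rw [pow_zero, one_mul]; exact hfix q hq
    | succ i ih =>
      intro q hq
      have hq' : y⁻¹ * q * y ∈ Q := by
        have := (Subgroup.mem_normalizer_iff.1 (inv_mem hyN) q).1 hq
        simpa using this
      have h1 := hJ (y : G) _ (ih _ hq')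
      have h2 := ih q hq
      have h3 : single (q : G) (1 : k) * single (y : G) 1 =
          single (y : G) (1 : k) * single ((y⁻¹ * q * y : P) : G) 1 := by
        rw [single_mul_single, single_mul_single]
        push_cast
        simp [mul_assoc]
      rw [pow_succ', mul_assoc, hu, sub_mul (single (y : G) (1 : k)), one_mul, mul_sub,
        ← mul_assoc, h3, mul_assoc, ← hu]
      rw [mul_sub] at h1
      convert sub_mem h1 h2 using 1
      abel
  let Q' : Subgroup P :=
    { carrier := {z | single (z : G) (1 : k) * (u ^ i * a) - u ^ i * a ∈ J}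
      one_mem' := by
        rw [Set.mem_setOf_eq, Subgroup.coe_one, ← MonoidAlgebra.one_def, one_mul, sub_self]
        exact zero_mem _
      mul_mem' := fun {z w} hz hw => by
        have h := add_mem (hJ (z : G) _ hw) hz
        rw [mul_sub, ← mul_assoc, single_mul_single, one_mul, sub_add_sub_cancel] at h
        exact h
      inv_mem' := fun {z} hz => by
        have h := neg_mem (hJ ((z⁻¹ : P) : G) _ hz)
        rw [mul_sub, ← mul_assoc, single_mul_single, one_mul, Subgroup.coe_inv, inv_mul_cancel,
          ← MonoidAlgebra.one_def, one_mul, neg_sub] at h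
        exact h }
  have hyQ' : y ∈ Q' := by
    show single (y : G) (1 : k) * (u ^ i * a) - u ^ i * a ∈ J
    rw [pow_succ', mul_assoc, hu, sub_mul, one_mul, ← hu] at hi'
    exact hi'
  have hQle : Q ≤ Q' := fun q hq => hfixi i q hq
  exact hyQ (hQmax (j := Q') ⟨_, heu i, hi, fun z hz => hz⟩ hQle hyQ')

/-- `p`-regular elements of `L` act trivially on `e k[G]`. -/
theorem mul_single_eq {e : MonoidAlgebra k G} (hec : ∀ x : G, single x (1 : k) * e = e * single x 1)
    (he : e * e = e) (L : Subgroup G) [L.Normal] (P : Subgroup G) [Fintype P] (hP : IsPGroup p P)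
    (hsum : ∀ g ∈ L, ∀ x : G, ∑ y : P, e.coeff (x * y * g) = ∑ y : P, e.coeff (x * y))
    {g : G} (hg : g ∈ L) (hreg : ¬ p ∣ orderOf g) : e * single g (1 : k) = e := by
  haveI : Module.Finite k (MonoidAlgebra k G) :=
    Module.Finite.equiv (MonoidAlgebra.coeffLinearEquiv k).symm
  obtain ⟨N, hN⟩ := monotone_stabilizes_iff_noetherian.2 inferInstance
    ⟨fil k L, monotone_nat_of_le_succ (fil_le_succ (k := k) (L := L))⟩
  have hmem : e ∈ fil k L N := by
    by_contra heJ
    obtain ⟨a, hea, haJ, hfix⟩ := exists_fixed (single_mul_mem_fil N) hec he heJ P hP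
    apply haJ
    rw [show fil k L N = fil k L (N + 1) from hN (N + 1) N.le_succ]
    intro h hh
    have h1 := mul_mem_of_coset_sums (single_mul_mem_fil N) P
      (w := e * single h (1 : k) - e) (fun x => ?_) hfix
    · rw [sub_mul, hea, ← hec, mul_assoc, hea] at h1
      rw [sub_mul, one_mul]
      exact h1
    · simp only [coeff_sub, Finsupp.sub_apply, coeff_mul_single_group, mul_one,
        Finset.sum_sub_distrib]
      rw [hsum h⁻¹ (inv_mem hh), sub_self]
  set u : MonoidAlgebra k G := single g (1 : k) - 1 with hu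
  have hnil : u ^ N * e = 0 := pow_mul_eq_zero hg N e hmem
  set m := orderOf g with hm
  obtain ⟨c, hcu, hc⟩ := exists_geom (single g (1 : k)) m
  rw [single_pow, one_pow, hm, pow_orderOf_eq_one, ← MonoidAlgebra.one_def, sub_self, ← hu,
    mul_add, ← hm] at hc
  have hmk : (m : k) ≠ 0 := fun h => hreg ((CharP.cast_eq_zero_iff k p m).1 h)
  have hcu' : Commute c u := hcu.sub_right (Commute.one_right c)
  have hstep : ∀ i, u ^ (i + 1) * e = 0 → i ≠ 0 → u ^ i * e = 0 := by
    intro i hi hi0
    obtain ⟨i, rfl⟩ := Nat.exists_eq_succ_of_ne_zero hi0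
    have h1 : (u * ((m : MonoidAlgebra k G)) + u * (u * c)) * (u ^ i * e) = 0 := by
      rw [← hc, zero_mul]
    have h2 : u * (u * c) * (u ^ i * e) = c * (u ^ (i + 2) * e) := by
      rw [← mul_assoc u, ← (hcu'.mul_right hcu').eq, mul_assoc, ← mul_assoc (u * u),
        show i + 2 = 2 + i by omega, pow_add, sq]
    rw [add_mul, h2, hi, mul_zero, add_zero, ← (Nat.cast_commute m u).eq, mul_assoc,
      ← mul_assoc u, ← pow_succ', ← nsmul_eq_mul, ← Nat.cast_smul_eq_nsmul k,
      smul_eq_zero] at h1
    exact h1.resolve_left hmk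
  have hone : u * e = 0 := by
    have : ∀ i, 1 ≤ i → u ^ i * e = 0 → u * e = 0 := by
      intro i
      induction i with
      | zero => intro h; omega
      | succ i ih =>
        intro _ h
        by_cases h0 : i = 0
        · subst h0; simpa using h
        · exact ih (Nat.one_le_iff_ne_zero.2 h0) (hstep i h h0)
    exact this (N + 1) (Nat.le_add_left 1 N) (by rw [pow_succ', mul_assoc, hnil, mul_zero])
  rw [hu, sub_mul, one_mul, sub_eq_zero] at hone
  rw [← hec]; exact hone

end Field

section Local

variable [Finite G] {R : Type*} [CommRing R] [IsLocalRing R] {k : Type*} [Field k] {f : R →+* k}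

/-- An element absorbed by an element reducing to zero vanishes. -/
theorem eq_zero_of_mul_eq (hf : ∀ r, f r = 0 → r ∈ IsLocalRing.maximalIdeal R)
    {d w : MonoidAlgebra R G} (hw : MonoidAlgebra.mapRingHom G f w = 0) (h : d = d * w) : d = 0 := by
  haveI := Fintype.ofFinite G
  set I : Ideal R := Ideal.span (Set.range fun x => d.coeff x)
  have hw' : ∀ x, w.coeff x ∈ IsLocalRing.maximalIdeal R := fun x => hf _ (by
    have := congrArg (fun a : MonoidAlgebra k G => a.coeff x) hw
    simpa using this)
  have hI : I ≤ IsLocalRing.maximalIdeal R • I := by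
    refine Ideal.span_le.2 ?_
    rintro _ ⟨x, rfl⟩
    show d.coeff x ∈ IsLocalRing.maximalIdeal R • I
    rw [h, coeff_mul_group]
    refine Submodule.sum_mem _ fun a _ => ?_
    rw [mul_comm, ← smul_eq_mul]
    exact Submodule.smul_mem_smul (hw' _) (Ideal.subset_span ⟨a, rfl⟩)
  have h0 : I = ⊥ := Submodule.eq_bot_of_le_smul_of_le_jacobson_bot _ I
    (Submodule.fg_span (Set.finite_range _)) hI (IsLocalRing.maximalIdeal_le_jacobson _)
  ext x
  have : d.coeff x ∈ I := Ideal.subset_span ⟨x, rfl⟩
  rw [h0, Ideal.mem_bot] at this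
  simpa using this

/-- Lifting `e g = e` from the residue field to the local ring. -/
theorem lift_mul_single_eq (hf : ∀ r, f r = 0 → r ∈ IsLocalRing.maximalIdeal R)
    {e : MonoidAlgebra R G} (hec : ∀ x : G, single x (1 : R) * e = e * single x 1) (he : e * e = e)
    {g : G} (hm : IsUnit ((orderOf g : ℕ) : R))
    (h : MonoidAlgebra.mapRingHom G f (e * single g (1 : R)) = MonoidAlgebra.mapRingHom G f e) :
    e * single g (1 : R) = e := by
  set u : MonoidAlgebra R G := single g (1 : R) - 1 with hu
  set d := e * u with hd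
  obtain ⟨r, hr⟩ := hm.exists_left_inv
  obtain ⟨c, hcu, hc⟩ := exists_geom (single g (1 : R)) (orderOf g)
  rw [single_pow, one_pow, pow_orderOf_eq_one, ← MonoidAlgebra.one_def, sub_self, ← hu] at hc
  have h1 : d * ((orderOf g : ℕ) : MonoidAlgebra R G) + d * (d * c) = 0 := by
    have : d * (d * c) = e * (u * (u * c)) := by
      have hc' : e * u = u * e := (Commute.sub_right (hec g).symm (Commute.one_right e)).eq
      rw [hd, ← mul_assoc, ← mul_assoc, mul_assoc e u e, ← hc', ← mul_assoc, he]
      simp only [mul_assoc]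
    rw [this, hd, mul_assoc, ← mul_add, ← mul_add, ← hc, mul_zero]
  have h2 : d = d * (-(r • (d * c))) := by
    rw [mul_neg, mul_smul_comm, eq_neg_of_add_eq_zero_right h1, smul_neg, neg_neg,
      ← Nat.cast_comm, ← nsmul_eq_mul, ← Nat.cast_smul_eq_nsmul R, smul_smul, hr, one_smul]
  have hd0 : MonoidAlgebra.mapRingHom G f d = 0 := by
    rw [hd, hu, mul_sub, mul_one, map_sub, h, sub_self]
  have := eq_zero_of_mul_eq hf (w := -(r • (d * c))) (by
    rw [map_neg, Algebra.smul_def, map_mul, map_mul, hd0, zero_mul, mul_zero, neg_zero]) h2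
  rw [hd, hu, mul_sub, mul_one, sub_eq_zero] at this
  exact this

end Local

end CfsgLib.BlockPrincipal.Unipotent
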