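import Mathlib

/-!
# A bound for integral projections of rank one modulo a prime

If `M` is an integer symmetric matrix with `M * M = p • M`, rank one modulo `p`, trace `p * l` and
no diagonal entry `p`, then `l ≤ z ⬝ M z` unless `M z = 0`.  The kernel of `M` has a lattice basis
with Gram determinant at most `p`; adjoining `z` gives an integer Gram determinant, and every
further coordinate increases such a determinant by at least one.
-/

set_option autoImplicit false

open Matrix

set_option maxHeartbeats 1000000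

namespace CfsgLib.LatticeBound

universe u v

theorem quad_self_eq {ι : Type u} {κ : Type v} [Fintype ι] [Fintype κ] (B : Matrix ι κ ℝ)
    (w : κ → ℝ) : w ⬝ᵥ (Bᵀ * B) *ᵥ w = ∑ i, (B *ᵥ w) i * (B *ᵥ w) i := by
  rw [← Matrix.mulVec_mulVec, Matrix.dotProduct_mulVec, Matrix.vecMul_transpose]
  rfl

/-- A nonsingular integral Gram determinant is positive. -/
theorem gram_det_pos {ι : Type u} {κ : Type v} [Fintype ι] [Fintype κ] [DecidableEq κ]
    (B : Matrix ι κ ℤ) (hd : (Bᵀ * B).det ≠ 0) : 0 < (Bᵀ * B).det := by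
  have h := (Matrix.posSemidef_conjTranspose_mul_self (B.map (Int.cast : ℤ → ℝ))).det_nonneg
  have he : (B.map (Int.cast : ℤ → ℝ))ᴴ * B.map (Int.cast : ℤ → ℝ) =
      (Bᵀ * B).map (Int.cast : ℤ → ℝ) := by
    ext i j
    simp [Matrix.mul_apply]
  rw [he] at h
  have hc : ((Bᵀ * B).map (Int.cast : ℤ → ℝ)).det = (((Bᵀ * B).det : ℤ) : ℝ) :=
    ((Int.castRingHom ℝ).map_det (Bᵀ * B)).symm
  rw [hc] at h
  exact lt_of_le_of_ne (by exact_mod_cast h) (Ne.symm hd)

/-- Every row in excess of the rank increases an integral Gram determinant. -/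
theorem card_le_gram_det {κ : Type v} [Fintype κ] [DecidableEq κ] :
    ∀ (k : ℕ) (B : Matrix (Fin k) κ ℤ), (∀ i, ∃ j, B i j ≠ 0) → (Bᵀ * B).det ≠ 0 →
      (k : ℤ) + 1 ≤ (Bᵀ * B).det + Fintype.card κ := by
  intro k
  induction k with
  | zero =>
    intro B _ hd
    have := gram_det_pos B hd
    omega
  | succ k ih =>
    intro B hrow hd
    have hpos := gram_det_pos B hd
    by_cases hk : k + 1 ≤ Fintype.card κ
    · omega
    -- the rows are dependent over `ℝ`
    set R : Matrix (Fin (k + 1)) κ ℝ := B.map (Int.cast : ℤ → ℝ) with hR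
    obtain ⟨c, hc, i, hci⟩ : ∃ c : Fin (k + 1) → ℝ, ∑ a, c a • R a = 0 ∧ ∃ a, c a ≠ 0 := by
      refine Fintype.not_linearIndependent_iff.1 fun hli => hk ?_
      simpa using hli.fintype_card_le_finrank
    set B' : Matrix (Fin k) κ ℤ := fun a j => B (i.succAbove a) j with hB'
    set R' : Matrix (Fin k) κ ℝ := B'.map (Int.cast : ℤ → ℝ) with hR'
    set x : κ → ℝ := R i with hx
    have hmap : ∀ (m : ℕ) (C : Matrix (Fin m) κ ℤ), ((Cᵀ * C).det : ℝ) =
        ((C.map (Int.cast : ℤ → ℝ))ᵀ * C.map (Int.cast : ℤ → ℝ)).det := by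
      intro m C
      rw [show ((Cᵀ * C).det : ℝ) = (((Cᵀ * C)).map (Int.cast : ℤ → ℝ)).det from
        (Int.castRingHom ℝ).map_det (Cᵀ * C)]
      congr 1
      ext a b
      simp [Matrix.mul_apply]
    have hsplit : Rᵀ * R = R'ᵀ * R' + replicateCol Unit x * replicateRow Unit x := by
      ext a b
      simp only [Matrix.mul_apply, Matrix.add_apply, Matrix.transpose_apply,
        Matrix.replicateCol_apply, Matrix.replicateRow_apply, Finset.univ_unique,
        Finset.sum_singleton]
      rw [Fin.sum_univ_succAbove _ i, add_comm]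
      rfl
    have hinj : ∀ w, R' *ᵥ w = 0 → w = 0 := by
      intro w hw
      have hw' : ∀ a, a ≠ i → (R *ᵥ w) a = 0 := by
        intro a ha
        obtain ⟨b, rfl⟩ := Fin.exists_succAbove_eq ha
        exact congrFun hw b
      have h1 : ∑ a, c a * (R *ᵥ w) a = 0 := by
        have := congrArg (fun y : κ → ℝ => y ⬝ᵥ w) hc
        simp only [sum_dotProduct, smul_dotProduct, zero_dotProduct, smul_eq_mul] at this
        exact this
      rw [Fintype.sum_eq_single i fun a ha => by rw [hw' a ha, mul_zero]] at h1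
      have h2 : R *ᵥ w = 0 := funext fun a => by
        by_cases ha : a = i
        · subst ha; exact (mul_eq_zero.1 h1).resolve_left hci
        · exact hw' a ha
      have h3 : (Rᵀ * R) *ᵥ w = 0 := by rw [← Matrix.mulVec_mulVec, h2, Matrix.mulVec_zero]
      refine Matrix.eq_zero_of_mulVec_eq_zero ?_ h3
      rw [← hmap]
      exact_mod_cast hd
    have hd' : (R'ᵀ * R').det ≠ 0 := by
      intro h0
      obtain ⟨w, hw, hw0⟩ := Matrix.exists_mulVec_eq_zero_iff.2 h0
      refine hw (hinj w (funext fun a => ?_))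
      have := quad_self_eq R' w
      rw [hw0, dotProduct_zero] at this
      have := (Finset.sum_eq_zero_iff_of_nonneg fun a _ => mul_self_nonneg _).1 this.symm a
        (Finset.mem_univ a)
      exact mul_self_eq_zero.1 this
    have hd'Z : (B'ᵀ * B').det ≠ 0 := by
      intro h0
      apply hd'
      rw [← hmap, h0, Int.cast_zero]
    have hpos' : (0 : ℝ) < (R'ᵀ * R').det := by
      rw [← hmap]; exact_mod_cast gram_det_pos B' hd'Z
    have hlt : (R'ᵀ * R').det < (Rᵀ * R).det := by
      rw [hsplit, Matrix.det_add_replicateCol_mul_replicateRow (isUnit_iff_ne_zero.2 hd'),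
        Matrix.det_unique (n := Unit), Matrix.add_apply, Matrix.one_apply_eq]
      refine lt_mul_of_one_lt_right hpos' (lt_add_of_pos_right 1 ?_)
      set w := (R'ᵀ * R')⁻¹ *ᵥ x with hw
      have hxw : (R'ᵀ * R') *ᵥ w = x := by
        rw [hw, Matrix.mulVec_mulVec, Matrix.mul_nonsing_inv _ (isUnit_iff_ne_zero.2 hd'),
          Matrix.one_mulVec]
      have hval : (replicateRow Unit x * (R'ᵀ * R')⁻¹ * replicateCol Unit x) default default =
          x ⬝ᵥ w := by
        rw [Matrix.mul_assoc]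
        simp [Matrix.mul_apply, dotProduct, hw, Matrix.mulVec]
      rw [hval]
      have hq : x ⬝ᵥ w = ∑ a, (R' *ᵥ w) a * (R' *ᵥ w) a := by
        rw [← quad_self_eq, hxw, dotProduct_comm]
      rw [hq]
      refine lt_of_le_of_ne (Finset.sum_nonneg fun a _ => mul_self_nonneg _) fun h0 => ?_
      have hw0 : w = 0 := hinj w (funext fun a => mul_self_eq_zero.1
        ((Finset.sum_eq_zero_iff_of_nonneg fun a _ => mul_self_nonneg _).1 h0.symm a
          (Finset.mem_univ a)))
      obtain ⟨j, hj⟩ := hrow i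
      have : x j = 0 := by rw [← hxw, hw0, Matrix.mulVec_zero]; rfl
      exact hj (by simpa [hx, hR] using this)
    have hlt' : (B'ᵀ * B').det < (Bᵀ * B).det := by
      have : (((B'ᵀ * B').det : ℤ) : ℝ) < ((Bᵀ * B).det : ℤ) := by rw [hmap, hmap]; exact hlt
      exact_mod_cast this
    have := ih B' (fun a => hrow _) hd'Z
    push_cast at this ⊢
    omega

/-- A determinant that is rank one modulo `p`. -/
theorem exists_det_mul_eq {κ : Type v} [Fintype κ] [DecidableEq κ] (p : ℤ)
    (E : Matrix κ κ ℤ) (a b : κ → ℤ) :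
    ∃ d : ℤ, (p • E + replicateCol Unit a * replicateRow Unit b).det * p =
      p ^ Fintype.card κ * d := by
  set v : Matrix Unit κ ℤ := replicateRow Unit b
  set u : Matrix κ Unit ℤ := replicateCol Unit a
  set P : Matrix Unit Unit ℤ := Matrix.of fun _ _ => p with hP
  refine ⟨(Matrix.fromBlocks E (-u) v P).det, ?_⟩
  have huP : u * P = p • u := by
    ext i j
    simp [u, hP, Matrix.mul_apply, mul_comm]
  have h1 : Matrix.fromBlocks (1 : Matrix κ κ ℤ) (-u) 0 (1 : Matrix Unit Unit ℤ) *
        Matrix.fromBlocks (p • E + u * v) 0 v 1 *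
        Matrix.fromBlocks (1 : Matrix κ κ ℤ) 0 0 P =
      Matrix.fromBlocks (p • (1 : Matrix κ κ ℤ)) 0 0 (1 : Matrix Unit Unit ℤ) *
        Matrix.fromBlocks E (-u) v P := by
    simp only [Matrix.fromBlocks_multiply, Matrix.one_mul, Matrix.mul_one, Matrix.zero_mul,
      Matrix.mul_zero, add_zero, zero_add, Matrix.neg_mul, Matrix.smul_mul, huP, smul_neg,
      add_neg_cancel_right]
  have h2 := congrArg Matrix.det h1
  rw [Matrix.det_mul, Matrix.det_mul, Matrix.det_mul, Matrix.det_fromBlocks_zero₂₁,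
    Matrix.det_fromBlocks_zero₁₂, Matrix.det_fromBlocks_zero₁₂, Matrix.det_fromBlocks_zero₁₂,
    Matrix.det_smul, Matrix.det_one, Matrix.det_one, Matrix.det_unique P] at h2
  simpa [hP] using h2

/-- **The bound.** -/
theorem le_quadratic {ι : Type u} [Fintype ι] [DecidableEq ι] {p : ℤ} (hp : 0 < p)
    (M : Matrix ι ι ℤ) (hsymm : Mᵀ = M) (hsq : M * M = p • M) (l : ℤ)
    (htr : M.trace = p * l) (a b : ι → ℤ) (hrank : ∀ i j, p ∣ M i j - a i * b j)
    (hdiag : ∀ i, M i i ≠ p) (z : ι → ℤ) (hz : M *ᵥ z ≠ 0) :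
    l ≤ z ⬝ᵥ M *ᵥ z := by
  classical
  set f : (ι → ℤ) →ₗ[ℤ] (ι → ℤ) := Matrix.mulVecLin M with hf
  set K := LinearMap.ker f
  set n := Module.finrank ℤ K
  set bK : Module.Basis (Fin n) ℤ K := Module.finBasis ℤ K
  obtain ⟨s, hs⟩ := f.rangeRestrict.exists_rightInverse_of_surjective f.range_rangeRestrict
  have hproj : ∀ w, w - s (f.rangeRestrict w) ∈ K := by
    intro w
    rw [LinearMap.mem_ker, map_sub, sub_eq_zero]
    have := LinearMap.congr_fun hs (f.rangeRestrict w)
    exact (congrArg Subtype.val this).symm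
  let proj : (ι → ℤ) →ₗ[ℤ] K :=
    LinearMap.codRestrict K (LinearMap.id - s.comp f.rangeRestrict) hproj
  let Lf : (ι → ℤ) →ₗ[ℤ] (Fin n → ℤ) := bK.equivFun.toLinearMap.comp proj
  set L : Matrix (Fin n) ι ℤ := LinearMap.toMatrix' Lf with hL
  set B : Matrix ι (Fin n) ℤ := fun i j => (bK j : ι → ℤ) i with hB
  have hBmul : ∀ c : Fin n → ℤ, B *ᵥ c = ((bK.equivFun.symm c : K) : ι → ℤ) := by
    intro c
    funext i
    rw [Module.Basis.equivFun_symm_apply]
    simp [Matrix.mulVec, dotProduct, hB, mul_comm]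
  have hLw : ∀ w, L *ᵥ w = Lf w := fun w => by
    rw [hL, LinearMap.toMatrix'_mulVec]
  have hBL : ∀ w, M *ᵥ w = 0 → B *ᵥ (L *ᵥ w) = w := by
    intro w hw
    have h0 : f.rangeRestrict w = 0 := Subtype.ext hw
    rw [hLw, hBmul]
    simp [Lf, proj, h0]
  have hker : ∀ w : K, f (w : ι → ℤ) = 0 := fun w => LinearMap.mem_ker.1 w.2
  have hLB : L * B = 1 := by
    refine Matrix.toLin'.injective (LinearMap.ext fun c => ?_)
    rw [Matrix.toLin'_apply, Matrix.toLin'_apply, ← Matrix.mulVec_mulVec, hLw, hBmul,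
      Matrix.one_mulVec]
    have h0 : f.rangeRestrict ((bK.equivFun.symm c : K) : ι → ℤ) = 0 := Subtype.ext (hker _)
    have : proj ((bK.equivFun.symm c : K) : ι → ℤ) = bK.equivFun.symm c := by
      refine Subtype.ext ?_
      show ((bK.equivFun.symm c : K) : ι → ℤ) - s (f.rangeRestrict _) = _
      rw [h0, map_zero, sub_zero]
    show bK.equivFun (proj _) = c
    rw [this, LinearEquiv.apply_symm_apply]
  have hMB : M * B = 0 := by
    refine Matrix.toLin'.injective (LinearMap.ext fun c => ?_)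
    rw [Matrix.toLin'_apply, ← Matrix.mulVec_mulVec, hBmul, map_zero, LinearMap.zero_apply]
    exact hker _
  set Q : Matrix ι ι ℤ := p • 1 - M with hQ
  have hQt : Qᵀ = Q := by rw [hQ, transpose_sub, transpose_smul, transpose_one, hsymm]
  have hMQ : M * Q = 0 := by
    rw [hQ, Matrix.mul_sub, Matrix.mul_smul, Matrix.mul_one, hsq, sub_self]
  set N : Matrix (Fin n) ι ℤ := L * Q with hN
  have hBN : B * N = Q := by
    refine Matrix.toLin'.injective (LinearMap.ext fun c => ?_)
    rw [Matrix.toLin'_apply, Matrix.toLin'_apply, hN, ← Matrix.mulVec_mulVec,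
      ← Matrix.mulVec_mulVec]
    exact hBL _ (by rw [Matrix.mulVec_mulVec, hMQ, Matrix.zero_mulVec])
  have hBtQ : Bᵀ * Q = p • Bᵀ := by
    have h : Bᵀ * M = 0 := by rw [← hsymm, ← transpose_mul, hMB, transpose_zero]
    rw [hQ, Matrix.mul_sub, Matrix.mul_smul, Matrix.mul_one, h, sub_zero]
  set G : Matrix (Fin n) (Fin n) ℤ := Bᵀ * B with hG
  have hGN : G * N = p • Bᵀ := by rw [hG, Matrix.mul_assoc, hBN, hBtQ]
  have hprod : G * (N * Lᵀ) = p • 1 := by
    rw [← Matrix.mul_assoc, hGN, Matrix.smul_mul, ← transpose_mul, hLB, transpose_one]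
  have hdprod : G.det * (N * Lᵀ).det = p ^ n := by
    have := congrArg Matrix.det hprod
    rwa [Matrix.det_mul, Matrix.det_smul, Matrix.det_one, mul_one, Fintype.card_fin] at this
  have hGd : G.det ≠ 0 := fun h0 => by
    rw [h0, zero_mul] at hdprod
    exact (pow_pos hp n).ne hdprod
  have hGpos : 0 < G.det := gram_det_pos B hGd
  -- `N * Lᵀ` has rank one modulo `p`
  obtain ⟨E, hE⟩ : ∃ E : Matrix ι ι ℤ, Q = p • E - replicateCol Unit a * replicateRow Unit b := by
    choose e he using hrank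
    refine ⟨1 - Matrix.of e, ?_⟩
    ext i j
    simp only [hQ, Matrix.sub_apply, Matrix.smul_apply, Matrix.mul_apply, Matrix.of_apply,
      Matrix.replicateCol_apply, Matrix.replicateRow_apply, Finset.univ_unique,
      Finset.sum_singleton, smul_eq_mul]
    linear_combination -(he i j)
  obtain ⟨d, hd⟩ := exists_det_mul_eq p (L * E * Lᵀ) (fun i => -(L *ᵥ a) i) (L *ᵥ b)
  have hNL : N * Lᵀ = p • (L * E * Lᵀ) + replicateCol Unit (fun i => -(L *ᵥ a) i) *
      replicateRow Unit (L *ᵥ b) := by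
    rw [hN, hE, Matrix.mul_sub, Matrix.sub_mul, Matrix.mul_smul, Matrix.smul_mul, sub_eq_add_neg]
    congr 1
    rw [← Matrix.mul_assoc L, ← Matrix.replicateCol_mulVec, Matrix.mul_assoc]
    ext i j
    simp only [Matrix.neg_apply, Matrix.mul_apply, Matrix.replicateCol_apply,
      Matrix.replicateRow_apply, Finset.univ_unique, Finset.sum_singleton,
      Matrix.transpose_apply, Matrix.mulVec, dotProduct, neg_mul]
    exact congrArg (fun t => -(_ * t)) (Finset.sum_congr rfl fun k _ => mul_comm _ _)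
  rw [← hNL, Fintype.card_fin] at hd
  have hdle : G.det ≤ p := by
    have h1 : p ^ n * (G.det * d) = p ^ n * p := by
      linear_combination p * hdprod - G.det * hd
    have h2 : G.det * d = p := mul_left_cancel₀ (pow_pos hp n).ne' h1
    have hdpos : 0 < d := by
      by_contra hd0
      have : G.det * d ≤ 0 := mul_nonpos_of_nonneg_of_nonpos hGpos.le (not_lt.1 hd0)
      omega
    calc G.det = G.det * 1 := (mul_one _).symm
      _ ≤ G.det * d := mul_le_mul_of_nonneg_left hdpos hGpos.le
      _ = p := h2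
  -- the trace gives the rank of the kernel
  have hNB : N * B = p • 1 := by
    have h : G * (N * B) = G * (p • 1) := by
      rw [← Matrix.mul_assoc, hGN, Matrix.smul_mul, ← hG, Matrix.mul_smul, Matrix.mul_one]
    have h' := congrArg (fun X => G.adjugate * X) h
    simp only [← Matrix.mul_assoc, Matrix.adjugate_mul, Matrix.smul_mul, Matrix.one_mul] at h'
    exact smul_right_injective _ hGd h'
  have hcard : (Fintype.card ι : ℤ) = n + l := by
    have h : (B * N).trace = (N * B).trace := Matrix.trace_mul_comm B N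
    rw [hBN, hNB, hQ, Matrix.trace_sub, Matrix.trace_smul, Matrix.trace_smul, Matrix.trace_one,
      Matrix.trace_one, htr, Fintype.card_fin, smul_eq_mul, smul_eq_mul] at h
    have h2 : p * ((Fintype.card ι : ℤ) - l - n) = 0 := by rw [mul_sub, mul_sub, h]; ring
    have := (mul_eq_zero.1 h2).resolve_left hp.ne'
    omega
  -- adjoin `z`
  set B₁ : Matrix ι (Fin n ⊕ Unit) ℤ := Matrix.fromCols B (replicateCol Unit z) with hB₁
  set c : Fin n → ℤ := Bᵀ *ᵥ z with hc
  have hG₁ : B₁ᵀ * B₁ = Matrix.fromBlocks G (replicateCol Unit c) (replicateRow Unit c)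
      (Matrix.of fun _ _ => z ⬝ᵥ z) := by
    ext (i | i) (j | j) <;>
      simp only [hB₁, hG, hc, Matrix.mul_apply, Matrix.transpose_apply, Matrix.fromCols_apply_inl,
        Matrix.fromCols_apply_inr, Matrix.replicateCol_apply, Matrix.replicateRow_apply,
        Matrix.fromBlocks_apply₁₁, Matrix.fromBlocks_apply₁₂, Matrix.fromBlocks_apply₂₁,
        Matrix.fromBlocks_apply₂₂, Matrix.of_apply, Matrix.mulVec, dotProduct]
    exact Finset.sum_congr rfl fun k _ => mul_comm _ _
  have hquad : c ⬝ᵥ N *ᵥ z = p * (z ⬝ᵥ z) - z ⬝ᵥ M *ᵥ z := by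
    rw [hc, Matrix.mulVec_transpose, ← Matrix.dotProduct_mulVec, Matrix.mulVec_mulVec, hBN, hQ,
      Matrix.sub_mulVec, dotProduct_sub, Matrix.smul_mulVec, Matrix.one_mulVec,
      dotProduct_smul, smul_eq_mul]
  have hdet : (B₁ᵀ * B₁).det * p = G.det * (z ⬝ᵥ M *ᵥ z) := by
    have h1 : B₁ᵀ * B₁ * Matrix.fromBlocks (1 : Matrix (Fin n) (Fin n) ℤ)
          (replicateCol Unit (fun i => -(N *ᵥ z) i)) 0 (Matrix.of fun _ _ => p) =
        Matrix.fromBlocks G 0 (replicateRow Unit c) (Matrix.of fun _ _ => z ⬝ᵥ M *ᵥ z) := by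
      have hcol : G *ᵥ (N *ᵥ z) = p • c := by
        rw [Matrix.mulVec_mulVec, hGN, Matrix.smul_mulVec, hc]
      rw [hG₁, Matrix.fromBlocks_multiply]
      congr 1
      · simp
      · ext i j
        have := congrFun hcol i
        simp [Matrix.mul_apply, Matrix.mulVec, dotProduct] at this ⊢
        rw [this]
        ring
      · simp
      · ext i j
        have : z ⬝ᵥ M *ᵥ z = p * (z ⬝ᵥ z) - c ⬝ᵥ N *ᵥ z := by rw [hquad]; ring
        simp only [Matrix.mul_apply, Matrix.add_apply, Matrix.replicateRow_apply,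
          Matrix.replicateCol_apply, Matrix.of_apply, Finset.univ_unique, Finset.sum_singleton,
          mul_neg, Finset.sum_neg_distrib]
        simp only [dotProduct] at this ⊢
        rw [this]
        ring
    have h2 := congrArg Matrix.det h1
    rw [Matrix.det_mul, Matrix.det_fromBlocks_zero₂₁, Matrix.det_fromBlocks_zero₁₂,
      Matrix.det_one, one_mul, Matrix.det_unique (n := Unit), Matrix.det_unique (n := Unit)] at h2
    simpa using h2
  have hzMz : z ⬝ᵥ M *ᵥ z ≠ 0 := by
    intro h0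
    refine hz (funext fun i => ?_)
    have h1 : (M *ᵥ z) ⬝ᵥ (M *ᵥ z) = p * (z ⬝ᵥ M *ᵥ z) := by
      rw [Matrix.dotProduct_mulVec, Matrix.dotProduct_mulVec z,
        ← Matrix.mulVec_transpose, Matrix.mulVec_mulVec, hsymm, hsq, Matrix.smul_mulVec,
        smul_dotProduct, smul_eq_mul]
      rw [← Matrix.mulVec_transpose M z, hsymm, dotProduct_comm]
    rw [h0, mul_zero] at h1
    exact mul_self_eq_zero.1 ((Finset.sum_eq_zero_iff_of_nonneg fun a _ => mul_self_nonneg _).1 h1 i
      (Finset.mem_univ i))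
  have hd₁ : (B₁ᵀ * B₁).det ≠ 0 := fun h0 => by
    rw [h0, zero_mul] at hdet
    exact mul_ne_zero hGd hzMz hdet.symm
  have hrows : ∀ i, ∃ j, B₁ i j ≠ 0 := by
    intro i
    by_contra hall
    push Not at hall
    refine hdiag i ?_
    have h : (B * N) i i = 0 := by
      rw [Matrix.mul_apply]
      exact Finset.sum_eq_zero fun j _ => by
        have := hall (Sum.inl j)
        simp [hB₁] at this
        rw [this, zero_mul]
    rw [hBN, hQ, Matrix.sub_apply, Matrix.smul_apply, Matrix.one_apply_eq, smul_eq_mul,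
      mul_one] at h
    omega
  set e := Fintype.equivFin ι
  have hgram : (B₁.submatrix e.symm id)ᵀ * B₁.submatrix e.symm id = B₁ᵀ * B₁ := by
    ext x y
    simp only [Matrix.mul_apply, Matrix.transpose_apply, Matrix.submatrix_apply, id]
    exact e.symm.sum_comp fun i => B₁ i x * B₁ i y
  have hmain := card_le_gram_det _ (B₁.submatrix e.symm id) (fun i => hrows (e.symm i))
    (by rw [hgram]; exact hd₁)
  rw [hgram, Fintype.card_sum, Fintype.card_fin, Fintype.card_unit] at hmain
  have hpos₁ := gram_det_pos B₁ hd₁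
  have hfin : (B₁ᵀ * B₁).det ≤ z ⬝ᵥ M *ᵥ z := by
    have h1 : (B₁ᵀ * B₁).det * G.det ≤ (z ⬝ᵥ M *ᵥ z) * G.det := by
      calc (B₁ᵀ * B₁).det * G.det ≤ (B₁ᵀ * B₁).det * p :=
            mul_le_mul_of_nonneg_left hdle hpos₁.le
        _ = _ := by rw [hdet, mul_comm]
    exact le_of_mul_le_mul_right h1 hGpos
  push_cast at hmain
  linarith

end CfsgLib.LatticeBound
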