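import Cfsg.Agent.S0188
import Cfsg.Agent.Lib.BlockPrincipal.FullyRamified
import Cfsg.Agent.Lib.BlockPrincipal.Alperin
import Cfsg.Agent.Lib.CharDeep.Gallagher
import Mathlib.GroupTheory.RegularWreathProduct

/-!
# A wreath product of an M-group with a group of prime order is an M-group
-/

set_option autoImplicit false
set_option maxHeartbeats 1000000

namespace CfsgLib.MWreath

open Cfsg CfsgLib
open scoped Classical

universe u v

/-- Every irreducible character is induced from a linear one. -/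
def IsMono (M : Type u) [Group M] [Fintype M] : Prop :=
  ∀ χ : M → ℂ, Cfsg.IsIrrCharacter M χ →
    ∃ (H : Subgroup M) (lam : ↥H →* ℂˣ), χ = Cfsg.indFun H (fun h => (lam h : ℂ))

theorem indFun_comp_equiv {A B : Type u} [Group A] [Fintype A] [Group B] [Fintype B] (e : A ≃* B)
    (H : Subgroup B) (θ : H → ℂ) :
    Cfsg.indFun H θ ∘ e = Cfsg.indFun (H.comap e.toMonoidHom) (fun a => θ ⟨e a, a.2⟩) := by
  have hcard : Nat.card (H.comap e.toMonoidHom) = Nat.card H :=
    Nat.card_congr (e.toEquiv.subtypeEquiv fun a => Iff.rfl)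
  funext g
  rw [Function.comp_apply, Char.indFun_apply, Char.indFun_apply, hcard]
  congr 1
  refine Fintype.sum_equiv e.symm.toEquiv _ _ fun x => ?_
  have he : e ((e.symm x)⁻¹ * g * e.symm x) = x⁻¹ * e g * x := by simp
  show Cfsg.extendByZero H θ _ = Cfsg.extendByZero _ _ ((e.symm x)⁻¹ * g * e.symm x)
  by_cases h : x⁻¹ * e g * x ∈ H
  · have h' : (e.symm x)⁻¹ * g * e.symm x ∈ H.comap e.toMonoidHom := by
      show e _ ∈ H
      rwa [he]
    rw [Char.extendByZero_apply_mem H _ h, Char.extendByZero_apply_mem _ _ h']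
    exact congrArg θ (Subtype.ext he.symm)
  · rw [Char.extendByZero_of_notMem H _ h, Char.extendByZero_of_notMem]
    intro h'
    exact h (he ▸ h')

theorem isMono_equiv {A B : Type u} [Group A] [Fintype A] [Group B] [Fintype B] (e : A ≃* B)
    (hB : IsMono B) : IsMono A := by
  intro χ hχ
  obtain ⟨H, lam, h⟩ := hB _ (CharTwist.isIrrCharacter_comp_equiv hχ e.symm)
  refine ⟨H.comap e.toMonoidHom, lam.comp ((e.toMonoidHom.subgroupComap H)), ?_⟩
  have : χ = (χ ∘ e.symm) ∘ e := by funext a; simp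
  rw [this, h, indFun_comp_equiv]
  rfl

/-- A character with irreducible restriction is irreducible. -/
theorem isIrrCharacter_of_res {W : Type u} [Group W] [Fintype W] (N : Subgroup W) [N.Normal]
    [Fintype N] {Ψ : W → ℂ} (hΨ : IsCharacter W Ψ)
    (h : IsIrrCharacter N (fun n : N => Ψ n)) : IsIrrCharacter W Ψ := by
  set θ : N → ℂ := fun n : N => Ψ n with hθ
  choose a ha using fun φ : IrrCharacter W => Char.IsCharacter.exists_nat_classInner hΨ φ.2
  obtain ⟨φ₀, h1, h2⟩ := FullyRamified.exists_of_res_ne_zero hΨ N.subtype h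
    (show classInner (Ψ ∘ N.subtype) θ ≠ 0 by
      rw [show Ψ ∘ N.subtype = θ from rfl, Char.classInner_irr_self h]; exact one_ne_zero)
  obtain ⟨d, hd⟩ := Char.IsCharacter.exists_nat_classInner
    (Clifford.isCharacter_res (Char.IsIrrCharacter.isCharacter φ₀.2) N) h
  have h2' : classInner (fun n : N => (φ₀ : W → ℂ) n) θ ≠ 0 := h2
  have hd0 : d ≠ 0 := fun e => h2' (by rw [hd, e, Nat.cast_zero])
  have ha0 : a φ₀ ≠ 0 := fun e => h1 (by rw [ha, e, Nat.cast_zero])
  have hdeg : ∀ φ : IrrCharacter W, (φ : W → ℂ) 1 = (Char.degree (φ : W → ℂ) : ℂ) := fun φ =>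
    (Char.IsCharacter.degree_cast (Char.IsIrrCharacter.isCharacter φ.2)).symm
  have hθ1 : θ 1 = (Char.degree θ : ℂ) :=
    (Char.IsCharacter.degree_cast (Char.IsIrrCharacter.isCharacter h)).symm
  have h3 := Clifford.apply_one_eq N φ₀.2 h h2'
  rw [hd, hdeg, hθ1] at h3
  have h3' : Char.degree (φ₀ : W → ℂ) = d * (CharTwist.inertia N θ).index * Char.degree θ := by
    exact_mod_cast h3
  have h4 : θ 1 = ∑ φ : IrrCharacter W, (a φ : ℂ) * (φ : W → ℂ) 1 := by
    have := congrFun (Char.IsCharacter.eq_sum_classInner hΨ) 1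
    simp only [Finset.sum_apply, Pi.smul_apply, smul_eq_mul, ha] at this
    exact this
  rw [hθ1] at h4
  simp only [hdeg] at h4
  have h4' : Char.degree θ = ∑ φ : IrrCharacter W, a φ * Char.degree (φ : W → ℂ) := by
    exact_mod_cast h4
  rw [← Finset.add_sum_erase _ _ (Finset.mem_univ φ₀)] at h4'
  have hge : Char.degree θ ≤ Char.degree (φ₀ : W → ℂ) := by
    rw [h3']
    exact Nat.le_mul_of_pos_left _
      (Nat.mul_pos (Nat.pos_of_ne_zero hd0) (Nat.pos_of_ne_zero Subgroup.index_ne_zero_of_finite))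
  have hpos := Char.IsIrrCharacter.degree_pos φ₀.2
  have hrest : ∑ φ ∈ Finset.univ.erase φ₀, a φ * Char.degree (φ : W → ℂ) = 0 := by
    have : Char.degree (φ₀ : W → ℂ) ≤ a φ₀ * Char.degree (φ₀ : W → ℂ) :=
      Nat.le_mul_of_pos_left _ (Nat.pos_of_ne_zero ha0)
    omega
  have ha1 : a φ₀ = 1 := by
    by_contra hne
    have : 2 * Char.degree (φ₀ : W → ℂ) ≤ a φ₀ * Char.degree (φ₀ : W → ℂ) :=
      Nat.mul_le_mul_right _ (by omega)
    omega
  have : Ψ = (φ₀ : W → ℂ) := by
    rw [Char.IsCharacter.eq_sum_classInner hΨ, Finset.sum_eq_single φ₀]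
    · rw [ha, ha1, Nat.cast_one, one_smul]
    · intro φ _ hne
      have := (Finset.sum_eq_zero_iff.1 hrest) φ (Finset.mem_erase.2 ⟨hne, Finset.mem_univ _⟩)
      rcases Nat.mul_eq_zero.1 this with e | e
      · rw [ha, e, Nat.cast_zero, zero_smul]
      · exact absurd e (Char.IsIrrCharacter.degree_pos φ.2).ne'
    · simp
  exact this ▸ φ₀.2

section Pi

variable {M : Type u} [Group M] [Fintype M]

/-- Irreducible characters of a power are products. -/
theorem exists_prod_fin : ∀ (k : ℕ) (θ : (Fin k → M) → ℂ), Cfsg.IsIrrCharacter (Fin k → M) θ →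
    ∃ φ : Fin k → Cfsg.IrrCharacter M, ∀ f, θ f = ∏ i, (φ i : M → ℂ) (f i) := by
  intro k
  induction k with
  | zero =>
    intro θ hθ
    refine ⟨Fin.elim0, fun f => ?_⟩
    rw [Finset.univ_eq_empty, Finset.prod_empty, Subsingleton.elim f 1]
    exact PrincipalCover.irr_apply_one_of_comm (fun a b => Subsingleton.elim _ _) hθ
  | succ k ih =>
    intro θ hθ
    let e : (M × (Fin k → M)) ≃* (Fin (k + 1) → M) :=
      { toFun := fun x => Fin.cons x.1 x.2
        invFun := fun f => (f 0, fun i => f i.succ)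
        left_inv := fun x => by simp
        right_inv := fun f => funext fun i => Fin.cases (by simp) (fun j => by simp) i
        map_mul' := fun x y => funext fun i => Fin.cases (by simp) (fun j => by simp) i }
    obtain ⟨α, β, hα, hβ, heq⟩ := (Cfsg.Agent.S0188.result _).1
      (CharTwist.isIrrCharacter_comp_equiv hθ e)
    obtain ⟨φ, hφ⟩ := ih β hβ
    refine ⟨Fin.cons ⟨α, hα⟩ φ, fun f => ?_⟩
    have h := congrFun heq (e.symm f)
    rw [Function.comp_apply, MulEquiv.apply_symm_apply] at h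
    rw [h, hφ, Fin.prod_univ_succ]
    simp [e]

theorem exists_prod {ι : Type} [Fintype ι] (θ : (ι → M) → ℂ)
    (hθ : Cfsg.IsIrrCharacter (ι → M) θ) :
    ∃ φ : ι → Cfsg.IrrCharacter M, ∀ f, θ f = ∏ i, (φ i : M → ℂ) (f i) := by
  let σ := Fintype.equivFin ι
  let e : (Fin (Fintype.card ι) → M) ≃* (ι → M) :=
    { toFun := fun f i => f (σ i)
      invFun := fun f i => f (σ.symm i)
      left_inv := fun f => by funext i; simp
      right_inv := fun f => by funext i; simp
      map_mul' := fun f g => rfl }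
  obtain ⟨φ, hφ⟩ := exists_prod_fin _ _ (CharTwist.isIrrCharacter_comp_equiv hθ e)
  refine ⟨fun i => φ (σ i), fun f => ?_⟩
  have h := hφ (e.symm f)
  rw [Function.comp_apply, MulEquiv.apply_symm_apply] at h
  rw [h]
  exact Fintype.prod_equiv σ.symm _ _ fun j => by
    show (φ j : M → ℂ) (f (σ.symm j)) = (φ (σ (σ.symm j)) : M → ℂ) (f (σ.symm j))
    rw [Equiv.apply_symm_apply]

variable {ι : Type} [Fintype ι]

theorem card_pi_subgroup (U : ι → Subgroup M) :
    Nat.card (Subgroup.pi Set.univ U) = ∏ i, Nat.card (U i) := by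
  rw [← Nat.card_pi]
  exact Nat.card_congr
    ⟨fun f i => ⟨f.1 i, f.2 i (Set.mem_univ i)⟩, fun u => ⟨fun i => u i, fun i _ => (u i).2⟩,
      fun f => rfl, fun u => rfl⟩

theorem extendByZero_pi (U : ι → Subgroup M) (lam : ∀ i, U i →* ℂˣ) (f : ι → M) :
    Cfsg.extendByZero (Subgroup.pi Set.univ U)
        (fun h => ∏ i, ((lam i ⟨h.1 i, h.2 i (Set.mem_univ i)⟩ : ℂˣ) : ℂ)) f =
      ∏ i, Cfsg.extendByZero (U i) (fun u => (lam i u : ℂ)) (f i) := by
  by_cases h : f ∈ Subgroup.pi Set.univ U
  · rw [Char.extendByZero_apply_mem _ _ h]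
    exact Finset.prod_congr rfl fun i _ =>
      (Char.extendByZero_apply_mem (U i) (fun u => (lam i u : ℂ)) (h i (Set.mem_univ i))).symm
  · rw [Char.extendByZero_of_notMem _ _ h]
    obtain ⟨i, hi⟩ : ∃ i, f i ∉ U i := by
      by_contra hh
      push Not at hh
      exact h fun i _ => hh i
    refine (Finset.prod_eq_zero (Finset.mem_univ i) ?_).symm
    exact Char.extendByZero_of_notMem _ _ hi

/-- A power of an M-group is an M-group. -/
theorem isMono_pi [DecidableEq ι] (hM : IsMono M) : IsMono (ι → M) := by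
  intro θ hθ
  obtain ⟨φ, hφ⟩ := exists_prod θ hθ
  choose U lam hlam using fun i => hM _ (φ i).2
  let mu : ↥(Subgroup.pi Set.univ U) →* ℂˣ :=
    MonoidHom.mk' (fun h => ∏ i, lam i ⟨h.1 i, h.2 i (Set.mem_univ i)⟩)
      (fun a b => by
        rw [← Finset.prod_mul_distrib]
        exact Finset.prod_congr rfl fun i _ => by rw [← map_mul]; rfl)
  refine ⟨_, mu, funext fun f => ?_⟩
  rw [Char.indFun_apply, card_pi_subgroup, hφ]
  have hfun : (fun h => ((mu h : ℂˣ) : ℂ)) =
      fun h : ↥(Subgroup.pi Set.univ U) => ∏ i, ((lam i ⟨h.1 i, h.2 i (Set.mem_univ i)⟩ : ℂˣ) : ℂ) :=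
    funext fun h => by simp [mu]
  simp only [hfun, extendByZero_pi U lam, Pi.mul_apply, Pi.inv_apply]
  rw [← Fintype.prod_sum (fun i x => Cfsg.extendByZero (U i) (fun u => (lam i u : ℂ)) (x⁻¹ * f i * x)),
    Nat.cast_prod, ← Finset.prod_inv_distrib, ← Finset.prod_mul_distrib]
  exact Finset.prod_congr rfl fun i _ => by rw [hlam i, Char.indFun_apply]

end Pi

section Wreath

variable {M : Type u} [Group M] [Fintype M] {p : ℕ} [Fact p.Prime]

local notation "C" => Multiplicative (ZMod p)

theorem isMono_wreath [Fintype (RegularWreathProduct M C)] (hM : IsMono M) :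
    IsMono (RegularWreathProduct M C) := by
  intro χ hχ
  have hp : p.Prime := Fact.out
  set B : Subgroup (RegularWreathProduct M C) := (RegularWreathProduct.rightHom : (RegularWreathProduct M C) →* C).ker with hB
  haveI : Fintype B := Fintype.ofFinite B
  have hBr : ∀ b : B, (b : (RegularWreathProduct M C)).right = 1 := fun b => b.2
  let e : B ≃* (C → M) :=
    { toFun := fun b => (b : (RegularWreathProduct M C)).left
      invFun := fun f => ⟨⟨f, 1⟩, rfl⟩
      left_inv := fun b => Subtype.ext (RegularWreathProduct.ext rfl (hBr b).symm)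
      right_inv := fun f => rfl
      map_mul' := fun a b => by
        funext i
        simp [hBr a] }
  have hBmono : IsMono B := isMono_equiv e (isMono_pi hM)
  have hsurj : Function.Surjective (RegularWreathProduct.rightHom : (RegularWreathProduct M C) →* C) := fun c => ⟨⟨1, c⟩, rfl⟩
  have hBidx : B.index = p := by
    rw [hB, Subgroup.index_ker, MonoidHom.range_eq_top.2 hsurj, Subgroup.card_top]
    simp
  obtain ⟨θ, hθ, hθc⟩ := Clifford.exists_constituent_res B hχ
  set T := CharTwist.inertia B θ with hT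
  have hBT : B ≤ T := CharTwist.le_inertia B (Char.IsIrrCharacter.isClassFunction hθ)
  by_cases hTtop : T = ⊤
  swap
  · -- `θ` is not invariant
    have hTB : T = B := by
      refine le_antisymm ?_ hBT
      rcases hp.eq_one_or_self_of_dvd _ (hBidx ▸ Subgroup.index_dvd_of_le hBT) with h | h
      · exact absurd (Subgroup.index_eq_one.1 h) hTtop
      · have h1 := Subgroup.relIndex_mul_index hBT
        rw [h, hBidx] at h1
        exact Subgroup.relIndex_eq_one.1 (Nat.eq_of_mul_eq_mul_right hp.pos (h1.trans (one_mul p).symm))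
    have hind : Cfsg.indFun B θ = χ := by
      refine (Clifford.indFun_eq_of_constituent B B le_rfl hθ
        (fun g => by
          conv_lhs => rw [← hTB]
          exact Iff.rfl) hθ ?_ hχ hθc).1
      show classInner θ θ ≠ 0
      rw [Char.classInner_irr_self hθ]
      exact one_ne_zero
    obtain ⟨H, lam, hlam⟩ := hBmono θ hθ
    have hle : H.map B.subtype ≤ B := Subgroup.map_subtype_le H
    haveI : Fintype ↥(H.map B.subtype) := Fintype.ofFinite _
    refine ⟨H.map B.subtype,
      lam.comp (H.equivMapOfInjective B.subtype B.subtype_injective).symm.toMonoidHom, ?_⟩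
    rw [← hind, ← Char.indFun_indFun (H.map B.subtype) B hle]
    congr 1
    have hHeq : (H.map B.subtype).subgroupOf B = H :=
      Subgroup.comap_map_eq_self_of_injective B.subtype_injective H
    rw [hlam]
    funext b
    rw [Char.indFun_apply, Char.indFun_apply,
      show Nat.card ((H.map B.subtype).subgroupOf B) = Nat.card H by rw [hHeq]]
    congr 1
    refine Finset.sum_congr rfl fun x _ => ?_
    by_cases hx : x⁻¹ * b * x ∈ H
    · rw [Char.extendByZero_apply_mem H _ hx,
        Char.extendByZero_apply_mem ((H.map B.subtype).subgroupOf B) _ (hHeq.symm ▸ hx)]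
      show (lam _ : ℂ) = (lam _ : ℂ)
      congr 2
      exact ((MulEquiv.symm_apply_eq _).2 (Subtype.ext rfl)).symm
    · rw [Char.extendByZero_of_notMem H _ hx,
        Char.extendByZero_of_notMem _ _ (fun h => hx (hHeq ▸ h))]
  -- `θ` is invariant
  have hinv : ∀ g : (RegularWreathProduct M C), CharTwist.conjFun B θ g = θ := fun g =>
    CharTwist.mem_inertia.1 (show g ∈ T by rw [hTtop]; exact Subgroup.mem_top g)
  obtain ⟨φ, hφ⟩ := exists_prod _ (CharTwist.isIrrCharacter_comp_equiv hθ e.symm)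
  have hshift : ∀ (c : C) (f : C → M),
      θ (e.symm fun i => f (c⁻¹ * i)) = θ (e.symm f) := by
    intro c f
    refine Eq.trans (congrArg θ (Subtype.ext ?_)) (congrFun (hinv (⟨1, c⟩ : (RegularWreathProduct M C))) (e.symm f))
    refine RegularWreathProduct.ext ?_ ?_
    · funext i
      simp [e]
    · simp [e]
  have hcast : ∀ i, (φ i : M → ℂ) 1 ≠ 0 := fun i => Char.IsIrrCharacter.apply_one_ne_zero (φ i).2
  have hsame : ∀ c : C, φ c = φ 1 := by
    intro c
    have key : ∀ x : M, (φ c : M → ℂ) x * ∏ j ∈ Finset.univ.erase c, (φ j : M → ℂ) 1 =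
        (φ 1 : M → ℂ) x * ∏ j ∈ Finset.univ.erase 1, (φ j : M → ℂ) 1 := by
      intro x
      have h1 := hshift c (Pi.mulSingle 1 x)
      rw [show (fun i => (Pi.mulSingle (1 : C) x : C → M) (c⁻¹ * i)) = Pi.mulSingle c x from
        funext fun i => by
          by_cases hi : i = c
          · subst hi; simp
          · rw [Pi.mulSingle_eq_of_ne hi, Pi.mulSingle_eq_of_ne (fun h => hi (inv_mul_eq_one.1 h).symm)]] at h1
      have h2 : ∀ d : C, θ (e.symm (Pi.mulSingle d x)) =
          (φ d : M → ℂ) x * ∏ j ∈ Finset.univ.erase d, (φ j : M → ℂ) 1 := by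
        intro d
        rw [show θ (e.symm (Pi.mulSingle d x)) = (θ ∘ e.symm) (Pi.mulSingle d x) from rfl, hφ,
          ← Finset.mul_prod_erase _ _ (Finset.mem_univ d), Pi.mulSingle_eq_same]
        congr 1
        exact Finset.prod_congr rfl fun j hj => by
          rw [Pi.mulSingle_eq_of_ne (Finset.ne_of_mem_erase hj)]
      rw [← h2, ← h2, h1]
    have hD : ∀ d : C, ∏ j ∈ Finset.univ.erase d, (φ j : M → ℂ) 1 ≠ 0 := fun d =>
      Finset.prod_ne_zero_iff.2 fun j _ => hcast j
    refine Subtype.ext (Char.eq_of_classInner_ne_zero (φ c).2 (φ 1).2 ?_)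
    have hf : (φ c : M → ℂ) = ((∏ j ∈ Finset.univ.erase 1, (φ j : M → ℂ) 1) /
        ∏ j ∈ Finset.univ.erase c, (φ j : M → ℂ) 1) • (φ 1 : M → ℂ) := funext fun x => by
      rw [Pi.smul_apply, smul_eq_mul, div_mul_eq_mul_div, eq_div_iff (hD c), key x, mul_comm]
    rw [hf, Char.classInner_smul_left, Char.classInner_irr_self (φ 1).2, mul_one]
    exact div_ne_zero (hD 1) (hD c)
  obtain ⟨U, lam, hlam⟩ := hM _ (φ 1).2
  let V : Subgroup (RegularWreathProduct M C) :=
    { carrier := {w | ∀ i, w.left i ∈ U}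
      one_mem' := fun i => U.one_mem
      mul_mem' := fun {a b} ha hb i => by
        rw [RegularWreathProduct.mul_left]
        exact U.mul_mem (ha i) (hb _)
      inv_mem' := fun {a} ha i => by
        rw [RegularWreathProduct.inv_left]
        exact U.inv_mem (ha _) }
  let mu : V →* ℂˣ := MonoidHom.mk' (fun w => ∏ i, lam ⟨w.1.left i, w.2 i⟩) (fun a b => by
    rw [show ∏ i, lam ⟨b.1.left i, b.2 i⟩ = ∏ i, lam ⟨b.1.left (a.1.right⁻¹ * i), b.2 _⟩ from
      (Fintype.prod_equiv (Equiv.mulLeft a.1.right⁻¹) _ _ (fun i => rfl)).symm,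
      ← Finset.prod_mul_distrib]
    exact Finset.prod_congr rfl fun i _ => by rw [← map_mul]; rfl)
  set Ψ : (RegularWreathProduct M C) → ℂ := Cfsg.indFun V (fun v => (mu v : ℂ)) with hΨ
  have hcardV : Nat.card V = Nat.card U ^ p * p := by
    rw [Nat.card_congr (⟨fun v => (fun i => ⟨v.1.left i, v.2 i⟩, v.1.right),
      fun x => ⟨⟨fun i => x.1 i, x.2⟩, fun i => (x.1 i).2⟩, fun v => rfl, fun x => rfl⟩ :
        V ≃ (C → U) × C), Nat.card_prod, Nat.card_fun]
    simp
  have hres : ∀ b : B, Ψ b = θ b := by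
    intro b
    set f : C → M := e b with hf
    have hb : (b : (RegularWreathProduct M C)) = ⟨f, 1⟩ := RegularWreathProduct.ext rfl (hBr b)
    have hterm : ∀ w : (RegularWreathProduct M C), Cfsg.extendByZero V (fun v => (mu v : ℂ)) (w⁻¹ * (b : (RegularWreathProduct M C)) * w) =
        ∏ i, Cfsg.extendByZero U (fun u => (lam u : ℂ)) ((w.left i)⁻¹ * f i * w.left i) := by
      intro w
      have hl : ∀ i, (w⁻¹ * (b : (RegularWreathProduct M C)) * w).left i =
          (w.left (w.right * i))⁻¹ * f (w.right * i) * w.left (w.right * i) := fun i => by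
        simp [hb]
      rw [← Fintype.prod_equiv (Equiv.mulLeft w.right)
        (fun i => Cfsg.extendByZero U (fun u => (lam u : ℂ))
          ((w⁻¹ * (b : (RegularWreathProduct M C)) * w).left i)) _ (fun i => by rw [hl]; rfl)]
      by_cases h : w⁻¹ * (b : (RegularWreathProduct M C)) * w ∈ V
      · rw [Char.extendByZero_apply_mem V _ h]
        rw [Finset.prod_congr rfl fun i _ => Char.extendByZero_apply_mem U _ (h i)]
        simp [mu]
      · rw [Char.extendByZero_of_notMem V _ h]
        obtain ⟨i, hi⟩ : ∃ i, (w⁻¹ * (b : (RegularWreathProduct M C)) * w).left i ∉ U := by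
          by_contra hh
          push Not at hh
          exact h hh
        refine (Finset.prod_eq_zero (Finset.mem_univ i) ?_).symm
        exact Char.extendByZero_of_notMem _ _ hi
    rw [hΨ, Char.indFun_apply, Finset.sum_congr rfl fun w _ => hterm w,
      Fintype.sum_equiv (RegularWreathProduct.equivProd M C)
        (fun w => ∏ i, Cfsg.extendByZero U (fun u => (lam u : ℂ)) ((w.left i)⁻¹ * f i * w.left i))
        (fun x : (C → M) × C => ∏ i, Cfsg.extendByZero U (fun u => (lam u : ℂ))
          ((x.1 i)⁻¹ * f i * x.1 i)) (fun w => rfl),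
      Fintype.sum_prod_type, hcardV]
    simp only [Finset.sum_const, Finset.card_univ, nsmul_eq_mul]
    rw [← Finset.mul_sum,
      ← Fintype.prod_sum (fun i x => Cfsg.extendByZero U (fun u => (lam u : ℂ)) (x⁻¹ * f i * x))]
    have hC : Fintype.card C = p := by simp
    have hU0 : (Nat.card U : ℂ) ≠ 0 := Nat.cast_ne_zero.2 Nat.card_pos.ne'
    have hp0 : (p : ℂ) ≠ 0 := Nat.cast_ne_zero.2 hp.ne_zero
    have hbval : θ b = ∏ i, (φ i : M → ℂ) (f i) := by
      rw [← hφ, Function.comp_apply, hf, MulEquiv.symm_apply_apply]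
    have hprod : ∏ i, (φ i : M → ℂ) (f i) = ((Nat.card U : ℂ)⁻¹) ^ p *
        ∏ i, ∑ x, Cfsg.extendByZero U (fun u => (lam u : ℂ)) (x⁻¹ * f i * x) := by
      calc ∏ i, (φ i : M → ℂ) (f i)
          = ∏ i, ((Nat.card U : ℂ)⁻¹ *
              ∑ x, Cfsg.extendByZero U (fun u => (lam u : ℂ)) (x⁻¹ * f i * x)) :=
            Finset.prod_congr rfl fun i _ => by rw [hsame i, hlam, Char.indFun_apply]
        _ = _ := by rw [Finset.prod_mul_distrib, Finset.prod_const, Finset.card_univ, hC]
    rw [hbval, hprod, hC, inv_pow]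
    push_cast
    field_simp
  have hΨc : IsCharacter (RegularWreathProduct M C) Ψ :=
    Char.IsCharacter.indFun V (Char.IsIrrCharacter.isCharacter (Char.isIrrCharacter_linear mu))
  have hΨN : IsIrrCharacter B (fun b : B => Ψ b) := by
    rw [show (fun b : B => Ψ b) = θ from funext hres]; exact hθ
  have hΨi : IsIrrCharacter (RegularWreathProduct M C) Ψ := isIrrCharacter_of_res B hΨc hΨN
  haveI : Fintype ((RegularWreathProduct M C) ⧸ B) := Fintype.ofFinite _
  obtain ⟨-, -, h3⟩ := CharDeep.Gal.quotient_bijection B hΨi hΨN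
  obtain ⟨β, hβ, hβχ⟩ := h3 χ hχ (by
    rw [show (fun b : B => Ψ b) = θ from funext hres]; exact hθc)
  have hcomm : ∀ a b : (RegularWreathProduct M C) ⧸ B, a * b = b * a := by
    intro a b
    obtain ⟨a, rfl⟩ := QuotientGroup.mk_surjective a
    obtain ⟨b, rfl⟩ := QuotientGroup.mk_surjective b
    rw [← QuotientGroup.mk_mul, ← QuotientGroup.mk_mul, QuotientGroup.eq, hB, MonoidHom.mem_ker,
      map_mul, map_inv, map_mul, map_mul, mul_comm ((RegularWreathProduct.rightHom : (RegularWreathProduct M C) →* C) a),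
      inv_mul_cancel]
  obtain ⟨b₀, hb₀⟩ := Char.IsCharacter.exists_linear (Char.IsIrrCharacter.isCharacter hβ)
    (PrincipalCover.irr_apply_one_of_comm hcomm hβ)
  refine ⟨V, mu * (b₀.comp ((QuotientGroup.mk' B).comp V.subtype)), ?_⟩
  have hfun : (fun v : V => (((mu * (b₀.comp ((QuotientGroup.mk' B).comp V.subtype))) v : ℂˣ) : ℂ)) =
      fun v : V => (mu v : ℂ) * (β ∘ QuotientGroup.mk' B) (v : (RegularWreathProduct M C)) := by
    funext v
    simp [hb₀]
  rw [hfun, Char.indFun_mul_res V _ _ (fun x y => ?_), ← hΨ, mul_comm, hβχ]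
  simp only [Function.comp_apply, map_mul, map_inv]
  rw [hcomm, inv_mul_cancel_left]

end Wreath

end CfsgLib.MWreath
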