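import Cfsg.Agent.S4551
import Cfsg.Agent.S0164
import Cfsg.Agent.S0867
import Cfsg.Agent.Lib.Char.Brauer
import Cfsg.Agent.Lib.CharDeep.HallComplement
import Cfsg.Agent.Lib.CharDeep.LinearExt
import Cfsg.Agent.Lib.PSolvSchur.Rational
import Cfsg.Agent.Lib.RealChar.DegreeSylow
import Mathlib

/-!
A `p`-rational extension in the principal block: if `N` is normal, `θ` an invariant `p`-rational
`p'`-degree character of the principal block of `N` and `N·C(Q)` has `p`-power index for a Sylow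
subgroup `Q` of `N`, then `θ` has a `p`-rational extension in the principal block of `G`.
-/

set_option autoImplicit false
set_option linter.style.haveILetI false

open Cfsg CfsgLib CfsgLib.BlockReg CfsgLib.BlockPrincipal CfsgLib.PrincipalCover CfsgLib.CharTwist

namespace CfsgLib.RatExt

universe u

variable {p : ℕ}

/-- An exponent picking the `p'`-part of every element whose order divides `p ^ a * m`. -/
theorem exists_exp (hp : p.Prime) (a : ℕ) {m : ℕ} (hm : ¬ p ∣ m) :
    ∃ e : ℕ, p ^ a ∣ e ∧ e ≡ 1 [MOD m] := by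
  obtain ⟨e, h0, h1⟩ := Nat.chineseRemainder
    (Nat.Coprime.pow_left a (hp.coprime_iff_not_dvd.2 hm)) 0 1
  exact ⟨e, Nat.modEq_zero_iff_dvd.1 h0, h1⟩

/-- The fields of values of `p`-rational characters are fixed by suitable powers. -/
theorem rat_fixed {X : Type u} [Group X] [Finite X] {χ : X → ℂ} (hχ : Cfsg.IsCharacter X χ)
    {m : ℕ} (hm : 0 < m)
    (hval : ∀ x, χ x ∈ IntermediateField.adjoin ℚ
      ({Complex.exp (2 * Real.pi * Complex.I / m)} : Set ℂ))
    {k : ℕ} (hk : k.Coprime (Nat.card X * m)) (hkm : k ≡ 1 [MOD m]) (g : X) :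
    χ (g ^ k) = χ g := by
  obtain ⟨τ, hτ⟩ := CharGalois.exists_ringEquiv_pow (Nat.mul_pos Nat.card_pos hm) hk
  have hroot : ∀ z : ℂ, z ^ Nat.card X = 1 → τ z = z ^ k := fun z hz =>
    hτ z (by rw [pow_mul, hz, one_pow])
  have h1 : χ (g ^ k) = τ (χ g) := by
    obtain ⟨n, ρ, rfl⟩ := hχ
    obtain ⟨μ, hμ, -, -, hpow⟩ := CfsgLib.Char.exists_eigenvalues ρ g
    have h1 := hpow 1
    simp only [pow_one] at h1
    rw [hpow k, h1, map_sum]
    refine Finset.sum_congr rfl fun i _ => (hroot _ ?_).symm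
    obtain ⟨c, hc⟩ := orderOf_dvd_natCard g
    rw [hc, pow_mul, hμ, one_pow]
  rw [h1]
  set ζ := Complex.exp (2 * Real.pi * Complex.I / m)
  have hζ : IsPrimitiveRoot ζ m := Complex.isPrimitiveRoot_exp m hm.ne'
  have hζfix : τ ζ = ζ := by
    rw [hτ ζ (by rw [mul_comm, pow_mul, hζ.pow_eq_one, one_pow])]
    conv_rhs => rw [← pow_one ζ]
    rw [(hζ.isOfFinOrder hm.ne').pow_eq_pow_iff_modEq, ← hζ.eq_orderOf]
    exact hkm
  refine IntermediateField.adjoin_induction ℚ (p := fun x _ => τ x = x)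
    (fun x hx => ?_) (fun q => ?_) (fun x y _ _ hx hy => by rw [map_add, hx, hy])
    (fun x _ hx => by rw [map_inv₀, hx]) (fun x y _ _ hx hy => by rw [map_mul, hx, hy]) (hval g)
  · rw [Set.mem_singleton_iff.1 hx]; exact hζfix
  · rw [eq_ratCast, map_ratCast]

/-- The determinant of a Galois conjugate. -/
theorem detChar_pow {X : Type u} [Group X] [Finite X] {χ : X → ℂ} (hχ : Cfsg.IsIrrCharacter X χ)
    {k : ℕ} (hk : k.Coprime (Nat.card X)) :
    Cfsg.detChar (fun g => χ (g ^ k)) = fun g => Cfsg.detChar χ g ^ k := by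
  have hirr : Cfsg.IsIrrCharacter X (fun g => χ (g ^ k)) := CharGalois.isIrrCharacter_powMap hk hχ
  obtain ⟨τ, hτ⟩ := CharGalois.exists_ringEquiv_pow Nat.card_pos hk
  obtain ⟨n, ρ, hρ, rfl⟩ := hχ
  let m : X →* Matrix (Fin n) (Fin n) ℂ :=
    (τ.toRingHom.mapMatrix (m := Fin n)).toMonoidHom.comp
      ((LinearMap.toMatrixAlgEquiv' (R := ℂ) (n := Fin n)).toMonoidHom.comp ρ)
  let σ : Representation ℂ X (Fin n → ℂ) :=
    (Matrix.toLinAlgEquiv' (R := ℂ) (n := Fin n)).toMonoidHom.comp m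
  have hσc : σ.character = fun g => ρ.character (g ^ k) := by
    funext g
    have hgal : ρ.character (g ^ k) = τ (ρ.character g) := by
      obtain ⟨μ, hμ, -, -, hpow⟩ := CfsgLib.Char.exists_eigenvalues ρ g
      have h1 := hpow 1
      simp only [pow_one] at h1
      rw [hpow k, h1, map_sum]
      refine Finset.sum_congr rfl fun i _ => (hτ _ ?_).symm
      obtain ⟨c, hc⟩ := orderOf_dvd_natCard g
      rw [hc, pow_mul, hμ, one_pow]
    rw [hgal]
    simp only [Representation.character, LinearMap.trace_eq_matrix_trace ℂ (Pi.basisFun ℂ (Fin n))]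
    rw [Matrix.trace, Matrix.trace, map_sum]
    simp [σ, m, Matrix.toLinAlgEquiv'_apply, LinearMap.toMatrixAlgEquiv'_apply,
      LinearMap.toMatrix_apply]
  haveI := PSolvSchur.isIrreducible_of_char σ (hσc.symm ▸ hirr)
  rw [← hσc, CharDeep.Cover.detChar_eq, CharDeep.Cover.detChar_eq]
  funext g
  show LinearMap.det (σ g) = LinearMap.det (ρ g) ^ k
  have hdet : LinearMap.det (σ g) = τ (LinearMap.det (ρ g)) := by
    rw [← LinearMap.det_toMatrix', ← LinearMap.det_toMatrix']
    show (LinearMap.toMatrix' (Matrix.toLin' (τ.toRingHom.mapMatrix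
      (LinearMap.toMatrix' (ρ g))))).det = _
    rw [LinearMap.toMatrix'_toLin', ← RingHom.map_det]
    rfl
  rw [hdet]
  refine hτ _ ?_
  rw [← map_pow, ← map_pow, pow_card_eq_one', map_one, map_one]

/-- In a nilpotent group, taking the `p'`-part is multiplicative. -/
theorem pow_exp_mul {E : Type u} [Group E] [Finite E] [Group.IsNilpotent E] (hp : p.Prime)
    {a m e : ℕ} (hcard : Nat.card E ∣ p ^ a * m) (hea : p ^ a ∣ e) (he1 : e ≡ 1 [MOD m])
    (hm : ¬ p ∣ m) (x y : E) : (x * y) ^ e = x ^ e * y ^ e := by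
  obtain ⟨Φ⟩ := (Group.isNilpotent_of_finite_tfae (G := E)).out 0 4 rfl rfl |>.mp ‹_›
  apply Φ.symm.injective
  rw [map_pow, map_mul, map_mul, map_pow, map_pow]
  funext q P
  simp only [Pi.pow_apply, Pi.mul_apply]
  set u := Φ.symm x q P
  set v := Φ.symm y q P
  have hq : (q : ℕ).Prime := Nat.prime_of_mem_primeFactors q.2
  have hord : ∀ w : (P : Subgroup E), orderOf w ∣ p ^ a * m :=
    fun w => ((orderOf_dvd_natCard w).trans (Subgroup.card_subgroup_dvd_card _)).trans hcard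
  by_cases hqp : (q : ℕ) = p
  · have hpow : ∀ w : (P : Subgroup E), w ^ e = 1 := fun w => by
      obtain ⟨i, hi⟩ := P.2 w
      obtain ⟨j, -, hj⟩ := (Nat.dvd_prime_pow hq).1 (orderOf_dvd_of_pow_eq_one hi)
      have hj : orderOf w = p ^ j := hj.trans (congrArg (· ^ j) hqp)
      refine orderOf_dvd_iff_pow_eq_one.1 (dvd_trans ?_ hea)
      rw [hj]
      refine pow_dvd_pow _ ?_
      by_contra hlt
      push Not at hlt
      have h2 : p ^ a * p ∣ p ^ a * m := by
        rw [← pow_succ]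
        exact (pow_dvd_pow p hlt).trans (hj ▸ hord w)
      exact hm (Nat.dvd_of_mul_dvd_mul_left (pow_pos hp.pos a) h2)
    rw [hpow, hpow, hpow, one_mul]
  · have hpow : ∀ w : (P : Subgroup E), w ^ e = w := fun w => by
      obtain ⟨i, hi⟩ := P.2 w
      obtain ⟨j, -, hj⟩ := (Nat.dvd_prime_pow hq).1 (orderOf_dvd_of_pow_eq_one hi)
      conv_rhs => rw [← pow_one w]
      rw [pow_eq_pow_iff_modEq]
      refine he1.of_dvd ?_
      have hcop : Nat.Coprime (orderOf w) (p ^ a) := by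
        rw [hj]; exact Nat.Coprime.pow _ _ ((Nat.coprime_primes hq hp).2 hqp)
      exact hcop.dvd_mul_left.1 (hord w)
    rw [hpow, hpow, hpow]

variable [hpF : Fact p.Prime] {M : Ideal Cfsg.AlgInt}

/-- Roots of unity of order prime to `p` are determined modulo `M` by one unit congruence. -/
theorem root_unique (hM : IsPModular p M) {n : ℕ} (hn : ¬ p ∣ n) {z z' S : ℂ} {c : ℕ}
    (hc : ¬ p ∣ c) (hz : z ^ n = 1) (hz' : z' ^ n = 1) (h : MemLocalIdeal M (z * S - c))
    (h' : MemLocalIdeal M (z' * S - c)) : z = z' := by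
  have hn0 : 0 < n := Nat.pos_of_ne_zero fun e => hn (e ▸ dvd_zero p)
  have hzR := memRing_of_pow_eq_one hM hn0 hz
  have hz'R := memRing_of_pow_eq_one hM hn0 hz'
  have h1 := memIdeal_sub hM (memIdeal_mul_left hM hz'R h) (memIdeal_mul_left hM hzR h')
  rw [show z' * (z * S - c) - z * (z' * S - c) = (c : ℂ) * (z - z') by ring] at h1
  have h2 : MemLocalIdeal M (z - z') := by
    by_contra hne
    exact not_memIdeal_mul hM (memRing_natCast hM c) (memRing_sub hM hzR hz'R)
      (not_memIdeal_natCast hM hc) hne h1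
  have hz'0 : z' ≠ 0 := fun e => by rw [e, zero_pow hn0.ne'] at hz'; exact zero_ne_one hz'
  have h3 : MemLocalIdeal M (z / z' - 1) := by
    rw [show z / z' - 1 = z'⁻¹ * (z - z') by field_simp]
    refine memIdeal_mul_left hM (memRing_of_pow_eq_one hM hn0 ?_) h2
    rw [inv_pow, hz', inv_one]
  have h4 := eq_one_of_sub_one_memIdeal hM hn (z := z / z')
    (by rw [div_pow, hz, hz', div_one]) h3
  exact (div_eq_one_iff_eq hz'0).1 h4

variable {G : Type u} [Group G] [Fintype G] (P N : Subgroup G) [N.Normal]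

/-- The normalised sums over regular cosets are invariant under conjugation. -/
theorem s_conj {η : G → ℂ} (hη : Cfsg.IsClassFunction G η) (c q : G ⧸ N) :
    s p N η (c * q * c⁻¹) = s p N η q := by
  classical
  obtain ⟨g, rfl⟩ := QuotientGroup.mk_surjective c
  simp only [s]
  congr 1
  symm
  refine Finset.sum_equiv (MulAut.conj g).toEquiv (fun x => ?_) (fun x _ => (hη x g).symm)
  simp only [mem_S, MulEquiv.toEquiv_eq_coe, MulEquiv.coe_toEquiv,
    MulAut.conj_apply, QuotientGroup.mk_mul, QuotientGroup.mk_inv, mul_left_inj, mul_right_inj,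
    show orderOf (g * x * g⁻¹) = orderOf x from MulEquiv.orderOf_eq (MulAut.conj g) x]

/-- The covering hypothesis holds on every intermediate subgroup of `p'`-index over `N`. -/
theorem hyp_subgroup (hP : IsPGroup p P) (hPN : P ≤ N) (hPS : ¬ p ∣ P.relIndex N)
    (hreg : ∀ g : G, ¬ p ∣ orderOf (g : G ⧸ N) →
      ∃ c ∈ Subgroup.centralizer (P : Set G), g⁻¹ * c ∈ N)
    {K : Subgroup G} (hNK : N ≤ K) (hK : ¬ p ∣ N.relIndex K) :
    Hyp p (P.subgroupOf K) (N.subgroupOf K) where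
  pg := hP.comap_of_injective K.subtype K.subtype_injective
  sylow := by
    show ¬ p ∣ P.relIndex K
    rw [← Subgroup.relIndex_mul_relIndex P N K hPN hNK]
    exact fun h => (hpF.out.dvd_mul.1 h).elim hPS hK
  le := fun x hx => hPN hx
  cover := fun g => by
    have hg : ¬ p ∣ orderOf ((g : G) : G ⧸ N) := by
      intro hd
      apply hK
      show p ∣ (N.subgroupOf K).index
      rw [Subgroup.index_eq_card]
      refine hd.trans ?_
      let _ := Fintype.ofFinite K
      rw [← quotMap_mk (N := N) K g, orderOf_injective _ (quotMap_injective K)]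
      exact orderOf_dvd_natCard _
    obtain ⟨c, hc, hgc⟩ := hreg g hg
    have hcK : c ∈ K := by
      have := K.mul_mem g.2 (hNK hgc)
      rwa [mul_inv_cancel_left] at this
    refine ⟨⟨c, hcK⟩, ?_, hgc⟩
    rw [Subgroup.mem_centralizer_iff]
    exact fun u hu => Subtype.ext (Subgroup.mem_centralizer_iff.1 hc u hu)

/-- On a subgroup of `p'`-index over `N` an extension is a twist of a good one. -/
theorem exists_twist (hM : IsPModular p M) (hP : IsPGroup p P) (hPN : P ≤ N)
    (hPS : ¬ p ∣ P.relIndex N)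
    (hreg : ∀ g : G, ¬ p ∣ orderOf (g : G ⧸ N) →
      ∃ c ∈ Subgroup.centralizer (P : Set G), g⁻¹ * c ∈ N)
    {θ : IrrCharacter N} [Fintype N] (hθ : θ ∈ principalBlock M N) {χ : IrrCharacter G}
    (hχ : ∀ n : N, (χ : G → ℂ) n = (θ : N → ℂ) n)
    {K : Subgroup G} (hNK : N ≤ K) (hK : ¬ p ∣ N.relIndex K) :
    ∃ ν : K →* ℂˣ, (∀ k : K, (k : G) ∈ N → ν k = 1) ∧ (∀ k : K, ν k ^ N.relIndex K = 1) ∧
      ∀ k : K, MemLocalIdeal M
        ((ν k : ℂ) * s p N (χ : G → ℂ) ((k : G) : G ⧸ N) - (cnt p P N : ℂ)) := by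
  classical
  let _ := Fintype.ofFinite K
  let _ := Fintype.ofFinite (N.subgroupOf K)
  have h := hyp_subgroup P N hP hPN hPS hreg hNK hK
  let eN : N.subgroupOf K ≃* N := Subgroup.subgroupOfEquivOfLe hNK
  let θK : IrrCharacter (N.subgroupOf K) :=
    ⟨(θ : N → ℂ) ∘ eN, isIrrCharacter_comp_equiv θ.2 eN⟩
  have hθK : θK ∈ principalBlock M (N.subgroupOf K) :=
    Cfsg.Agent.S4551.comp_equiv_mem hM eN hθ
  have hres : (fun n : N.subgroupOf K => (χ : G → ℂ) ((n : K) : G)) =
      (θK : N.subgroupOf K → ℂ) := funext fun n => hχ (eN n)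
  have hη : IsIrrCharacter K (fun x : K => (χ : G → ℂ) x) :=
    RealChar.DegSylow.isIrr_of_res
      (Clifford.isCharacter_res (Char.IsIrrCharacter.isCharacter χ.2) K) (N.subgroupOf K) θK.2 hres
  obtain ⟨ξ, hξN, hξg⟩ := exists_good_of_extension hM h hθK (η := ⟨_, hη⟩) (congrFun hres)
  obtain ⟨ν, hνN, hν⟩ := CharDeep.Gal.exists_linear_of_res_eq (N.subgroupOf K) hη ξ.2
    (by rw [hres]; exact θK.2) (fun n => (hξN n).trans (congrFun hres n).symm)
  refine ⟨ν, fun k hk => hνN ⟨k, hk⟩, fun k => ?_, fun k => ?_⟩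
  · have := CharDeep.Lin.pow_index_eq_one_of_trivial (N := N.subgroupOf K) ν (fun n => hνN n)
    exact DFunLike.congr_fun this k
  · have hg := hξg (k : K ⧸ N.subgroupOf K)
    rw [show (ξ : K → ℂ) = fun x => (ν x : ℂ) * (χ : G → ℂ) x from funext (congrFun hν),
      s_linear_mul ν (fun n hn => hνN ⟨n, hn⟩) (fun x : K => (χ : G → ℂ) x),
      s_subgroupOf hNK, cnt_subgroupOf (hPN.trans hNK) hNK, quotMap_mk] at hg
    exact hg

/-- The twist making the coset sums good. -/
noncomputable def eps (p : ℕ) (M : Ideal Cfsg.AlgInt) (P N : Subgroup G) [N.Normal] (χ : G → ℂ)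
    (n : ℕ) (q : G ⧸ N) : ℂ := by
  classical
  exact if h : ∃ z : ℂ, z ^ n = 1 ∧ MemLocalIdeal M (z * s p N χ q - (cnt p P N : ℂ))
    then Classical.choose h else 1

theorem eps_eq (hM : IsPModular p M) {n : ℕ} (hn : ¬ p ∣ n) (hc : ¬ p ∣ cnt p P N) {χ : G → ℂ}
    {q : G ⧸ N} {z : ℂ} (hz : z ^ n = 1)
    (h : MemLocalIdeal M (z * s p N χ q - (cnt p P N : ℂ))) : eps p M P N χ n q = z := by
  classical
  have hex : ∃ z : ℂ, z ^ n = 1 ∧ MemLocalIdeal M (z * s p N χ q - (cnt p P N : ℂ)) := ⟨z, hz, h⟩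
  rw [eps, dif_pos hex]
  exact root_unique hM hn hc (Classical.choose_spec hex).1 hz (Classical.choose_spec hex).2 h

/-- The `p`-rational extension. -/
theorem exists_rational_extension (hp2 : p ≠ 2) (hM : IsPModular p M) [Fintype N]
    (θ : IrrCharacter N)
    (hinv : ∀ (g : G) (n : N), (θ : N → ℂ) ⟨g * n * g⁻¹,
      (inferInstance : N.Normal).conj_mem (n : G) n.2 g⟩ = (θ : N → ℂ) n)
    (hdeg : ¬ p ∣ charDegree (θ : N → ℂ)) {mθ : ℕ} (hmθ : ¬ p ∣ mθ)
    (hrat : ∀ n : N, (θ : N → ℂ) n ∈ IntermediateField.adjoin ℚ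
      ({Complex.exp (2 * Real.pi * Complex.I / mθ)} : Set ℂ))
    (hθ : θ ∈ principalBlock M N)
    (hP : IsPGroup p P) (hPN : P ≤ N) (hPS : ¬ p ∣ P.relIndex N)
    (hreg : ∀ g : G, ¬ p ∣ orderOf (g : G ⧸ N) →
      ∃ c ∈ Subgroup.centralizer (P : Set G), g⁻¹ * c ∈ N) :
    ∃ χ : IrrCharacter G, χ ∈ principalBlock M G ∧
      (∃ r : ℕ, ¬ p ∣ r ∧ ∀ g : G, (χ : G → ℂ) g ∈ IntermediateField.adjoin ℚ
        ({Complex.exp (2 * Real.pi * Complex.I / r)} : Set ℂ)) ∧
      ∀ n : N, (χ : G → ℂ) n = (θ : N → ℂ) n := by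
  classical
  have hp : p.Prime := hpF.out
  let _ := Fintype.ofFinite (G ⧸ N)
  obtain ⟨a, r, hr, hcard⟩ := Nat.exists_eq_pow_mul_and_not_dvd (Nat.card_pos (α := G)).ne' p
    hp.ne_one
  have hr0 : 0 < r := Nat.pos_of_ne_zero fun h => hr (h ▸ dvd_zero p)
  have hmθ0 : 0 < mθ := Nat.pos_of_ne_zero fun h => hmθ (h ▸ dvd_zero p)
  have hdvdr : ∀ c : ℕ, ¬ p ∣ c → c ∣ Nat.card G → c ∣ r := fun c hc hd =>
    (Nat.Coprime.pow_right a (hp.coprime_iff_not_dvd.2 hc).symm).dvd_mul_left.1 (hcard ▸ hd)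
  set d := charDegree (θ : N → ℂ) with hd
  have hθd : (θ : N → ℂ) 1 = d := (deg_cast θ).symm
  -- determinant of `θ`
  obtain ⟨δ, hδ⟩ := CharDeep.Extend.exists_det_hom N (θ : N → ℂ) θ.2
  have hdetθ : ¬ p ∣ Cfsg.detOrder (θ : N → ℂ) := by
    rw [detOrder, hδ, CharDeep.Lin.orderOf_coe]
    set L := r * mθ
    have hL : ¬ p ∣ L := fun h => (hp.dvd_mul.1 h).elim hr hmθ
    obtain ⟨i, hi, hki⟩ : ∃ i, (i = 1 ∨ i = 2) ∧ ¬ p ∣ 1 + i * L := by
      by_cases h1 : p ∣ 1 + 1 * L
      · refine ⟨2, Or.inr rfl, fun h2 => hL ?_⟩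
        have := Nat.dvd_sub h2 h1
        rwa [show 1 + 2 * L - (1 + 1 * L) = L by omega] at this
      · exact ⟨1, Or.inl rfl, h1⟩
    set k := 1 + i * L with hk
    have hkL : k.Coprime L := by
      rw [hk, Nat.coprime_add_mul_right_left]; exact Nat.coprime_one_left L
    have hkp : k.Coprime p := (hp.coprime_iff_not_dvd.2 hki).symm
    have hkG : k.Coprime (Nat.card N * mθ) := by
      refine Nat.Coprime.mul_right ?_ (hkL.coprime_dvd_right (dvd_mul_left mθ r))
      refine Nat.Coprime.coprime_dvd_right (Subgroup.card_subgroup_dvd_card N) ?_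
      rw [hcard]
      exact Nat.Coprime.mul_right (hkp.pow_right a) (hkL.coprime_dvd_right (dvd_mul_right r mθ))
    have hkm : k ≡ 1 [MOD mθ] := by
      have h1 : 1 ≡ k [MOD mθ] := (Nat.modEq_iff_dvd' (by omega)).2 (by
        rw [hk, Nat.add_sub_cancel_left]
        exact dvd_mul_of_dvd_right (dvd_mul_left mθ r) i)
      exact h1.symm
    have h1 := detChar_pow θ.2 (hkG.coprime_dvd_right (dvd_mul_right _ mθ))
    rw [show (fun n : N => (θ : N → ℂ) (n ^ k)) = (θ : N → ℂ) from funext fun n =>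
      rat_fixed (Char.IsIrrCharacter.isCharacter θ.2) hmθ0 hrat hkG hkm n, hδ] at h1
    have h2 : δ ^ (i * L) = 1 := by
      refine MonoidHom.ext fun n => ?_
      have h3 : δ n = δ n ^ k := Units.ext (by simpa using congrFun h1 n)
      rw [hk, pow_add, pow_one, left_eq_mul] at h3
      simpa using h3
    intro hpd
    rcases hp.dvd_mul.1 (hpd.trans (orderOf_dvd_of_pow_eq_one h2)) with h | h
    · have := Nat.le_of_dvd (by omega) h
      have := hp.two_le
      omega
    · exact hL h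
  have hcopd : ∀ c : ℕ, Nat.Coprime (p ^ c) (Cfsg.detOrder (θ : N → ℂ) * d) := fun c =>
    Nat.Coprime.pow_left c (hp.coprime_iff_not_dvd.2 fun h =>
      (hp.dvd_mul.1 h).elim hdetθ hdeg)
  -- some extension
  obtain ⟨χ₀, hχ₀, hχ₀N⟩ := CharDeep.Extend.extends_of_sylow N (θ : N → ℂ) θ.2 hinv
    (fun l hl => by
      have := Fact.mk hl
      obtain ⟨T⟩ : Nonempty (Sylow l (G ⧸ N)) := inferInstance
      set H := (T : Subgroup (G ⧸ N)).comap (QuotientGroup.mk' N) with hHdef
      have hNH : N ≤ H := fun x hx => by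
        rw [hHdef, Subgroup.mem_comap, QuotientGroup.mk'_apply,
          (QuotientGroup.eq_one_iff x).2 hx]
        exact Subgroup.one_mem _
      let _ := Fintype.ofFinite H
      let _ := Fintype.ofFinite (N.subgroupOf H)
      have hQH : IsPGroup l (H ⧸ N.subgroupOf H) :=
        T.2.of_injective ((quotMap (N := N) H).codRestrict (T : Subgroup (G ⧸ N)) fun z => by
          obtain ⟨k, rfl⟩ := QuotientGroup.mk_surjective z
          exact k.2)
          fun z z' hz => quotMap_injective H (congrArg Subtype.val hz)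
      obtain ⟨c, hc⟩ := IsPGroup.iff_card.1 hQH
      have hrel : N.relIndex H = l ^ c := by
        show (N.subgroupOf H).index = l ^ c
        rw [Subgroup.index_eq_card, hc]
      let eN : N.subgroupOf H ≃* N := Subgroup.subgroupOfEquivOfLe hNH
      suffices hh : ∃ η₁ : IrrCharacter H,
          ∀ n : N.subgroupOf H, (η₁ : H → ℂ) n = (θ : N → ℂ) (eN n) by
        obtain ⟨η₁, hη₁⟩ := hh
        refine ⟨H, hNH, η₁, ?_, η₁.2, fun n => hη₁ ⟨⟨n, hNH n.2⟩, n.2⟩⟩
        rw [hHdef, Subgroup.index_comap_of_surjective _ (QuotientGroup.mk'_surjective N)]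
        exact (hl.coprime_iff_not_dvd.2 T.not_dvd_index).symm
      by_cases hlp : l = p
      · subst hlp
        have hdet' : Cfsg.detOrder ((θ : N → ℂ) ∘ eN) ∣ Cfsg.detOrder (θ : N → ℂ) := by
          obtain ⟨n, ρ, hρ, hθρ⟩ := θ.2
          rw [← hθρ]
          let ρ' : Representation ℂ (N.subgroupOf H) (Fin n → ℂ) := ρ.comp eN.toMonoidHom
          have hc' : ρ'.character = ρ.character ∘ eN := rfl
          haveI : ρ'.IsIrreducible := PSolvSchur.isIrreducible_of_char ρ'
            (hc' ▸ isIrrCharacter_comp_equiv ⟨_, ρ, hρ, rfl⟩ eN)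
          rw [detOrder, detOrder, ← hc', CharDeep.Cover.detChar_eq, CharDeep.Cover.detChar_eq]
          refine orderOf_dvd_of_pow_eq_one (funext fun x => ?_)
          exact congrFun (pow_orderOf_eq_one (fun g => LinearMap.det (ρ g))) (eN x)
        obtain ⟨η, ⟨hη, hηN, -⟩, -⟩ := Cfsg.Agent.S0867.result (N.subgroupOf H)
          ((θ : N → ℂ) ∘ eN) (isIrrCharacter_comp_equiv θ.2 eN)
          (fun g n => hinv g (eN n)) d (by show (θ : N → ℂ) (eN 1) = d; rw [map_one, hθd])
          (by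
            show Nat.Coprime (N.relIndex H) _
            rw [hrel]
            exact (hcopd c).coprime_dvd_right (Nat.mul_dvd_mul_right hdet' d))
        exact ⟨⟨η, hη⟩, hηN⟩
      · obtain ⟨η₁, hη₁, -⟩ := Cfsg.Agent.S4551.exists_good_pgroup hM hl _ H
          (P.subgroupOf H) (N.subgroupOf H) _
          (hyp_subgroup P N hP hPN hPS hreg hNH (by
            rw [hrel]; exact fun h => hlp ((Nat.prime_dvd_prime_iff_eq hp hl).1
              (hp.dvd_of_dvd_pow h)).symm))
          hQH rfl (Cfsg.Agent.S4551.comp_equiv_mem hM eN hθ)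
        exact ⟨η₁, hη₁⟩)
  have hc : ¬ p ∣ cnt p P N := by
    have h := hyp_subgroup P N hP hPN hPS hreg le_rfl (by
      rw [Subgroup.relIndex_self]; exact hp.not_dvd_one)
    let _ := Fintype.ofFinite (N.subgroupOf N)
    have := cnt_not_dvd h
    rwa [cnt_subgroupOf hPN le_rfl] at this
  -- exponent for `p'`-parts
  obtain ⟨e, hea, he1⟩ := exists_exp hp a hr
  have heord : ∀ q : G ⧸ N, ¬ p ∣ orderOf (q ^ e) ∧ (¬ p ∣ orderOf q → q ^ e = q) := by
    intro q
    have hq : orderOf q ∣ p ^ a * r := by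
      rw [← hcard]
      exact (orderOf_dvd_natCard q).trans (Subgroup.card_quotient_dvd_card N)
    refine ⟨fun h => hr (h.trans (orderOf_dvd_of_pow_eq_one ?_)), fun hnd => ?_⟩
    · obtain ⟨b, hb⟩ := hea
      rw [← pow_mul]
      refine orderOf_dvd_iff_pow_eq_one.1 (hq.trans ⟨b, ?_⟩)
      rw [hb]; ring
    · conv_rhs => rw [← pow_one q]
      rw [pow_eq_pow_iff_modEq]
      exact he1.of_dvd ((Nat.Coprime.pow_right a
        (hp.coprime_iff_not_dvd.2 hnd).symm).dvd_mul_left.1 hq)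
  set χI : IrrCharacter G := ⟨χ₀, hχ₀⟩
  have htw : ∀ (K : Subgroup G), N ≤ K → ¬ p ∣ N.relIndex K → ∃ ν : K →* ℂˣ,
      (∀ k : K, (k : G) ∈ N → ν k = 1) ∧ (∀ k : K, (ν k : ℂ) ^ r = 1) ∧
      ∀ k : K, eps p M P N χ₀ r ((k : G) : G ⧸ N) = (ν k : ℂ) ∧
        MemLocalIdeal M ((ν k : ℂ) * s p N χ₀ ((k : G) : G ⧸ N) - (cnt p P N : ℂ)) := by
    intro K hNK hK
    obtain ⟨ν, h1, h2, h3⟩ := exists_twist P N hM hP hPN hPS hreg hθ (χ := χI) hχ₀N hNK hK
    have hν : ∀ k : K, (ν k : ℂ) ^ r = 1 := fun k => by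
      obtain ⟨b, hb⟩ := hdvdr _ hK ((Subgroup.index_dvd_card (N.subgroupOf K)).trans
        (Subgroup.card_subgroup_dvd_card K))
      rw [hb, pow_mul, ← Units.val_pow_eq_pow_val, h2, Units.val_one, one_pow]
    exact ⟨ν, h1, hν, fun k => ⟨eps_eq P N hM hr hc (hν k) (h3 k), h3 k⟩⟩
  -- the twisting function is a linear character
  set ε : G ⧸ N → ℂ := fun q => eps p M P N χ₀ r (q ^ e) with hε
  have hgood : ∀ q : G ⧸ N, ε q ^ r = 1 ∧
      MemLocalIdeal M (ε q * s p N χ₀ (q ^ e) - (cnt p P N : ℂ)) := by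
    intro q
    set K := (Subgroup.zpowers (q ^ e)).comap (QuotientGroup.mk' N) with hKdef
    have hNK : N ≤ K := fun x hx => by
      rw [hKdef, Subgroup.mem_comap, QuotientGroup.mk'_apply, (QuotientGroup.eq_one_iff x).2 hx]
      exact Subgroup.one_mem _
    have hK : ¬ p ∣ N.relIndex K := by
      show ¬ p ∣ (N.subgroupOf K).index
      rw [Subgroup.index_eq_card]
      refine fun hd' => (heord q).1 (hd'.trans ?_)
      rw [← Nat.card_zpowers]
      exact Subgroup.card_dvd_of_injective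
        ((quotMap (N := N) K).codRestrict (Subgroup.zpowers (q ^ e)) fun z => by
          obtain ⟨k, rfl⟩ := QuotientGroup.mk_surjective z
          exact k.2)
        fun z z' hz => quotMap_injective K (congrArg Subtype.val hz)
    obtain ⟨g, hg⟩ := QuotientGroup.mk_surjective (q ^ e)
    have hgK : g ∈ K := by
      rw [hKdef, Subgroup.mem_comap, QuotientGroup.mk'_apply, hg]; exact Subgroup.mem_zpowers _
    obtain ⟨ν, -, hν, h3⟩ := htw K hNK hK
    obtain ⟨h4, h5⟩ := h3 ⟨g, hgK⟩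
    simp only [hg] at h4 h5
    simp only [hε, h4]
    exact ⟨hν _, h5⟩
  have hεcl : Cfsg.IsClassFunction (G ⧸ N) ε := by
    intro q c
    simp only [hε]
    rw [conj_pow]
    have hs := s_conj (p := p) N (Char.IsIrrCharacter.isClassFunction hχ₀) c (q ^ e)
    refine eps_eq P N hM hr hc (hgood q).1 ?_
    rw [hs]
    exact (hgood q).2
  have hεgen : Cfsg.IsGeneralizedCharacter (G ⧸ N) ε := by
    refine Cfsg.Agent.S0164.result ε hεcl fun E l hl hE => ?_
    haveI := CfsgLib.Char.isNilpotent_of_isElementary hl hE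
    have hEdvd : Nat.card E ∣ p ^ a * r := by
      rw [← hcard]
      exact (Subgroup.card_subgroup_dvd_card E).trans (Subgroup.card_quotient_dvd_card N)
    let f : E →* E :=
      { toFun := fun x => x ^ e
        map_one' := one_pow e
        map_mul' := pow_exp_mul hp hEdvd hea he1 hr }
    set R := f.range.map E.subtype
    set K := R.comap (QuotientGroup.mk' N) with hKdef
    have hNK : N ≤ K := fun x hx => by
      rw [hKdef, Subgroup.mem_comap, QuotientGroup.mk'_apply, (QuotientGroup.eq_one_iff x).2 hx]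
      exact Subgroup.one_mem _
    have hK : ¬ p ∣ N.relIndex K := by
      intro hd'
      have h1 : N.relIndex K ∣ Nat.card R := by
        show (N.subgroupOf K).index ∣ _
        rw [Subgroup.index_eq_card]
        exact Subgroup.card_dvd_of_injective
          ((quotMap (N := N) K).codRestrict R fun z => by
            obtain ⟨k, rfl⟩ := QuotientGroup.mk_surjective z
            exact k.2)
          fun z z' hz => quotMap_injective K (congrArg Subtype.val hz)
      obtain ⟨y, hy⟩ := exists_prime_orderOf_dvd_card' (G := R) p (hd'.trans h1)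
      obtain ⟨x, hx⟩ := y
      obtain ⟨z, ⟨w, rfl⟩, rfl⟩ := hx
      apply (heord (w : G ⧸ N)).1
      rw [← Subgroup.orderOf_coe] at hy
      simp only at hy
      rw [show (w : G ⧸ N) ^ e = E.subtype (f w) from rfl, hy]
    obtain ⟨ν, hνN, -, h3⟩ := htw K hNK hK
    let ν' : R →* ℂˣ :=
      { toFun := fun x => ν ⟨(x : G ⧸ N).out, by
          rw [hKdef, Subgroup.mem_comap, QuotientGroup.mk'_apply, QuotientGroup.out_eq']; exact x.2⟩
        map_one' := hνN _ ((QuotientGroup.eq_one_iff _).1 (QuotientGroup.out_eq' _))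
        map_mul' := fun x y => Units.ext (by
          rw [Units.val_mul, ← (h3 _).1]
          simp only [QuotientGroup.out_eq']
          set kx : K := ⟨(x : G ⧸ N).out, by
            rw [hKdef, Subgroup.mem_comap, QuotientGroup.mk'_apply, QuotientGroup.out_eq']; exact x.2⟩
          set ky : K := ⟨(y : G ⧸ N).out, by
            rw [hKdef, Subgroup.mem_comap, QuotientGroup.mk'_apply, QuotientGroup.out_eq']; exact y.2⟩
          rw [← Units.val_mul, ← map_mul, ← (h3 (kx * ky)).1]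
          congr 1
          simp [kx, ky]) }
    let g : E →* R := MonoidHom.codRestrict (E.subtype.comp f) R fun x => ⟨f x, ⟨x, rfl⟩, rfl⟩
    have hval : (fun x : E => ε x) = fun x : E => ((ν'.comp g) x : ℂ) := by
      funext x
      show eps p M P N χ₀ r ((x : G ⧸ N) ^ e) = _
      rw [MonoidHom.comp_apply]
      show _ = (ν ⟨((g x : R) : G ⧸ N).out, _⟩ : ℂ)
      rw [← (h3 _).1]
      congr 1
      rw [QuotientGroup.out_eq']
      rfl
    refine ⟨_, 0, (CharDeep.Lin.isCharacter_hom (ν'.comp g)).1, ?_, by rw [sub_zero, hval]⟩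
    exact CfsgLib.Char.isCharacter_zero
  have hε1 : ε 1 = 1 := by
    show eps p M P N χ₀ r ((1 : G ⧸ N) ^ e) = 1
    obtain ⟨ν, hν1, -, h3⟩ := htw N le_rfl (by
      rw [Subgroup.relIndex_self]; exact hp.not_dvd_one)
    have h4 := (h3 1).1
    simp only [OneMemClass.coe_one, QuotientGroup.mk_one] at h4
    rw [one_pow, h4, hν1 1 N.one_mem, Units.val_one]
  have hεirr : Cfsg.IsIrrCharacter (G ⧸ N) ε := by
    refine CharDeep.HallCompl.isIrr_of_norm_one hεgen ?_ (d := 1) (by rw [hε1, Nat.cast_one])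
    have h1 : ∀ q, ε q * (starRingEnd ℂ) (ε q) = 1 := fun q => by
      rw [Complex.mul_conj', Complex.norm_eq_one_of_pow_eq_one (hgood q).1 hr0.ne',
        Complex.ofReal_one, one_pow]
    simp only [classInner, h1, Finset.sum_const, Finset.card_univ, nsmul_eq_mul, mul_one]
    rw [← Nat.card_eq_fintype_card, inv_mul_cancel₀ (Nat.cast_ne_zero.2 Nat.card_pos.ne')]
  obtain ⟨εh, hεh⟩ :=
    CharDeep.Lin.exists_hom_of_deg_one (Char.IsIrrCharacter.isCharacter hεirr) hε1
  let l₀ : G →* ℂˣ := εh.comp (QuotientGroup.mk' N)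
  set χ₁ : G → ℂ := fun g => (l₀ g : ℂ) * χ₀ g with hχ₁def
  have hχ₁ : IsIrrCharacter G χ₁ := Char.IsIrrCharacter.linear_mul hχ₀ l₀
  have hl₀N : ∀ n ∈ N, l₀ n = 1 := fun n hn => by
    rw [MonoidHom.comp_apply, QuotientGroup.mk'_apply, (QuotientGroup.eq_one_iff n).2 hn, map_one]
  have hχ₁N : ∀ n : N, χ₁ n = (θ : N → ℂ) n := fun n => by
    simp only [hχ₁def, hl₀N n n.2, Units.val_one, one_mul, hχ₀N]
  have hχ₁good : ∀ q : G ⧸ N, ¬ p ∣ orderOf q →
      MemLocalIdeal M (s p N χ₁ q - (cnt p P N : ℂ)) := by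
    intro q hq
    obtain ⟨g, rfl⟩ := QuotientGroup.mk_surjective q
    rw [hχ₁def, s_linear_mul l₀ hl₀N χ₀, MonoidHom.comp_apply, QuotientGroup.mk'_apply, ← hεh]
    have h2 := (hgood (g : G ⧸ N)).2
    rwa [(heord _).2 hq] at h2
  -- normalise the determinant
  obtain ⟨D, hD⟩ : ∃ D : G →* ℂˣ, Cfsg.detChar χ₁ = fun g => (D g : ℂ) := by
    obtain ⟨n, σ, hσ, hσc⟩ := id hχ₁
    exact ⟨MonoidHom.toHomUnits ((LinearMap.det).comp σ), by
      rw [← hσc, CharDeep.Cover.detChar_eq]; rfl⟩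
  have hχ₁1 : χ₁ 1 = d := by
    have := hχ₁N 1
    rw [OneMemClass.coe_one] at this
    rw [this, hθd]
  have hDN : ∀ n : N, (D n : ℂ) = δ n := by
    intro n
    obtain ⟨k, σ, hσ, hσc⟩ := id hχ₁
    let σN : Representation ℂ N (Fin k → ℂ) := σ.comp N.subtype
    have h1 : (θ : N → ℂ) = σN.character := funext fun n => by
      rw [← hχ₁N n, ← hσc]; rfl
    haveI := PSolvSchur.isIrreducible_of_char σN (h1 ▸ θ.2)
    have h2 := congrFun hD (n : G)
    rw [← hσc, CharDeep.Cover.detChar_eq] at h2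
    have h3 := congrFun hδ n
    rw [h1, CharDeep.Cover.detChar_eq] at h3
    rw [← h2, ← h3]
    rfl
  have hδr : δ ^ r = 1 := by
    refine orderOf_dvd_iff_pow_eq_one.1 (hdvdr (orderOf δ) ?_ ?_)
    · rw [detOrder, hδ, CharDeep.Lin.orderOf_coe] at hdetθ; exact hdetθ
    · refine (orderOf_dvd_of_pow_eq_one (MonoidHom.ext fun n => ?_)).trans
        (Subgroup.card_subgroup_dvd_card N)
      rw [MonoidHom.pow_apply, ← map_pow, pow_card_eq_one', map_one, MonoidHom.one_apply]
  obtain ⟨f, hf1, hfr⟩ : ∃ f : ℕ, f ≡ 1 [MOD p ^ a] ∧ r ∣ f := by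
    obtain ⟨f, h0, h1⟩ := Nat.chineseRemainder
      (Nat.Coprime.pow_left a (hp.coprime_iff_not_dvd.2 hr)) 1 0
    exact ⟨f, h0, Nat.modEq_zero_iff_dvd.1 h1⟩
  obtain ⟨j, hj⟩ : ∃ j, d * j ≡ 1 [MOD p ^ a] := by
    rcases Nat.eq_zero_or_pos a with rfl | ha
    · exact ⟨0, by rw [pow_zero]; exact Nat.modEq_one⟩
    · obtain ⟨j, -, hj⟩ := Nat.exists_mul_mod_eq_one_of_coprime
        (Nat.Coprime.pow_right a (hp.coprime_iff_not_dvd.2 hdeg).symm)
        (Nat.one_lt_pow ha.ne' hp.one_lt)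
      exact ⟨j, by rw [Nat.ModEq, hj, Nat.one_mod_eq_one.2 (by
        have := Nat.one_lt_pow ha.ne' hp.one_lt; omega)]⟩
  set l₁ : G →* ℂˣ := ((D ^ f) ^ j)⁻¹ with hl₁
  have hl₁pa : ∀ g, l₁ g ^ p ^ a = 1 := fun g => by
    obtain ⟨b, hb⟩ := hfr
    have hg : D g ^ (p ^ a * r) = 1 := by
      rw [← hcard, ← map_pow, pow_card_eq_one', map_one]
    simp only [hl₁, MonoidHom.inv_apply, MonoidHom.pow_apply, inv_pow, inv_eq_one, ← pow_mul]
    rw [hb, show r * b * j * p ^ a = p ^ a * r * (b * j) by ring, pow_mul, hg, one_pow]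
  have hl₁N : ∀ n ∈ N, l₁ n = 1 := fun n hn => by
    obtain ⟨b, hb⟩ := hfr
    have h1 : D n = δ ⟨n, hn⟩ := Units.ext (hDN ⟨n, hn⟩)
    have h2 : δ ⟨n, hn⟩ ^ r = 1 := by rw [← MonoidHom.pow_apply, hδr, MonoidHom.one_apply]
    simp [hl₁, h1, hb, pow_mul, h2]
  have hl₁reg : ∀ q : G, ¬ p ∣ orderOf (q : G ⧸ N) → l₁ q = 1 := by
    intro g hg
    have h1 : l₁ g ^ orderOf (g : G ⧸ N) = 1 := by
      rw [← map_pow]
      refine hl₁N _ ((QuotientGroup.eq_one_iff _).1 ?_)
      rw [QuotientGroup.mk_pow, pow_orderOf_eq_one]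
    have := pow_gcd_eq_one.2 ⟨hl₁pa g, h1⟩
    rwa [Nat.Coprime.pow_left a (hp.coprime_iff_not_dvd.2 hg), pow_one] at this
  set χ₂ : G → ℂ := fun g => (l₁ g : ℂ) * χ₁ g with hχ₂def
  have hχ₂ : IsIrrCharacter G χ₂ := Char.IsIrrCharacter.linear_mul hχ₁ l₁
  have hχ₂N : ∀ n : N, χ₂ n = (θ : N → ℂ) n := fun n => by
    simp only [hχ₂def, hl₁N n n.2, Units.val_one, one_mul, hχ₁N]
  have hχ₂good : ∀ q : G ⧸ N, ¬ p ∣ orderOf q →
      MemLocalIdeal M (s p N χ₂ q - (cnt p P N : ℂ)) := by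
    intro q hq
    obtain ⟨g, rfl⟩ := QuotientGroup.mk_surjective q
    rw [hχ₂def, s_linear_mul l₁ hl₁N χ₁, hl₁reg g hq, Units.val_one, one_mul]
    exact hχ₁good _ hq
  refine ⟨⟨χ₂, hχ₂⟩, ?_, ⟨r, hr, fun g => ?_⟩, hχ₂N⟩
  · rw [mem_principal_iff hM, regSum_div_eq (N := N)]
    intro hI
    set R := Finset.univ.filter fun q : G ⧸ N => ¬ p ∣ orderOf q with hR
    have hsum : ∑ q : G ⧸ N, s p N χ₂ q = ∑ q ∈ R, s p N χ₂ q := by
      refine (Finset.sum_filter_of_ne (p := fun q : G ⧸ N => ¬ p ∣ orderOf q)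
        fun q _ hq hd' => hq ?_).symm
      have he' : S p N q = ∅ := by
        refine Finset.eq_empty_of_forall_notMem fun x hx => ?_
        obtain ⟨hx1, rfl⟩ := mem_S.1 hx
        exact hx1 (hd'.trans (orderOf_map_dvd (QuotientGroup.mk' N) x))
      simp [s, he']
    rw [hsum] at hI
    have h1 : MemLocalIdeal M (∑ q ∈ R, (s p N χ₂ q - (cnt p P N : ℂ))) :=
      memIdeal_sum hM _ fun q hq => hχ₂good q (Finset.mem_filter.1 hq).2
    rw [Finset.sum_sub_distrib, Finset.sum_const, nsmul_eq_mul, ← Nat.cast_mul] at h1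
    have h2 := (memIdeal_natCast_iff hM _).1 ((memIdeal_iff_of_sub hM h1).1 hI)
    have h3 : ¬ p ∣ R.card := by
      have h4 := (mem_principal_iff hM _).1
        (BlockPrincipal.principalIrr_mem (G := G ⧸ N) hM)
      simp only [regSum, CfsgLib.Char.principalIrr_apply, Finset.sum_const, nsmul_eq_mul, mul_one,
        div_one, memIdeal_natCast_iff hM] at h4
      exact h4
    exact (hp.dvd_mul.1 h2).elim h3 hc
  · refine PSolvSchur.mem_adjoin_of_pow_fixed (Char.IsIrrCharacter.isCharacter hχ₂)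
      ⟨p ^ a, by rw [hcard, mul_comm]⟩ (fun k hk hkr => ?_) g
    set χ₃ : G → ℂ := fun x => χ₂ (x ^ k) with hχ₃
    have hregfix : ∀ x : G, ¬ p ∣ orderOf x → χ₃ x = χ₂ x := fun x hx => by
      show χ₂ (x ^ k) = χ₂ x
      congr 1
      conv_rhs => rw [← pow_one x]
      rw [pow_eq_pow_iff_modEq]
      exact hkr.of_dvd (hdvdr _ hx (orderOf_dvd_natCard x))
    have hirr₃ : IsIrrCharacter G χ₃ := CharGalois.isIrrCharacter_powMap hk hχ₂
    have hkN : ∀ n : N, χ₂ ((n : G) ^ k) = χ₂ n := by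
      intro n
      have hcop' : ¬ p ∣ r * mθ := fun h => (hp.dvd_mul.1 h).elim hr hmθ
      -- a compatible exponent fixing the roots of unity of order `mθ`
      obtain ⟨k', hk'1, hk'2⟩ := Nat.chineseRemainder
        (Nat.Coprime.pow_left a (hp.coprime_iff_not_dvd.2 hcop')) k 1
      have hk'G : k'.Coprime (Nat.card N * mθ) := by
        refine Nat.Coprime.coprime_dvd_right (Nat.mul_dvd_mul_right
          (Subgroup.card_subgroup_dvd_card N) mθ) ?_
        rw [hcard, mul_assoc]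
        refine Nat.Coprime.mul_right ?_ ?_
        · rw [Nat.Coprime, hk'1.gcd_eq]
          exact hk.coprime_dvd_right (by rw [hcard]; exact dvd_mul_right _ _)
        · rw [Nat.Coprime, hk'2.gcd_eq]
          exact Nat.gcd_one_left _
      have h1 := rat_fixed (Char.IsIrrCharacter.isCharacter θ.2) hmθ0 hrat hk'G
        (hk'2.of_dvd (dvd_mul_left mθ r)) n
      rw [← hχ₂N, ← hχ₂N, Subgroup.coe_pow] at h1
      rw [← h1]
      congr 1
      rw [pow_eq_pow_iff_modEq]
      refine Nat.ModEq.of_dvd (orderOf_dvd_natCard (n : G)) ?_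
      rw [hcard]
      exact (Nat.modEq_and_modEq_iff_modEq_mul
        (Nat.Coprime.pow_left a (hp.coprime_iff_not_dvd.2 hr))).1
        ⟨hk'1.symm, hkr.trans (hk'2.of_dvd (dvd_mul_right r mθ)).symm⟩
    have hres₂ : IsIrrCharacter N (fun n : N => χ₂ n) := by
      rw [show (fun n : N => χ₂ n) = (θ : N → ℂ) from funext hχ₂N]; exact θ.2
    obtain ⟨l, hlN, hl⟩ := CharDeep.Gal.exists_linear_of_res_eq N hχ₂ hirr₃ hres₂
      (fun n => hkN n)
    have hlreg : ∀ q : G, ¬ p ∣ orderOf (q : G ⧸ N) → l q = 1 := by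
      intro q hq
      have hne : s p N χ₂ (q : G ⧸ N) ≠ 0 := fun h0 => by
        have := hχ₂good _ hq
        rw [h0, zero_sub] at this
        exact not_memIdeal_natCast hM hc (by simpa using memIdeal_neg this)
      have hsum : ∑ x ∈ S p N (q : G ⧸ N), χ₂ x ≠ 0 := fun h0 => hne (by simp [s, h0])
      obtain ⟨x, hx, hx0⟩ := Finset.exists_ne_zero_of_sum_ne_zero hsum
      obtain ⟨hxr, hxq⟩ := mem_S.1 hx
      have h1 := congrFun hl x
      rw [hregfix x hxr] at h1
      have h2 : (l x : ℂ) = 1 := mul_right_cancel₀ hx0 (h1.symm.trans (one_mul _).symm)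
      have h3 : q⁻¹ * x ∈ N := QuotientGroup.eq.1 hxq.symm
      have h4 := hlN ⟨_, h3⟩
      rw [map_mul, map_inv, inv_mul_eq_one] at h4
      rw [h4]
      exact Units.ext h2
    -- the determinants
    set D₂ : G →* ℂˣ := l₁ ^ d * D with hD₂def
    have hD₂ : Cfsg.detChar χ₂ = fun g => (D₂ g : ℂ) := by
      rw [hχ₂def, CharDeep.Extend.detChar_twist hχ₁ l₁ d hχ₁1, hD]
      funext x
      simp [hD₂def]
    have hD₂r : ∀ x, D₂ x ^ r = 1 := by
      intro x
      have hx : D x ^ (p ^ a * r) = 1 := by rw [← hcard, ← map_pow, pow_card_eq_one', map_one]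
      have hdf : f * j * d * r ≡ r [MOD p ^ a * r] := by
        have h1 : f * j * d ≡ 1 [MOD p ^ a] := by
          have := hf1.mul hj
          rw [one_mul] at this
          rw [show f * j * d = f * (d * j) by ring]
          exact this
        have := h1.mul_right' r
        rwa [one_mul] at this
      have h2 : D x ^ (f * j * d * r) = D x ^ r :=
        pow_eq_pow_iff_modEq.2 (hdf.of_dvd (orderOf_dvd_of_pow_eq_one hx))
      simp only [hD₂def, MonoidHom.mul_apply, MonoidHom.pow_apply, hl₁, MonoidHom.inv_apply,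
        inv_pow, mul_pow, ← pow_mul, h2, inv_mul_cancel]
    have hld : ∀ x, l x ^ d = 1 := by
      intro x
      have h1 := congrFun (detChar_pow hχ₂ hk) x
      have h2 : Cfsg.detChar χ₃ x = (l x : ℂ) ^ d * Cfsg.detChar χ₂ x := by
        rw [show χ₃ = fun g => (l g : ℂ) * χ₂ g from funext (congrFun hl),
          CharDeep.Extend.detChar_twist hχ₂ l d (by
            show (l₁ 1 : ℂ) * χ₁ 1 = d
            rw [map_one, Units.val_one, one_mul, hχ₁1])]
      rw [← hχ₃, h2, hD₂] at h1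
      have h3 : D₂ x ^ k = D₂ x := by
        conv_rhs => rw [← pow_one (D₂ x)]
        exact pow_eq_pow_iff_modEq.2 (hkr.of_dvd (orderOf_dvd_of_pow_eq_one (hD₂r x)))
      have h4 : l x ^ d * D₂ x = D₂ x := by
        refine Units.ext ?_
        rw [Units.val_mul, Units.val_pow_eq_pow_val]
        rw [← Units.val_pow_eq_pow_val (D₂ x), h3] at h1
        exact h1
      simpa using h4
    have hl1 : ∀ x, l x = 1 := by
      intro x
      have h1 : l x ^ p ^ a = 1 := by
        rw [← map_pow]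
        refine hlreg _ ?_
        rw [QuotientGroup.mk_pow]
        intro hd'
        refine hr (hd'.trans (orderOf_dvd_of_pow_eq_one ?_))
        rw [← pow_mul, ← hcard]
        exact orderOf_dvd_iff_pow_eq_one.1
          ((orderOf_dvd_natCard _).trans (Subgroup.card_quotient_dvd_card N))
      have := pow_gcd_eq_one.2 ⟨h1, hld x⟩
      rwa [Nat.Coprime.pow_left a (hp.coprime_iff_not_dvd.2 hdeg), pow_one] at this
    intro x
    have := congrFun hl x
    simp only [hl1, Units.val_one, one_mul] at this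
    exact this

end CfsgLib.RatExt
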