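import Cfsg.Agent.Lib.BlockPrincipal.FullyRamified
import Cfsg.Agent.Lib.BlockPrincipal.Alperin
import Cfsg.Agent.Lib.CharTools.Basic
import Cfsg.Agent.Lib.Char.Linear
import Mathlib.GroupTheory.Transfer

/-!
# Real characters of odd degree: preliminaries
-/

set_option autoImplicit false
set_option maxHeartbeats 1000000

namespace CfsgLib.RealOdd2

open Cfsg CfsgLib
open scoped Classical ComplexConjugate

universe u

variable {G : Type u} [Group G]

/-- Real irreducible characters of odd degree. -/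
def RealOdd (G : Type u) [Group G] : Type u :=
  {χ : IrrCharacter G // (∀ g : G, ((χ : G → ℂ) g).im = 0) ∧ Odd (charDegree (χ : G → ℂ))}

theorem real_iff (f : G → ℂ) : (∀ g, (f g).im = 0) ↔ (fun g => conj (f g)) = f :=
  ⟨fun h => funext fun g => Complex.conj_eq_iff_im.2 (h g),
    fun h g => Complex.conj_eq_iff_im.1 (congrFun h g)⟩

theorem apply_one_eq_charDegree (χ : IrrCharacter G) :
    (χ : G → ℂ) 1 = (charDegree (χ : G → ℂ) : ℂ) :=
  (Char.IsCharacter.degree_cast (Char.IsIrrCharacter.isCharacter χ.2)).symm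

theorem conj_indFun [Fintype G] (H : Subgroup G) (φ : H → ℂ) :
    (fun g => conj (Cfsg.indFun H φ g)) = Cfsg.indFun H (fun h => conj (φ h)) := by
  funext g
  rw [Char.indFun_apply, Char.indFun_apply, map_mul, map_inv₀, map_natCast, map_sum]
  congr 1
  refine Finset.sum_congr rfl fun x _ => ?_
  by_cases hx : x⁻¹ * g * x ∈ H
  · rw [Char.extendByZero_apply_mem H _ hx, Char.extendByZero_apply_mem H _ hx]
  · rw [Char.extendByZero_of_notMem H _ hx, Char.extendByZero_of_notMem H _ hx, map_zero]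

/-- An involution preserving an odd total weight fixes some point. -/
theorem exists_fixed_of_odd {α : Type*} (s : Finset α) (σ : α → α) (hs : ∀ a ∈ s, σ a ∈ s)
    (hσ : ∀ a ∈ s, σ (σ a) = a) (w : α → ℕ) (hw : ∀ a ∈ s, w (σ a) = w a)
    (hodd : Odd (∑ a ∈ s, w a)) : ∃ a ∈ s, σ a = a ∧ Odd (w a) := by
  by_contra h
  push Not at h
  have h0 : ∑ a ∈ s, (w a : ZMod 2) = 0 := by
    refine Finset.sum_involution (fun a _ => σ a) (fun a ha => ?_) (fun a ha hne he => ?_)
      (fun a ha => hs a ha) (fun a ha => hσ a ha)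
    · rw [hw a ha]; exact CharTwo.add_self_eq_zero _
    · exact hne ((ZMod.natCast_eq_zero_iff_even).2 (Nat.not_odd_iff_even.1 (h a ha he)))
  rw [← Nat.cast_sum, ZMod.natCast_eq_zero_iff_even] at h0
  exact Nat.not_even_iff_odd.2 hodd h0

/-- A character of odd degree has an irreducible constituent of odd degree. -/
theorem exists_odd_constituent [Fintype G] {ξ : G → ℂ} (hξ : IsCharacter G ξ) {d : ℕ}
    (hd : ξ 1 = d) (hodd : Odd d) :
    ∃ φ : IrrCharacter G, classInner ξ (φ : G → ℂ) ≠ 0 ∧ Odd (charDegree (φ : G → ℂ)) := by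
  choose a ha using fun φ : IrrCharacter G => Char.IsCharacter.exists_nat_classInner hξ φ.2
  have h := congrFun (Char.IsCharacter.eq_sum_classInner hξ) 1
  simp only [Finset.sum_apply, Pi.smul_apply, smul_eq_mul, ha, hd, apply_one_eq_charDegree] at h
  have h' : d = ∑ φ : IrrCharacter G, a φ * charDegree (φ : G → ℂ) := by exact_mod_cast h
  by_contra hno
  push Not at hno
  refine Nat.not_even_iff_odd.2 hodd (h' ▸ Finset.even_sum _ fun φ _ => ?_)
  by_cases h0 : classInner ξ (φ : G → ℂ) = 0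
  · rw [ha] at h0
    rw [Nat.cast_eq_zero.1 h0, zero_mul]
    exact Even.zero
  · exact (Nat.not_odd_iff_even.1 (hno φ h0)).mul_left _

/-- A real character of odd degree has a real irreducible constituent of odd degree. -/
theorem exists_real_constituent [Fintype G] {ξ : G → ℂ} (hξ : IsCharacter G ξ)
    (hreal : (fun g => conj (ξ g)) = ξ) {d : ℕ} (hd : ξ 1 = d) (hodd : Odd d) :
    ∃ φ : IrrCharacter G, classInner ξ (φ : G → ℂ) ≠ 0 ∧ Odd (charDegree (φ : G → ℂ)) ∧
      ∀ g, conj ((φ : G → ℂ) g) = (φ : G → ℂ) g := by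
  choose a ha using fun φ : IrrCharacter G => Char.IsCharacter.exists_nat_classInner hξ φ.2
  have h := congrFun (Char.IsCharacter.eq_sum_classInner hξ) 1
  simp only [Finset.sum_apply, Pi.smul_apply, smul_eq_mul, ha, hd, apply_one_eq_charDegree] at h
  have h' : d = ∑ φ : IrrCharacter G, a φ * charDegree (φ : G → ℂ) := by exact_mod_cast h
  let σ : IrrCharacter G → IrrCharacter G := fun φ =>
    ⟨fun g => conj ((φ : G → ℂ) g), CharTwist.isIrrCharacter_conj φ.2⟩
  obtain ⟨φ, -, hfix, hφ⟩ := exists_fixed_of_odd Finset.univ σ (fun _ _ => Finset.mem_univ _)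
    (fun φ _ => Subtype.ext (funext fun g => Complex.conj_conj _))
    (fun φ => a φ * charDegree (φ : G → ℂ)) (fun φ _ => by
      have h1 : a (σ φ) = a φ := by
        have : (a (σ φ) : ℂ) = conj (a φ : ℂ) := by
          rw [← ha, ← ha]
          show classInner ξ (fun g => conj ((φ : G → ℂ) g)) = conj (classInner ξ (φ : G → ℂ))
          conv_lhs => rw [← hreal]
          simp only [classInner, map_mul, map_inv₀, map_natCast, map_sum]
        rw [map_natCast] at this
        exact_mod_cast this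
      have h2 : charDegree (σ φ : G → ℂ) = charDegree (φ : G → ℂ) := by
        show ⌊(conj ((φ : G → ℂ) 1)).re⌋₊ = ⌊((φ : G → ℂ) 1).re⌋₊
        rw [Complex.conj_re]
      rw [h1, h2]) (h' ▸ hodd)
  refine ⟨φ, ?_, (Nat.odd_mul.1 hφ).2, fun g => congrFun (congrArg Subtype.val hfix) g⟩
  rw [ha, Nat.cast_ne_zero]
  intro h0
  exact absurd (Nat.odd_mul.1 hφ).1 (by rw [h0]; decide)

/-- A linear character of a `2`-group of odd degree has degree one. -/
theorem charDegree_eq_one_of_odd [Fintype G] (hP : IsPGroup 2 G) (φ : IrrCharacter G)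
    (hodd : Odd (charDegree (φ : G → ℂ))) : charDegree (φ : G → ℂ) = 1 := by
  have hdvd := BlockReg.deg_dvd_card φ
  obtain ⟨n, hn⟩ := IsPGroup.iff_card.1 hP
  rw [hn] at hdvd
  obtain ⟨j, -, hj⟩ := (Nat.dvd_prime_pow Nat.prime_two).1 hdvd
  rcases Nat.eq_zero_or_pos j with h0 | h0
  · rw [hj, h0, pow_zero]
  · exact absurd (hj ▸ Nat.even_pow.2 ⟨even_two, h0.ne'⟩) (Nat.not_even_iff_odd.2 hodd)

/-- A real-valued homomorphism has values `1` and `-1`. -/
theorem mul_self_of_real [Finite G] (δ : G →* ℂˣ) (h : ∀ x, conj (δ x : ℂ) = δ x) (x : G) :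
    δ x * δ x = 1 := by
  haveI := Fintype.ofFinite G
  have h2 : (δ x⁻¹ : ℂ) = δ x :=
    (Char.IsIrrCharacter.apply_inv (Char.isIrrCharacter_linear δ) x).trans (h x)
  have h3 : δ x⁻¹ = δ x := Units.ext h2
  rw [map_inv] at h3
  exact inv_eq_iff_mul_eq_one.1 h3

/-- A real character of odd degree of a `2`-group has a real linear constituent. -/
theorem exists_real_linear [Fintype G] (hP : IsPGroup 2 G) {ξ : G → ℂ} (hξ : IsCharacter G ξ)
    (hreal : (fun g => conj (ξ g)) = ξ) {d : ℕ} (hd : ξ 1 = d) (hodd : Odd d) :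
    ∃ δ : G →* ℂˣ, classInner ξ (fun g => (δ g : ℂ)) ≠ 0 ∧ ∀ x, δ x * δ x = 1 := by
  obtain ⟨φ, hφ, hdeg, hfix⟩ := exists_real_constituent hξ hreal hd hodd
  obtain ⟨δ, hδ⟩ := Char.IsCharacter.exists_linear (Char.IsIrrCharacter.isCharacter φ.2)
    (by rw [apply_one_eq_charDegree, charDegree_eq_one_of_odd hP φ hdeg, Nat.cast_one])
  refine ⟨δ, ?_, mul_self_of_real δ fun x => ?_⟩
  · rwa [show (fun g => (δ g : ℂ)) = (φ : G → ℂ) from funext fun g => (hδ g).symm]
  · rw [← hδ]; exact hfix x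

/-- An irreducible character of an abelian group is a homomorphism. -/
theorem exists_hom [Fintype G] (hab : ∀ a b : G, a * b = b * a) (φ : IrrCharacter G) :
    ∃ f : G →* ℂˣ, ∀ g, (φ : G → ℂ) g = (f g : ℂ) :=
  Char.IsCharacter.exists_linear (Char.IsIrrCharacter.isCharacter φ.2)
    (PrincipalCover.irr_apply_one_of_comm hab φ.2)

/-- The transfer restricted to a normal subgroup on which the homomorphism is invariant. -/
theorem transfer_apply_normal [Finite G] {A : Type*} [CommGroup A] (H M : Subgroup G) [M.Normal]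
    (hMH : M ≤ H) (δ : H →* A) (hinv : ∀ (g : G) (m : M),
      δ ⟨g * m * g⁻¹, hMH (‹M.Normal›.conj_mem m m.2 g)⟩ = δ ⟨m, hMH m.2⟩) (m : M) :
    MonoidHom.transfer δ (m : G) = δ ⟨m, hMH m.2⟩ ^ H.index := by
  rw [MonoidHom.transfer_def δ (Subgroup.transferTransversal H (m : G)) (m : G),
    Subgroup.leftTransversals.diff]
  let _ := H.fintypeQuotientOfFiniteIndex
  rw [Subgroup.index_eq_card, Nat.card_eq_fintype_card, ← Finset.card_univ, ← Finset.prod_const]
  refine Finset.prod_congr rfl fun q _ => ?_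
  set S := Subgroup.transferTransversal H (m : G) with hS
  have hq : (m : G)⁻¹ • q = q := by
    obtain ⟨g, rfl⟩ := QuotientGroup.mk_surjective q
    refine QuotientGroup.eq.2 ?_
    have h1 := hMH (‹M.Normal›.conj_mem m m.2 g⁻¹)
    simpa [mul_assoc] using h1
  have hv := Subgroup.smul_apply_eq_smul_apply_inv_smul (m : G) S q
  rw [hq, smul_eq_mul] at hv
  rw [← hinv (S.2.leftQuotientEquiv q : G)⁻¹ m]
  refine congrArg δ (Subtype.ext ?_)
  show (S.2.leftQuotientEquiv q : G)⁻¹ * ((((m : G) • S).2.leftQuotientEquiv q : G)) =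
    (S.2.leftQuotientEquiv q : G)⁻¹ * (m : G) * ((S.2.leftQuotientEquiv q : G)⁻¹)⁻¹
  rw [hv, inv_inv, mul_assoc]

end CfsgLib.RealOdd2
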