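import Cfsg.Agent.Lib.BlockPrincipal.RealOddTools

/-!
# One step of the induction for real characters of odd degree: a normal `2`-subgroup
-/

set_option autoImplicit false
set_option maxHeartbeats 1000000

namespace CfsgLib.RealOdd2

open Cfsg CfsgLib
open scoped Classical ComplexConjugate

universe u

/-- What is proved by induction. -/
structure Claim (G : Type u) [Group G] (P : Sylow 2 G) : Prop where
  count : Nat.card (RealOdd G) = Nat.card (Orb (P : Subgroup G) fun _ => True)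
  all_real : Subgroup.normalizer ((P : Subgroup G) : Set G) = (P : Subgroup G) →
    Q2 ↥(P : Subgroup G) → ∀ χ : IrrCharacter G, Odd (charDegree (χ : G → ℂ)) →
      ∀ g, ((χ : G → ℂ) g).im = 0
  conv : (∀ χ : IrrCharacter G, Odd (charDegree (χ : G → ℂ)) → ∀ g, ((χ : G → ℂ) g).im = 0) →
    Subgroup.normalizer ((P : Subgroup G) : Set G) ≤ (P : Subgroup G) ∧ Q2 ↥(P : Subgroup G)

variable {G : Type u} [Group G]

/-- The transfer of a sign character to the whole group takes signs as values. -/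
theorem transfer_sign [Finite G] (H : Subgroup G) (δ : H →* ℂˣ) (h : ∀ x, δ x * δ x = 1) (g : G) :
    MonoidHom.transfer δ g * MonoidHom.transfer δ g = 1 := by
  rw [MonoidHom.transfer_def δ (Subgroup.transferTransversal H g) g,
    Subgroup.leftTransversals.diff, ← Finset.prod_mul_distrib]
  exact Finset.prod_eq_one fun q _ => h _

theorem sylow_odd_index [Finite G] (P : Sylow 2 G) : Odd (P : Subgroup G).index := by
  have : Fact (Nat.Prime 2) := ⟨Nat.prime_two⟩
  exact Nat.not_even_iff_odd.1 fun h => P.not_dvd_index (even_iff_two_dvd.1 h)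

variable (P : Sylow 2 G) (M : Subgroup G) [M.Normal] (hMP : M ≤ (P : Subgroup G))
  (l : M →* ℂˣ) (hl : ∀ m, l m * l m = 1) (hinv : ∀ g m, l (cM M g m) = l m)

include hMP hl hinv

/-- The transfer of an extension is an extension. -/
theorem transfer_extends [Finite G] (δ : ↥(P : Subgroup G) →* ℂˣ)
    (hδ : ∀ m : M, δ ⟨m, hMP m.2⟩ = l m) (m : M) : MonoidHom.transfer δ (m : G) = l m := by
  rw [transfer_apply_normal (P : Subgroup G) M hMP δ (fun g m => by
    rw [hδ m, show (⟨g * m * g⁻¹, _⟩ : ↥(P : Subgroup G)) = ⟨(cM M g m : G), hMP (cM M g m).2⟩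
      from rfl, hδ, hinv]) m, hδ]
  obtain ⟨k, hk⟩ := sylow_odd_index P
  rw [hk, pow_succ, pow_mul, sq, hl, one_pow, one_mul]

/-- A linear constituent on `P` of a character over `l` lies over `l`. -/
theorem linear_over [Finite G] {χ : G → ℂ} (hχ : IsIrrCharacter G χ)
    (hov : Over M l χ) [Fintype ↥(P : Subgroup G)] (δ : ↥(P : Subgroup G) →* ℂˣ)
    (hc : classInner (fun x : ↥(P : Subgroup G) => χ x) (lin δ) ≠ 0) (m : M) :
    δ ⟨m, hMP m.2⟩ = l m := by
  have := Fintype.ofFinite G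
  have := Fintype.ofFinite M
  let δM : M →* ℂˣ := δ.comp (Subgroup.inclusion hMP)
  have h1 : classInner (lin δ ∘ Subgroup.inclusion hMP) (lin δM) ≠ 0 := by
    rw [show lin δ ∘ Subgroup.inclusion hMP = lin δM from rfl,
      Char.classInner_irr_self (χ := lin δM) (Char.isIrrCharacter_linear δM)]
    exact one_ne_zero
  have h2 := FullyRamified.res_ne_zero
    (Clifford.isCharacter_res (Char.IsIrrCharacter.isCharacter hχ) (P : Subgroup G))
    (Subgroup.inclusion hMP) (θ := lin δM) (Char.isIrrCharacter_linear δM) (η := lin δ)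
    (Char.isIrrCharacter_linear δ) hc h1
  rw [show ((fun x : ↥(P : Subgroup G) => χ x) ∘ Subgroup.inclusion hMP) = χ 1 • lin l from
    funext hov, Char.classInner_smul_left] at h2
  have h3 : δM = l := lin_injective
    (Char.eq_of_classInner_ne_zero (χ := lin l) (ψ := lin δM) (Char.isIrrCharacter_linear l)
      (Char.isIrrCharacter_linear δM) (right_ne_zero_of_mul h2)).symm
  exact DFunLike.congr_fun h3 m

/-- Real characters of odd degree over `l`, counted by orbits of signs of `P` over `l`. -/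
theorem fibre_count [Finite G] [Fact (Nat.Prime 2)]
    (hC : Claim (G ⧸ M) (P.mapSurjective (QuotientGroup.mk'_surjective M))) :
    Nat.card {χ : RealOdd G // Over M l (χ.1 : G → ℂ)} =
      Nat.card (Orb (P : Subgroup G) fun δ => ∀ m : M, δ.1 ⟨m, hMP m.2⟩ = l m) := by
  have := Fintype.ofFinite G
  by_cases hex : ∃ δ : Dual (P : Subgroup G), ∀ m : M, δ.1 ⟨m, hMP m.2⟩ = l m
  · obtain ⟨δ, hδ⟩ := hex
    let μ : G →* ℂˣ := MonoidHom.transfer δ.1
    have hμ : ∀ g, μ g * μ g = 1 := transfer_sign _ δ.1 δ.2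
    have hμM : ∀ m : M, μ m = l m := transfer_extends P M hMP l hl hinv δ.1 hδ
    let tw : RealOdd G → RealOdd G := fun χ =>
      ⟨⟨fun g => (χ.1 : G → ℂ) g * (μ g : ℂ), isIrrCharacter_mul_sign χ.1.2 μ hμ⟩, fun g => by
        apply Complex.conj_eq_iff_im.1
        show conj ((χ.1 : G → ℂ) g * (μ g : ℂ)) = _
        rw [map_mul, sign_real (hμ g), Complex.conj_eq_iff_im.2 (χ.2.1 g)], by
        show Odd ⌊((χ.1 : G → ℂ) 1 * (μ 1 : ℂ)).re⌋₊
        rw [map_one, Units.val_one, mul_one]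
        exact χ.2.2⟩
    have htt : ∀ χ, tw (tw χ) = χ := fun χ => Subtype.ext (Subtype.ext (funext fun g => by
      show (χ.1 : G → ℂ) g * (μ g : ℂ) * (μ g : ℂ) = _
      rw [mul_assoc, ← Units.val_mul, hμ, Units.val_one, mul_one]))
    have hiff : ∀ χ : RealOdd G, Over M l (χ.1 : G → ℂ) ↔
        ∀ n ∈ M, ((tw χ).1 : G → ℂ) n = ((tw χ).1 : G → ℂ) 1 := by
      intro χ
      have hll : ∀ m : M, (l m : ℂ) * l m = 1 := fun m => by
        rw [← Units.val_mul, hl, Units.val_one]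
      constructor
      · intro h n hn
        show (χ.1 : G → ℂ) n * (μ n : ℂ) = (χ.1 : G → ℂ) 1 * (μ 1 : ℂ)
        rw [h ⟨n, hn⟩, hμM ⟨n, hn⟩, mul_assoc, hll, map_one, Units.val_one]
      · intro h m
        have h' : (χ.1 : G → ℂ) m * (μ m : ℂ) = (χ.1 : G → ℂ) 1 * (μ 1 : ℂ) := h m m.2
        rw [hμM, map_one, Units.val_one, mul_one] at h'
        rw [← h', mul_assoc, hll, mul_one]
    let e : {χ : RealOdd G // Over M l (χ.1 : G → ℂ)} ≃
        {χ : RealOdd G // ∀ n ∈ M, (χ.1 : G → ℂ) n = (χ.1 : G → ℂ) 1} :=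
      { toFun := fun χ => ⟨tw χ.1, (hiff χ.1).1 χ.2⟩
        invFun := fun χ => ⟨tw χ.1, (hiff (tw χ.1)).2 (by rw [htt]; exact χ.2)⟩
        left_inv := fun χ => Subtype.ext (htt χ.1)
        right_inv := fun χ => Subtype.ext (htt χ.1) }
    rw [Nat.card_congr e, ← card_realOdd_quotient, hC.count]
    refine (card_orb_map (QuotientGroup.mk' M) (P : Subgroup G)
      (map_normalizer_sylow _ (QuotientGroup.mk'_surjective M) P)).trans ?_
    refine card_orb_mul _ μ hμ _ _ fun a b hab => ?_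
    constructor
    · intro h m
      rw [hab, h ⟨m, hMP m.2⟩ ((QuotientGroup.eq_one_iff _).2 m.2), one_mul]
      exact hμM m
    · intro h x hx
      have hxM : (x : G) ∈ M := (QuotientGroup.eq_one_iff _).1 hx
      have h' := h ⟨x, hxM⟩
      rw [hab] at h'
      have h1 : μ x = l ⟨x, hxM⟩ := hμM ⟨x, hxM⟩
      have h2 : a.1 x * l ⟨x, hxM⟩ = l ⟨x, hxM⟩ := by
        rw [← h1] at h' ⊢
        exact h'
      exact mul_eq_right.1 h2
  · have h1 : IsEmpty (Orb (P : Subgroup G) fun δ => ∀ m : M, δ.1 ⟨m, hMP m.2⟩ = l m) :=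
      ⟨fun q => Quotient.inductionOn q fun a => hex ⟨a.1, a.2⟩⟩
    have h2 : IsEmpty {χ : RealOdd G // Over M l (χ.1 : G → ℂ)} := ⟨fun χ => by
      have := Fintype.ofFinite ↥(P : Subgroup G)
      obtain ⟨δ, hδ, hδ2⟩ := exists_real_linear P.2
        (Clifford.isCharacter_res (Char.IsIrrCharacter.isCharacter χ.1.1.2) (P : Subgroup G))
        (funext fun x => congrFun ((real_iff _).1 χ.1.2.1) (x : G))
        (show (χ.1.1 : G → ℂ) ((1 : ↥(P : Subgroup G)) : G) = _ by
          rw [OneMemClass.coe_one]; exact apply_one_eq_charDegree χ.1.1) χ.1.2.2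
      exact hex ⟨⟨δ, hδ2⟩, fun m => linear_over P M hMP l hl hinv χ.1.1.2 χ.2 δ hδ m⟩⟩
    rw [Nat.card_eq_zero.2 (Or.inl h1), Nat.card_eq_zero.2 (Or.inl h2)]

/-- All characters of odd degree over `l` are real. -/
theorem fibre_all_real [Finite G] [Fact (Nat.Prime 2)]
    (hC : Claim (G ⧸ M) (P.mapSurjective (QuotientGroup.mk'_surjective M)))
    (hN : Subgroup.normalizer ((P : Subgroup G) : Set G) = (P : Subgroup G))
    (hQ : Q2 ↥(P : Subgroup G)) (χ : IrrCharacter G) (hodd : Odd (charDegree (χ : G → ℂ)))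
    (hov : Over M l (χ : G → ℂ)) : ∀ g, ((χ : G → ℂ) g).im = 0 := by
  have := Fintype.ofFinite G
  have := Fintype.ofFinite ↥(P : Subgroup G)
  obtain ⟨φ, hφ, hdeg⟩ := exists_odd_constituent
    (Clifford.isCharacter_res (Char.IsIrrCharacter.isCharacter χ.2) (P : Subgroup G))
    (show (χ : G → ℂ) ((1 : ↥(P : Subgroup G)) : G) = _ by
      rw [OneMemClass.coe_one]; exact apply_one_eq_charDegree χ) hodd
  obtain ⟨δ, hδ⟩ := Char.IsCharacter.exists_linear (Char.IsIrrCharacter.isCharacter φ.2)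
    (by rw [apply_one_eq_charDegree, charDegree_eq_one_of_odd P.2 φ hdeg, Nat.cast_one])
  have hδM : ∀ m : M, δ ⟨m, hMP m.2⟩ = l m :=
    linear_over P M hMP l hl hinv χ.2 hov δ
      (by rwa [show lin δ = (φ : ↥(P : Subgroup G) → ℂ) from funext fun g => (hδ g).symm])
  let μ : G →* ℂˣ := MonoidHom.transfer δ
  have hμ : ∀ g, μ g * μ g = 1 := transfer_sign _ δ (hQ δ)
  have hμM : ∀ m : M, μ m = l m := transfer_extends P M hMP l hl hinv δ hδM
  obtain ⟨η, hη⟩ := CharTools.exists_descend M (isIrrCharacter_mul_sign χ.2 μ hμ) fun n hn => by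
    rw [hov ⟨n, hn⟩, hμM ⟨n, hn⟩, map_one, mul_assoc, ← Units.val_mul, hl]
  have hdeg' : Odd (charDegree (η : G ⧸ M → ℂ)) := by
    show Odd ⌊((η : G ⧸ M → ℂ) 1).re⌋₊
    rw [← QuotientGroup.mk_one, hη, map_one, Units.val_one, mul_one]
    exact hodd
  have hr := hC.all_real (by
    rw [Sylow.coe_mapSurjective, ← map_normalizer_sylow _ (QuotientGroup.mk'_surjective M) P, hN])
    (hQ.of_surjective ((QuotientGroup.mk' M).subgroupMap (P : Subgroup G))
      ((QuotientGroup.mk' M).subgroupMap_surjective _)) η hdeg'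
  intro g
  have h1 := Complex.conj_eq_iff_im.2 (hr g)
  rw [hη, map_mul, sign_real (hμ g)] at h1
  exact Complex.conj_eq_iff_im.1 (mul_right_cancel₀ (Units.ne_zero _) h1)

/-- If all characters of odd degree over `l` are real, all extensions of `l` to `P` take signs. -/
theorem fibre_conv [Finite G] [Fact (Nat.Prime 2)]
    (hC : Claim (G ⧸ M) (P.mapSurjective (QuotientGroup.mk'_surjective M)))
    (hall : ∀ χ : IrrCharacter G, Odd (charDegree (χ : G → ℂ)) → Over M l (χ : G → ℂ) →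
      ∀ g, ((χ : G → ℂ) g).im = 0)
    (δ : ↥(P : Subgroup G) →* ℂˣ) (hδ : ∀ m : M, δ ⟨m, hMP m.2⟩ = l m) :
    ∀ x, δ x * δ x = 1 := by
  have := Fintype.ofFinite G
  let μ : G →* ℂˣ := MonoidHom.transfer δ
  have hμM : ∀ m : M, μ m = l m := transfer_extends P M hMP l hl hinv δ hδ
  have h1 : charDegree (fun g => (μ g : ℂ)) = 1 := by
    show ⌊((μ 1 : ℂ)).re⌋₊ = 1
    simp
  have hμ : ∀ g, μ g * μ g = 1 := mul_self_of_real μ fun g => Complex.conj_eq_iff_im.2
    (hall ⟨_, Char.isIrrCharacter_linear μ⟩ (by rw [h1]; exact odd_one) (fun m => by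
      show (μ m : ℂ) = (μ 1 : ℂ) * l m
      rw [hμM, map_one, Units.val_one, one_mul]) g)
  have hq : Q2 ↥((P : Subgroup G).map (QuotientGroup.mk' M)) := (hC.conv fun η hη y => by
    obtain ⟨g, rfl⟩ := QuotientGroup.mk_surjective y
    have hinf : IsIrrCharacter G fun g : G => (η : G ⧸ M → ℂ) (g : G ⧸ M) :=
      CharTools.isIrrCharacter_comp (QuotientGroup.mk' M) (QuotientGroup.mk'_surjective M) η.2
    have h := hall ⟨_, isIrrCharacter_mul_sign hinf μ hμ⟩ (by
      show Odd ⌊((η : G ⧸ M → ℂ) ((1 : G) : G ⧸ M) * (μ 1 : ℂ)).re⌋₊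
      rw [map_one, Units.val_one, mul_one, QuotientGroup.mk_one]
      exact hη) (fun m => by
      show (η : G ⧸ M → ℂ) ((m : G) : G ⧸ M) * (μ m : ℂ) =
        (η : G ⧸ M → ℂ) ((1 : G) : G ⧸ M) * (μ 1 : ℂ) * l m
      rw [(QuotientGroup.eq_one_iff _).2 m.2, hμM, map_one, Units.val_one, mul_one,
        QuotientGroup.mk_one]) g
    have h' := Complex.conj_eq_iff_im.2 h
    change conj ((η : G ⧸ M → ℂ) (g : G ⧸ M) * (μ g : ℂ)) = _ at h'
    rw [map_mul, sign_real (hμ g)] at h'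
    exact Complex.conj_eq_iff_im.1 (mul_right_cancel₀ (Units.ne_zero _) h')).2
  let π := (QuotientGroup.mk' M).subgroupMap (P : Subgroup G)
  let ε : ↥(P : Subgroup G) →* ℂˣ := δ * μ.comp (P : Subgroup G).subtype
  have hker : π.ker ≤ ε.ker := fun x hx => by
    have hxM : (x : G) ∈ M := (QuotientGroup.eq_one_iff _).1 (congrArg Subtype.val hx)
    show δ x * μ x = 1
    rw [show μ x = l ⟨x, hxM⟩ from hμM ⟨x, hxM⟩,
      show δ x = l ⟨x, hxM⟩ from hδ ⟨x, hxM⟩, hl]
  intro x
  have h := hq (π.liftOfSurjective ((QuotientGroup.mk' M).subgroupMap_surjective _) ⟨ε, hker⟩) (π x)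
  rw [show π.liftOfSurjective ((QuotientGroup.mk' M).subgroupMap_surjective _) ⟨ε, hker⟩ (π x) = ε x
    from π.liftOfRightInverse_comp_apply _ _ ⟨ε, hker⟩ x] at h
  have h' : δ x * μ x * (δ x * μ x) = 1 := h
  rwa [mul_mul_mul_comm, hμ, mul_one] at h'

end CfsgLib.RealOdd2
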