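import Cfsg.Agent.Lib.BlockPrincipal.RealOddFibre
import Cfsg.Agent.Lib.BlockPrincipal.AbelianizationPSqStructure
import Cfsg.Agent.S4591

/-!
# Real characters of odd degree of solvable groups
-/

set_option autoImplicit false
set_option maxHeartbeats 1000000

namespace CfsgLib.RealOdd2

open Cfsg CfsgLib
open scoped Classical ComplexConjugate

universe u

variable {G : Type u} [Group G]

theorem card_quotient_lt [Finite G] (M : Subgroup G) [M.Normal] (hM : M ≠ ⊥) :
    Nat.card (G ⧸ M) < Nat.card G := by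
  rw [Subgroup.card_eq_card_quotient_mul_card_subgroup M]
  exact lt_mul_of_one_lt_right Nat.card_pos (Subgroup.one_lt_card_iff_ne_bot M |>.2 hM)

theorem inflate_real [Finite G] (M : Subgroup G) [M.Normal]
    (hall : ∀ χ : IrrCharacter G, Odd (charDegree (χ : G → ℂ)) → ∀ g, ((χ : G → ℂ) g).im = 0)
    (η : IrrCharacter (G ⧸ M)) (hη : Odd (charDegree (η : G ⧸ M → ℂ))) (y : G ⧸ M) :
    ((η : G ⧸ M → ℂ) y).im = 0 := by
  obtain ⟨g, rfl⟩ := QuotientGroup.mk_surjective y
  exact hall (CharTools.quotientEquiv M η).1 hη g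

section Trivial

theorem claim_trivial [Finite G] [Subsingleton G] (P : Sylow 2 G) : Claim G P where
  count := by
    have := Fintype.ofFinite G
    have h1 : ∀ χ : IrrCharacter G, χ = Char.principalIrr := fun χ =>
      Cfsg.Agent.S4591.eq_one_of_const χ fun r => by rw [Subsingleton.elim r 1]
    let x₀ : RealOdd G := ⟨Char.principalIrr, fun g => by simp, by
      show Odd ⌊((1 : ℂ)).re⌋₊
      simp⟩
    have : Unique (RealOdd G) := ⟨⟨x₀⟩, fun χ => Subtype.ext (h1 χ.1)⟩
    let δ₀ : Dual (P : Subgroup G) := ⟨1, fun _ => by simp⟩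
    have : Unique (Orb (P : Subgroup G) fun _ => True) :=
      ⟨⟨Quotient.mk _ ⟨δ₀, trivial⟩⟩, fun q => Quotient.inductionOn q fun a =>
        congrArg (Quotient.mk _) (Subtype.ext (Subtype.ext (MonoidHom.ext fun x => by
          rw [Subsingleton.elim x 1, map_one, map_one])))⟩
    rw [Nat.card_unique, Nat.card_unique]
  all_real := fun _ _ χ _ g => by
    rw [Subsingleton.elim g 1, apply_one_eq_charDegree]
    exact Complex.natCast_im _
  conv := fun _ => ⟨fun g _ => by rw [Subsingleton.elim g 1]; exact Subgroup.one_mem _,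
    fun δ x => by rw [Subsingleton.elim x 1, map_one, one_mul]⟩

end Trivial

section OddCase

variable (P : Sylow 2 G) (M : Subgroup G) [M.Normal] [IsMulCommutative M]
  (hM : Odd (Nat.card M))

include hM

theorem eq_one_of_mem_odd [Finite G] {x : G} (hx : x ∈ (P : Subgroup G)) (hxM : x ∈ M) : x = 1 := by
  obtain ⟨k, hk⟩ := IsPGroup.iff_orderOf.1 P.2 ⟨x, hx⟩
  rw [← Subgroup.orderOf_coe] at hk
  change orderOf x = 2 ^ k at hk
  have h := Subgroup.orderOf_dvd_natCard M hxM
  rw [hk] at h
  rcases Nat.eq_zero_or_pos k with h0 | h0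
  · exact orderOf_eq_one_iff.1 (by rw [hk, h0, pow_zero])
  · exact absurd (even_iff_two_dvd.2 (dvd_trans (dvd_pow_self 2 h0.ne') h))
      (Nat.not_even_iff_odd.2 hM)

theorem claim_of_odd [Finite G] [Fact (Nat.Prime 2)]
    (hC : Claim (G ⧸ M) (P.mapSurjective (QuotientGroup.mk'_surjective M))) : Claim G P where
  count := by
    have := Fintype.ofFinite G
    have := Fintype.ofFinite M
    rw [← Nat.card_congr (Equiv.subtypeUnivEquiv (α := RealOdd G)
      (p := fun χ => ∀ n ∈ M, (χ.1 : G → ℂ) n = (χ.1 : G → ℂ) 1)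
      (realOdd_trivial_of_odd M hM)), ← card_realOdd_quotient, hC.count]
    refine (card_orb_map (QuotientGroup.mk' M) (P : Subgroup G)
      (map_normalizer_sylow _ (QuotientGroup.mk'_surjective M) P)).trans ?_
    refine card_orb_congr_pred _ fun δ => ⟨fun _ => trivial, fun _ x hx => ?_⟩
    rw [show x = 1 from Subtype.ext
      (eq_one_of_mem_odd P M hM x.2 ((QuotientGroup.eq_one_iff _).1 hx)), map_one]
  all_real := by
    intro hN hQ χ hodd g
    have := Fintype.ofFinite G
    have := Fintype.ofFinite M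
    have hc : M ⊓ Subgroup.centralizer ((P : Subgroup G) : Set G) = ⊥ := by
      refine eq_bot_iff.2 fun m hm => ?_
      have h1 : m ∈ Subgroup.normalizer ((P : Subgroup G) : Set G) := by
        refine Subgroup.mem_normalizer_iff.2 fun y => ⟨fun hy => ?_, fun hy => ?_⟩
        · rw [← Subgroup.mem_centralizer_iff.1 hm.2 y hy, mul_inv_cancel_right]
          exact hy
        · have h2 := Subgroup.mem_centralizer_iff.1 hm.2 _ hy
          rw [inv_mul_cancel_right] at h2
          have h3 : y = m * y * m⁻¹ := mul_left_cancel h2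
          rw [h3]; exact hy
      rw [hN] at h1
      exact Subgroup.mem_bot.2 (eq_one_of_mem_odd P M hM h1 hm.1)
    obtain ⟨θ, hθ, -, hfix⟩ := exists_fixed_constituent P.2 M χ.2 hodd
    rw [Cfsg.Agent.S4591.eq_one_of_fixed P M hc θ hfix] at hθ
    have htriv : ∀ n ∈ M, (χ : G → ℂ) n = (χ : G → ℂ) 1 :=
      trivial_of_constituent_one M χ.2 (by
        have h : lin (1 : M →* ℂˣ) = (Char.principalIrr : IrrCharacter M).1 := by
          funext m; simp [lin]
        rw [h]; exact hθ)
    obtain ⟨η, hη⟩ := CharTools.exists_descend M χ.2 htriv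
    rw [← hη]
    refine hC.all_real ?_ (hQ.of_surjective ((QuotientGroup.mk' M).subgroupMap (P : Subgroup G))
      ((QuotientGroup.mk' M).subgroupMap_surjective _)) η ?_ _
    · rw [Sylow.coe_mapSurjective, ← map_normalizer_sylow _ (QuotientGroup.mk'_surjective M) P, hN]
    · show Odd ⌊((η : G ⧸ M → ℂ) 1).re⌋₊
      rw [← QuotientGroup.mk_one, hη]
      exact hodd
  conv := by
    intro hall
    have := Fintype.ofFinite G
    have := Fintype.ofFinite M
    obtain ⟨hN', hQ'⟩ := hC.conv (inflate_real M hall)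
    have hC' : ∀ c ∈ M, (∀ y ∈ (P : Subgroup G), y * c = c * y) → c = 1 := by
      intro c hc hcP
      by_contra hne
      set H := (P : Subgroup G) ⊔ M with hH
      have := Fintype.ofFinite H
      let MH := M.subgroupOf H
      have hcent : ∀ y ∈ H, y * c = c * y := by
        have hle : H ≤ Subgroup.centralizer {c} := sup_le
          (fun y hy => Subgroup.mem_centralizer_singleton_iff.2 (hcP y hy))
          (fun y hy => Subgroup.mem_centralizer_singleton_iff.2 (setLike_mul_comm hy hc))
        exact fun y hy => Subgroup.mem_centralizer_singleton_iff.1 (hle hy)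
      have hi : ∃ k, MH.index = 2 ^ k := by
        obtain ⟨n, hn⟩ := IsPGroup.iff_card.1 P.2
        have h : MH.index ∣ 2 ^ n := by
          rw [← hn]
          show M.relIndex H ∣ _
          rw [hH, Subgroup.relIndex_sup_right]
          exact Subgroup.index_dvd_card _
        obtain ⟨k, -, hk⟩ := (Nat.dvd_prime_pow Nat.prime_two).1 h
        exact ⟨k, hk⟩
      obtain ⟨k, hk⟩ := hi
      letI : CommGroup M :=
        { (inferInstance : Group M) with
          mul_comm := fun a b => Subtype.ext (setLike_mul_comm a.2 b.2) }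
      have hne' : (⟨c, hc⟩ : M) ^ MH.index ≠ 1 := by
        intro h
        have h' : c ^ MH.index = 1 := by simpa using congrArg Subtype.val h
        have h1 := orderOf_dvd_of_pow_eq_one h'
        rw [hk] at h1
        obtain ⟨j, -, hj⟩ := (Nat.dvd_prime_pow Nat.prime_two).1 h1
        rcases Nat.eq_zero_or_pos j with h0 | h0
        · exact hne (orderOf_eq_one_iff.1 (by rw [hj, h0, pow_zero]))
        · have h2 := Subgroup.orderOf_dvd_natCard M hc
          rw [hj] at h2
          exact absurd (even_iff_two_dvd.2 (dvd_trans (dvd_pow_self 2 h0.ne') h2))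
            (Nat.not_even_iff_odd.2 hM)
      obtain ⟨f, hf⟩ := CommGroup.exists_apply_ne_one_of_hasEnoughRootsOfUnity M ℂ hne'
      let μ : H →* ℂˣ := MonoidHom.transfer
        (f.comp (Subgroup.subgroupOfEquivOfLe (le_sup_right : M ≤ H)).toMonoidHom)
      have hμc : μ ⟨c, le_sup_right (a := (P : Subgroup G)) hc⟩ ≠ 1 := by
        rw [show μ _ = _ from MonoidHom.transfer_eq_pow _
          (⟨c, le_sup_right (a := (P : Subgroup G)) hc⟩ : H) fun n g₀ _ => ?_]
        · rw [MonoidHom.comp_apply]
          refine fun h => hf (Eq.trans (congrArg f (Subtype.ext ?_)) h)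
          rfl
        · refine Subtype.ext ?_
          show (g₀ : G)⁻¹ * c ^ n * g₀ = c ^ n
          rw [mul_assoc, ← ((Commute.pow_right (hcent g₀ g₀.2 : Commute (g₀ : G) c) n)).eq,
            inv_mul_cancel_left]
      have hμirr : IsIrrCharacter H (lin μ) := Char.isIrrCharacter_linear μ
      obtain ⟨χ, hχ, hdeg⟩ := exists_odd_constituent (d := H.index)
        (Char.IsCharacter.indFun H (Char.IsIrrCharacter.isCharacter hμirr))
        (by rw [Char.indFun_apply_one]; simp [lin])
        (Nat.not_even_iff_odd.1 fun h => Nat.not_even_iff_odd.2 (sylow_odd_index P)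
          (even_iff_two_dvd.2 (dvd_trans (even_iff_two_dvd.1 h)
            (Subgroup.index_dvd_of_le (le_sup_left : (P : Subgroup G) ≤ H)))))
      have htriv := realOdd_trivial_of_odd M hM ⟨χ, hall χ hdeg, hdeg⟩
      rw [Char.classInner_indFun H (lin μ) _ (Char.IsIrrCharacter.isClassFunction χ.2),
        ← Char.classInner_conj_symm] at hχ
      have h := Cfsg.Agent.S4591.constituent_eq_degree (χ := fun h : H => (χ : G → ℂ) h)
        (Clifford.isCharacter_res (Char.IsIrrCharacter.isCharacter χ.2) H) ⟨_, hμirr⟩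
        (fun h0 => hχ (by rw [h0, map_zero]))
        (x := ⟨c, le_sup_right (a := (P : Subgroup G)) hc⟩) (by
          show (χ : G → ℂ) c = (χ : G → ℂ) ((1 : H) : G)
          rw [OneMemClass.coe_one]
          exact htriv c hc)
      exact hμc (Units.ext (by simpa [lin] using h))
    refine ⟨fun n hn => ?_, fun δ x => ?_⟩
    · have h1 : QuotientGroup.mk' M n ∈
          (Subgroup.normalizer ((P : Subgroup G) : Set G)).map (QuotientGroup.mk' M) :=
        Subgroup.mem_map_of_mem _ hn
      rw [map_normalizer_sylow _ (QuotientGroup.mk'_surjective M) P] at h1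
      obtain ⟨x, hx, hxn⟩ := hN' h1
      have hm : x⁻¹ * n ∈ M := QuotientGroup.eq.1 hxn
      have hmN : x⁻¹ * n ∈ Subgroup.normalizer ((P : Subgroup G) : Set G) :=
        Subgroup.mul_mem _ (Subgroup.inv_mem _ (Subgroup.le_normalizer hx)) hn
      have h2 := hC' _ hm fun y hy => by
        have hcomm : (x⁻¹ * n) * y * (x⁻¹ * n)⁻¹ * y⁻¹ = 1 := by
          refine eq_one_of_mem_odd P M hM
            (Subgroup.mul_mem _ ((Subgroup.mem_normalizer_iff.1 hmN y).1 hy) (Subgroup.inv_mem _ hy)) ?_
          have h3 := M.mul_mem hm (‹M.Normal›.conj_mem _ (M.inv_mem hm) y)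
          simpa [mul_assoc] using h3
        rw [mul_inv_eq_one, mul_inv_eq_iff_eq_mul] at hcomm
        exact hcomm.symm
      rw [inv_mul_eq_one] at h2
      rw [← h2]; exact hx
    · let π := (QuotientGroup.mk' M).subgroupMap (P : Subgroup G)
      have hker : π.ker ≤ δ.ker := fun y hy => by
        show δ y = 1
        rw [show y = 1 from Subtype.ext (eq_one_of_mem_odd P M hM y.2
          ((QuotientGroup.eq_one_iff _).1 (congrArg Subtype.val hy))), map_one]
      have h := hQ' (π.liftOfSurjective ((QuotientGroup.mk' M).subgroupMap_surjective _) ⟨δ, hker⟩) (π x)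
      exact (congrArg (fun z => z * z)
        (π.liftOfRightInverse_comp_apply _ _ ⟨δ, hker⟩ x)).symm.trans h

end OddCase

section TwoCase

variable (P : Sylow 2 G) (M : Subgroup G) [M.Normal]

/-- Linear characters of `M` fixed by `P`. -/
def FixL : Type u := {l : M →* ℂˣ // ∀ x ∈ (P : Subgroup G), ∀ m, l (cM M x m) = l m}

/-- Conjugacy by the normalizer. -/
@[reducible] def fixS : Setoid (FixL P M) where
  r l l' := ∃ n ∈ Subgroup.normalizer ((P : Subgroup G) : Set G), ∀ m, l'.1 m = l.1 (cM M n m)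
  iseqv := ⟨fun l => ⟨1, Subgroup.one_mem _, fun m => by rw [cM_one]⟩,
    fun {l l'} ⟨n, hn, h⟩ => ⟨n⁻¹, Subgroup.inv_mem _ hn, fun m => by
      rw [h, ← cM_mul, mul_inv_cancel, cM_one]⟩,
    fun {l l' l''} ⟨n, hn, h⟩ ⟨n', hn', h'⟩ => ⟨n * n', Subgroup.mul_mem _ hn hn', fun m => by
      rw [h', h, cM_mul]⟩⟩

variable {P M}

theorem sylow_le_inertia (l : FixL P M) :
    (P : Subgroup G) ≤ CharTwist.inertia M (lin l.1) :=
  fun x hx => mem_inertia_lin.2 (l.2 x hx)

/-- Fusion of fixed characters is controlled by the normalizer. -/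
theorem fixS_of_conj [Finite G] [Fact (Nat.Prime 2)] (l l' : FixL P M) (g : G)
    (h : ∀ m, l'.1 m = l.1 (cM M g m)) : (fixS P M).r l l' := by
  set T := CharTwist.inertia M (lin l.1) with hT
  have hgP : ((g • P : Sylow 2 G) : Subgroup G) ≤ T := by
    intro x hx
    rw [Sylow.coe_subgroup_smul, Subgroup.mem_pointwise_smul_iff_inv_smul_mem] at hx
    simp only [MulAut.smul_def, MulAut.conj_inv_apply] at hx
    refine mem_inertia_lin.2 fun m => ?_
    have h1 := l'.2 _ hx (cM M g⁻¹ m)
    rw [h, h] at h1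
    simp only [← cM_mul, ← mul_assoc, mul_inv_cancel, one_mul, inv_mul_cancel_right,
      mul_inv_cancel_right, cM_one] at h1
    exact h1
  obtain ⟨t, ht⟩ := MulAction.exists_smul_eq T ((g • P).subtype hgP)
    (P.subtype (sylow_le_inertia l))
  have htg : ((t : G) * g) • P = P := by
    rw [mul_smul]
    have hle : (((t : G) • g • P : Sylow 2 G) : Subgroup G) ≤ T := by
      intro x hx
      rw [Sylow.coe_subgroup_smul, Subgroup.mem_pointwise_smul_iff_inv_smul_mem] at hx
      have h1 := hgP hx
      simp only [MulAut.smul_def, MulAut.conj_inv_apply] at h1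
      simpa [mul_assoc] using T.mul_mem (T.mul_mem t.2 h1) (T.inv_mem t.2)
    refine Sylow.subtype_injective (hP := hle) (hQ := sylow_le_inertia l) ?_
    rw [← ht]
    exact (Sylow.smul_subtype hgP t).symm
  refine ⟨_, Sylow.smul_eq_iff_mem_normalizer.1 htg, fun m => ?_⟩
  rw [h, cM_mul, mem_inertia_lin.1 t.2]

theorem exists_rep_constituent [Fintype G] [Fintype M] [IsMulCommutative M]
    (χ : IrrCharacter G) (hodd : Odd (charDegree (χ : G → ℂ))) :
    ∃ c : Quotient (fixS P M), classInner (fun m : M => (χ : G → ℂ) m) (lin c.out.1) ≠ 0 := by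
  obtain ⟨θ, hθ, -, hfix⟩ := exists_fixed_constituent P.2 M χ.2 hodd
  obtain ⟨l, hl⟩ := exists_hom (fun a b => Subtype.ext (setLike_mul_comm a.2 b.2)) θ
  have hlθ : lin l = (θ : M → ℂ) := funext fun m => (hl m).symm
  let l₀ : FixL P M := ⟨l, fun x hx m => Units.ext (by
    rw [← hlθ] at hfix
    exact congrFun (hfix x hx) m)⟩
  obtain ⟨n, -, hn⟩ := Quotient.exact (Quotient.out_eq (Quotient.mk (fixS P M) l₀))
  refine ⟨Quotient.mk _ l₀, ?_⟩
  rw [← Clifford.classInner_res_conjFun M (Char.IsIrrCharacter.isClassFunction χ.2) _ n, conjFun_lin]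
  rwa [show (fun m => ((Quotient.mk (fixS P M) l₀).out.1 (cM M n m) : ℂ)) = (θ : M → ℂ) from
    funext fun m => by rw [← hn m]; exact (hl m).symm]

/-- The characters of the inertia group over `l`. -/
def Fib (l : FixL P M) (hMP : M ≤ (P : Subgroup G)) [Fintype M] : Type u :=
  {ψ : RealOdd (CharTwist.inertia M (lin l.1)) //
    classInner (fun n : M => (ψ.1.1 : CharTwist.inertia M (lin l.1) → ℂ) ⟨n, sylow_le_inertia l (hMP n.2)⟩) (lin l.1) ≠ 0}

variable (hMP : M ≤ (P : Subgroup G)) (hexp : ∀ m ∈ M, m ^ 2 = 1)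

include hMP hexp

omit hMP in
theorem sign_of_exp (l : M →* ℂˣ) (m : M) : l m * l m = 1 := by
  rw [← map_mul, show m * m = 1 from Subtype.ext (by rw [← sq]; simpa [sq] using hexp m m.2), map_one]

/-- Data inside the inertia group. -/
theorem inertia_data [Finite G] [Fact (Nat.Prime 2)] [Group.IsSolvable G] [Fintype M]
    [Fintype G] (hne : M ≠ ⊥)
    (IH : ∀ (H : Type u) [Group H] [Finite H] [Group.IsSolvable H],
      Nat.card H < Nat.card G → ∀ Q : Sylow 2 H, Claim H Q) (l : FixL P M) :
    ∀ T, T = CharTwist.inertia M (lin l.1) → ∀ hPT : (P : Subgroup G) ≤ T,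
      ∀ [Fintype T], ∃ (hl' : ∀ m : M.subgroupOf T,
          l.1 (Subgroup.subgroupOfEquivOfLe (hMP.trans hPT) m) *
            l.1 (Subgroup.subgroupOfEquivOfLe (hMP.trans hPT) m) = 1),
        (∀ (t : T) (m : M.subgroupOf T),
          l.1 (Subgroup.subgroupOfEquivOfLe (hMP.trans hPT) (cM (M.subgroupOf T) t m)) =
            l.1 (Subgroup.subgroupOfEquivOfLe (hMP.trans hPT) m)) ∧
        Claim (T ⧸ M.subgroupOf T)
          ((P.subtype hPT).mapSurjective (QuotientGroup.mk'_surjective (M.subgroupOf T))) ∧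
        (∀ ψ : IrrCharacter T,
          Over (M.subgroupOf T)
              (l.1.comp (Subgroup.subgroupOfEquivOfLe (hMP.trans hPT)).toMonoidHom) (ψ : T → ℂ) ↔
            classInner (fun n : M => (ψ : T → ℂ) ⟨n, hMP.trans hPT n.2⟩) (lin l.1) ≠ 0) := by
  intro T hT hPT _
  have hMT := hMP.trans hPT
  refine ⟨fun m => sign_of_exp hexp _ _, fun t m => ?_, ?_, fun ψ => ⟨fun h => ?_, fun h m => ?_⟩⟩
  · have ht : (t : G) ∈ CharTwist.inertia M (lin l.1) := hT ▸ t.2
    exact (congrArg l.1 (Subtype.ext rfl)).trans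
      (mem_inertia_lin.1 ht (Subgroup.subgroupOfEquivOfLe hMT m))
  · refine IH _ (lt_of_lt_of_le (card_quotient_lt _ fun h => ?_) (Subgroup.card_le_card_group T)) _
    rw [Subgroup.subgroupOf_eq_bot] at h
    exact hne (disjoint_self.1 (h.mono_right hMT))
  · have h' : (fun n : M => (ψ : T → ℂ) ⟨n, hMT n.2⟩) = (ψ : T → ℂ) 1 • lin l.1 := funext fun n => by
      show (ψ : T → ℂ) _ = (ψ : T → ℂ) 1 * (l.1 n : ℂ)
      exact h ⟨⟨n, hMT n.2⟩, n.2⟩
    rw [h', Char.classInner_smul_left, Char.classInner_irr_self (χ := lin l.1)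
      (Char.isIrrCharacter_linear l.1), mul_one]
    exact Char.IsIrrCharacter.apply_one_ne_zero ψ.2
  · have h1 := Clifford.res_eq_smul_of_fixed M T hMT (θ := lin l.1) (Char.isIrrCharacter_linear l.1)
      (fun t ht => CharTwist.mem_inertia.1 (hT ▸ ht)) ψ.2 h
    have h2 := congrFun h1 (Subgroup.subgroupOfEquivOfLe hMT m)
    have h3 := congrFun h1 1
    simp only [Pi.smul_apply, smul_eq_mul, lin, map_one, Units.val_one, mul_one] at h2 h3
    rw [show (ψ : T → ℂ) 1 = _ from h3]
    exact h2

variable [Finite G] [Fact (Nat.Prime 2)] [Group.IsSolvable G] (hne : M ≠ ⊥)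
  (IH : ∀ (H : Type u) [Group H] [Finite H] [Group.IsSolvable H],
    Nat.card H < Nat.card G → ∀ Q : Sylow 2 H, Claim H Q)

include hne IH

theorem card_fib [Fintype M] (l : FixL P M) :
    Nat.card (Fib l hMP) =
      Nat.card (Orb (P : Subgroup G) fun δ => ∀ m : M, δ.1 ⟨m, hMP m.2⟩ = l.1 m) := by
  have := Fintype.ofFinite G
  have := Fintype.ofFinite (CharTwist.inertia M (lin l.1))
  obtain ⟨hl', hinv, hC, hov⟩ := inertia_data hMP hexp hne IH l _ rfl (sylow_le_inertia l)
  set T := CharTwist.inertia M (lin l.1) with hT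
  let i := Subgroup.subgroupOfEquivOfLe (hMP.trans (sylow_le_inertia l))
  let l' : M.subgroupOf T →* ℂˣ := l.1.comp i.toMonoidHom
  have hMP' : M.subgroupOf T ≤ ((P.subtype (sylow_le_inertia l) : Sylow 2 T) : Subgroup T) :=
    fun x hx => hMP hx
  have h := fibre_count (P.subtype (sylow_le_inertia l)) (M.subgroupOf T) hMP' l' hl' hinv hC
  rw [show Nat.card (Fib l hMP) = Nat.card {ψ : RealOdd T // Over (M.subgroupOf T) l' (ψ.1 : T → ℂ)}
    from Nat.card_congr (Equiv.subtypeEquivRight fun ψ => (hov ψ.1).symm), h]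
  symm
  refine card_orb_subgroupOf (P : Subgroup G) T (sylow_le_inertia l) _ _ (fun δ δ' hδ => ?_) ?_
  · constructor
    · intro h1 m
      exact (hδ _).trans (h1 (i m))
    · intro h1 m
      have h2 := h1 ⟨⟨m, hMP.trans (sylow_le_inertia l) m.2⟩, m.2⟩
      exact (hδ _).symm.trans h2
  · intro δ δ' hδ hδ' n hn
    refine mem_inertia_lin.2 fun m => ?_
    rw [← hδ (cM M n m), ← hδ' m, hn]
    exact congrArg δ.1 (Subtype.ext rfl)

theorem claim_of_two [IsMulCommutative M] : Claim G P where
  count := by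
    have := Fintype.ofFinite G
    have := Fintype.ofFinite M
    have := finite_dual (P : Subgroup G)
    have : Finite (FixL P M) := Finite.of_injective (fun l : FixL P M => fun m : M =>
      (⟨l.1 m, (mem_rootsOfUnity 2 _).2 (by rw [sq]; exact sign_of_exp hexp l.1 m)⟩ : rootsOfUnity 2 ℂ))
      fun a b h => Subtype.ext (MonoidHom.ext fun m => congrArg Subtype.val (congrFun h m))
    let res : Dual (P : Subgroup G) → FixL P M := fun δ =>
      ⟨δ.1.comp (Subgroup.inclusion hMP), fun x hx m => by
        show δ.1 ⟨(cM M x m : G), _⟩ = δ.1 ⟨m, hMP m.2⟩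
        rw [show (⟨(cM M x m : G), hMP (cM M x m).2⟩ : ↥(P : Subgroup G)) =
          ⟨x, hx⟩ * ⟨m, hMP m.2⟩ * ⟨x, hx⟩⁻¹ from rfl, map_mul, map_mul, map_inv,
          mul_comm (δ.1 ⟨x, hx⟩), mul_inv_cancel_right]⟩
    have hrel : ∀ δ δ', (orbS (P : Subgroup G)).r δ δ' → (fixS P M).r (res δ) (res δ') := by
      rintro δ δ' ⟨n, hn⟩
      exact ⟨n, n.2, fun m => (hn ⟨m, hMP m.2⟩).trans (congrArg δ.1 (Subtype.ext rfl))⟩
    rw [card_orb_sigma (P : Subgroup G) (fun δ => Quotient.mk (fixS P M) (res δ))
      (fun δ δ' h => Quotient.sound (hrel δ δ'  h))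
      (fun c δ => ∀ m : M, δ.1 ⟨m, hMP m.2⟩ = c.out.1 m)
      (fun c δ h => by
        rw [show res δ = c.out from Subtype.ext (MonoidHom.ext h), Quotient.out_eq])
      (fun δ => by
        obtain ⟨n, hn, h⟩ := (fixS P M).iseqv.symm
          (Quotient.exact (Quotient.out_eq (Quotient.mk (fixS P M) (res δ))))
        refine ⟨⟨δ.1.comp
          { toFun := cN (P : Subgroup G) ⟨n, hn⟩
            map_one' := Subtype.ext (by simp [cN])
            map_mul' := fun a b => Subtype.ext (by simp [cN, mul_assoc]) }, fun x => δ.2 _⟩,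
          ⟨⟨n, hn⟩, fun x => rfl⟩, fun m => ?_⟩
        rw [h m]
        exact congrArg δ.1 (Subtype.ext rfl))]
    simp only [← card_fib hMP hexp hne IH]
    have := Fintype.ofFinite (Quotient (fixS P M))
    have hfin : ∀ c : Quotient (fixS P M), Finite (Fib c.out hMP) := fun c => by
      have : Finite (IrrCharacter (CharTwist.inertia M (lin c.out.1))) := inferInstance
      unfold Fib RealOdd
      infer_instance
    rw [finsum_eq_sum_of_fintype, ← Nat.card_sigma]
    symm
    have hirr : ∀ x : Σ c : Quotient (fixS P M), Fib c.out hMP,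
        IsIrrCharacter G (Cfsg.indFun (CharTwist.inertia M (lin x.1.out.1)) x.2.1.1.1) := fun x => by
      have := Fintype.ofFinite (CharTwist.inertia M (lin x.1.out.1))
      exact Clifford.isIrrCharacter_indFun M _ (hMP.trans (sylow_le_inertia x.1.out))
        (θ := lin x.1.out.1) (Char.isIrrCharacter_linear _) (fun g => Iff.rfl) x.2.1.1.2 x.2.2
    have hodd : ∀ x : Σ c : Quotient (fixS P M), Fib c.out hMP,
        Odd (charDegree (Cfsg.indFun (CharTwist.inertia M (lin x.1.out.1)) x.2.1.1.1)) := fun x => by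
      have h : Cfsg.indFun (CharTwist.inertia M (lin x.1.out.1)) x.2.1.1.1 1 = _ :=
        apply_one_eq_charDegree ⟨_, hirr x⟩
      rw [Char.indFun_apply_one, apply_one_eq_charDegree] at h
      have h' : _ * _ = charDegree (Cfsg.indFun (CharTwist.inertia M (lin x.1.out.1)) x.2.1.1.1) := Nat.cast_injective
        (R := ℂ) (by push_cast; exact h)
      rw [← h']
      exact Odd.mul (Nat.not_even_iff_odd.1 fun he => Nat.not_even_iff_odd.2 (sylow_odd_index P)
          (even_iff_two_dvd.2 (dvd_trans (even_iff_two_dvd.1 he)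
            (Subgroup.index_dvd_of_le (sylow_le_inertia x.1.out))))) x.2.1.2.2
    let F : (Σ c : Quotient (fixS P M), Fib c.out hMP) → RealOdd G := fun x =>
      ⟨⟨_, hirr x⟩, (real_iff _).2 (by
        show (fun g => conj (Cfsg.indFun (CharTwist.inertia M (lin x.1.out.1)) x.2.1.1.1 g)) = _
        rw [conj_indFun, (real_iff _).1 x.2.1.2.1]), hodd x⟩
    refine Nat.card_eq_of_bijective F ⟨fun x y hxy => ?_, fun χ => ?_⟩
    · have hover : ∀ z : Σ c : Quotient (fixS P M), Fib c.out hMP,
          classInner (fun m : M => (F z).1.1 m) (lin z.1.out.1) ≠ 0 := by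
        intro z
        have := Fintype.ofFinite (CharTwist.inertia M (lin z.1.out.1))
        obtain ⟨c, ψ⟩ := z
        have hχc : classInner (fun t : CharTwist.inertia M (lin c.out.1) => (F ⟨c, ψ⟩).1.1 t)
            ψ.1.1.1 ≠ 0 := by
          rw [← Char.classInner_conj_symm, ← Char.classInner_indFun _ _ _
            (Char.IsIrrCharacter.isClassFunction (F ⟨c, ψ⟩).1.2)]
          show conj (classInner (Cfsg.indFun (CharTwist.inertia M (lin c.out.1)) ψ.1.1.1) (Cfsg.indFun (CharTwist.inertia M (lin c.out.1)) ψ.1.1.1)) ≠ 0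
          rw [Char.classInner_irr_self (hirr ⟨c, ψ⟩), map_one]
          exact one_ne_zero
        rw [← (Clifford.indFun_eq_of_constituent M _ (hMP.trans (sylow_le_inertia c.out))
          (θ := lin c.out.1) (Char.isIrrCharacter_linear _) (fun g => Iff.rfl) ψ.1.1.2 ψ.2
          (hirr ⟨c, ψ⟩) hχc).2.1]
        exact ψ.2
      have h2 := hover y
      rw [← hxy] at h2
      obtain ⟨g, hg⟩ := Clifford.exists_conjFun_eq M (F x).1.2 (θ := lin x.1.out.1)
        (ψ := lin y.1.out.1) (Char.isIrrCharacter_linear _) (Char.isIrrCharacter_linear _) (hover x) h2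
      have hc : x.1 = y.1 := by
        rw [← Quotient.out_eq x.1, ← Quotient.out_eq y.1]
        exact Quotient.sound (fixS_of_conj _ _ g fun m => Units.ext (congrFun hg m).symm)
      obtain ⟨c, ψ⟩ := x
      obtain ⟨c', ψ'⟩ := y
      subst hc
      have := Fintype.ofFinite (CharTwist.inertia M (lin c.out.1))
      refine congrArg (Sigma.mk c) (Subtype.ext (Subtype.ext (Subtype.ext ?_)))
      exact Clifford.indFun_injective M _ (hMP.trans (sylow_le_inertia c.out))
        (θ := lin c.out.1) (Char.isIrrCharacter_linear _) (fun g => Iff.rfl) ψ.1.1.2 ψ'.1.1.2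
        ψ.2 ψ'.2 (congrArg (fun χ => χ.1.1) hxy)
    · obtain ⟨c, hc⟩ := exists_rep_constituent (P := P) (M := M) χ.1 χ.2.2
      have := Fintype.ofFinite (CharTwist.inertia M (lin c.out.1))
      obtain ⟨ψ, hψ, hind, hψc⟩ := Clifford.exists_indFun_eq M _
        (hMP.trans (sylow_le_inertia c.out)) (θ := lin c.out.1) (Char.isIrrCharacter_linear _)
        (fun g => Iff.rfl) χ.1.2 hc
      have hψne : classInner (fun n : M => ψ ⟨n, sylow_le_inertia c.out (hMP n.2)⟩)
          (lin c.out.1) ≠ 0 := by rw [hψc]; exact hc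
      have hreal := real_of_indFun M _ (hMP.trans (sylow_le_inertia c.out))
        (sign_of_exp hexp c.out.1) (fun g => Iff.rfl) hψ hψne (by rw [hind]; exact χ.2.1)
      have hψodd : Odd (charDegree ψ) := by
        have h := congrFun hind 1
        rw [Char.indFun_apply_one, apply_one_eq_charDegree,
          show ψ 1 = _ from apply_one_eq_charDegree ⟨ψ, hψ⟩] at h
        have h' : _ * charDegree ψ = charDegree (χ.1 : G → ℂ) := Nat.cast_injective
          (R := ℂ) (by push_cast; exact h)
        exact (Nat.odd_mul.1 (h' ▸ χ.2.2)).2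
      exact ⟨⟨c, ⟨⟨⟨ψ, hψ⟩, hreal, hψodd⟩, hψne⟩⟩, Subtype.ext (Subtype.ext hind)⟩
  all_real := by
    intro hN hQ χ hodd g
    have := Fintype.ofFinite G
    have := Fintype.ofFinite M
    obtain ⟨c, hc⟩ := exists_rep_constituent (P := P) (M := M) χ hodd
    set T := CharTwist.inertia M (lin c.out.1) with hT
    have := Fintype.ofFinite T
    obtain ⟨hl', hinv, hC, hov⟩ := inertia_data hMP hexp hne IH c.out T hT (sylow_le_inertia c.out)
    obtain ⟨ψ, hψ, hind, hψc⟩ := Clifford.exists_indFun_eq M T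
      (hMP.trans (sylow_le_inertia c.out)) (θ := lin c.out.1) (Char.isIrrCharacter_linear _)
      (fun g => Iff.rfl) χ.2 hc
    have hreal := fibre_all_real (P.subtype (sylow_le_inertia c.out)) (M.subgroupOf T)
      (fun x hx => hMP hx) _ hl' hinv hC ?_ ?_ ⟨ψ, hψ⟩ ?_ ((hov ⟨ψ, hψ⟩).2 (by rw [hψc]; exact hc))
    · rw [← hind]
      refine (real_iff _).2 ?_ g
      rw [conj_indFun, (real_iff _).1 hreal]
    · refine le_antisymm (fun n hn => ?_) Subgroup.le_normalizer
      have h1 : (n : G) ∈ Subgroup.normalizer ((P : Subgroup G) : Set G) := by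
        rw [Subgroup.mem_normalizer_iff]
        intro y
        constructor
        · intro hy
          exact (Subgroup.mem_normalizer_iff.1 hn ⟨y, sylow_le_inertia c.out hy⟩).1 hy
        · intro hy
          have hyT : y ∈ T := by
            have := T.mul_mem (T.mul_mem (T.inv_mem n.2) (sylow_le_inertia c.out hy)) n.2
            simpa [mul_assoc] using this
          exact (Subgroup.mem_normalizer_iff.1 hn ⟨y, hyT⟩).2 hy
      rw [hN] at h1
      exact h1
    · exact hQ.of_surjective (Subgroup.subgroupOfEquivOfLe (sylow_le_inertia c.out)).symm.toMonoidHom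
        (Subgroup.subgroupOfEquivOfLe (sylow_le_inertia c.out)).symm.surjective
    · have h := congrFun hind 1
      rw [Char.indFun_apply_one, apply_one_eq_charDegree,
        show ψ 1 = _ from apply_one_eq_charDegree ⟨ψ, hψ⟩] at h
      have h' : _ * charDegree ψ = charDegree (χ : G → ℂ) := Nat.cast_injective
        (R := ℂ) (by push_cast; exact h)
      exact (Nat.odd_mul.1 (h' ▸ hodd)).2
  conv := by
    intro hall
    have := Fintype.ofFinite G
    have := Fintype.ofFinite M
    obtain ⟨hN', -⟩ := (IH (G ⧸ M) (card_quotient_lt M hne)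
      (P.mapSurjective (QuotientGroup.mk'_surjective M))).conv (inflate_real M hall)
    refine ⟨fun n hn => ?_, fun δ => ?_⟩
    · have h1 : QuotientGroup.mk' M n ∈
          (Subgroup.normalizer ((P : Subgroup G) : Set G)).map (QuotientGroup.mk' M) :=
        Subgroup.mem_map_of_mem _ hn
      rw [map_normalizer_sylow _ (QuotientGroup.mk'_surjective M) P] at h1
      obtain ⟨x, hx, hxn⟩ := hN' h1
      have h3 := Subgroup.mul_mem _ hx (hMP (QuotientGroup.eq.1 hxn))
      rwa [mul_inv_cancel_left] at h3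
    · let l : FixL P M := ⟨δ.comp (Subgroup.inclusion hMP), fun x hx m => by
        show δ ⟨(cM M x m : G), _⟩ = δ ⟨m, hMP m.2⟩
        rw [show (⟨(cM M x m : G), hMP (cM M x m).2⟩ : ↥(P : Subgroup G)) =
          ⟨x, hx⟩ * ⟨m, hMP m.2⟩ * ⟨x, hx⟩⁻¹ from rfl, map_mul, map_mul, map_inv,
          mul_comm (δ ⟨x, hx⟩), mul_inv_cancel_right]⟩
      set T := CharTwist.inertia M (lin l.1) with hT
      have := Fintype.ofFinite T
      obtain ⟨hl', hinv, hC, hov⟩ := inertia_data hMP hexp hne IH l T hT (sylow_le_inertia l)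
      have h := fibre_conv (P.subtype (sylow_le_inertia l)) (M.subgroupOf T)
        (fun x hx => hMP hx) _ hl' hinv hC (fun ψ hψ hover => by
          have hψc := (hov ψ).1 hover
          have hirr := Clifford.isIrrCharacter_indFun M T (hMP.trans (sylow_le_inertia l))
            (θ := lin l.1) (Char.isIrrCharacter_linear _) (fun g => Iff.rfl) ψ.2 hψc
          refine real_of_indFun M T (hMP.trans (sylow_le_inertia l)) (sign_of_exp hexp l.1)
            (fun g => Iff.rfl) ψ.2 hψc (hall ⟨_, hirr⟩ ?_)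
          have h : Cfsg.indFun T (ψ : T → ℂ) 1 = _ := apply_one_eq_charDegree ⟨_, hirr⟩
          rw [Char.indFun_apply_one, apply_one_eq_charDegree] at h
          have h' : T.index * charDegree (ψ : T → ℂ) = charDegree (Cfsg.indFun T (ψ : T → ℂ)) :=
            Nat.cast_injective (R := ℂ) (by push_cast; exact h)
          rw [← h']
          exact Odd.mul (Nat.not_even_iff_odd.1 fun he => Nat.not_even_iff_odd.2 (sylow_odd_index P)
            (even_iff_two_dvd.2 (dvd_trans (even_iff_two_dvd.1 he)
              (Subgroup.index_dvd_of_le (sylow_le_inertia l))))) hψ)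
        (δ.comp (Subgroup.subgroupOfEquivOfLe (sylow_le_inertia l)).toMonoidHom) (fun m => rfl)
      intro x
      obtain ⟨y, rfl⟩ := (Subgroup.subgroupOfEquivOfLe (sylow_le_inertia l)).surjective x
      exact h y

end TwoCase

/-- The claim holds in every finite solvable group. -/
theorem claim (G : Type u) [Group G] [Finite G] [Group.IsSolvable G] (P : Sylow 2 G) : Claim G P := by
  suffices h : ∀ n, ∀ (G : Type u) [Group G] [Finite G] [Group.IsSolvable G],
      Nat.card G = n → ∀ P : Sylow 2 G, Claim G P from h _ G rfl P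
  intro n
  induction n using Nat.strong_induction_on with
  | _ n ih =>
    intro G _ _ _ hn P
    have : Fact (Nat.Prime 2) := ⟨Nat.prime_two⟩
    rcases subsingleton_or_nontrivial G with hs | hs
    · exact claim_trivial P
    obtain ⟨M, hMn, hMne, -, hmin⟩ :=
      CfsgLib.Solvable.exists_minimal_normal_le (⊤ : Subgroup G) top_ne_bot
    obtain ⟨hcomm, q, hq, hpow⟩ := CfsgLib.Solvable.minimal_normal_elementary_abelian M hMne hmin
    have IH : ∀ (H : Type u) [Group H] [Finite H] [Group.IsSolvable H],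
        Nat.card H < Nat.card G → ∀ Q : Sylow 2 H, Claim H Q := fun H _ _ _ hlt =>
      ih _ (hn ▸ hlt) H rfl
    have : Fact q.Prime := ⟨hq⟩
    have hqM : IsPGroup q M := fun m => ⟨1, Subtype.ext (by simpa using hpow m m.2)⟩
    rcases eq_or_ne q 2 with rfl | h2
    · exact claim_of_two (AbPSq.normal_pgroup_le P hqM) hpow hMne IH
    · obtain ⟨k, hk⟩ := IsPGroup.iff_card.1 hqM
      exact claim_of_odd P M (hk ▸ (hq.odd_of_ne_two h2).pow) (IH _ (card_quotient_lt M hMne) _)

end CfsgLib.RealOdd2
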