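import Cfsg.Agent.Lib.BlockPrincipal.RealOddBasic
import Cfsg.Agent.Lib.BlockPrincipal.RealOddOrbit
import Cfsg.Agent.Lib.Char.Clifford
import Cfsg.Agent.Lib.CharTools.Basic

/-!
# Real characters of odd degree over a character of a normal subgroup
-/

set_option autoImplicit false
set_option maxHeartbeats 1000000

namespace CfsgLib.RealOdd2

open Cfsg CfsgLib
open scoped Classical ComplexConjugate

universe u

variable {G : Type u} [Group G]

/-- All sign conditions on a group. -/
def Q2 (P : Type u) [Group P] : Prop := ∀ δ : P →* ℂˣ, ∀ x, δ x * δ x = 1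

theorem Q2.of_surjective {P P' : Type u} [Group P] [Group P'] (h : Q2 P) (π : P →* P')
    (hπ : Function.Surjective π) : Q2 P' := by
  intro δ y
  obtain ⟨x, rfl⟩ := hπ y
  exact h (δ.comp π) x

theorem finite_dual [Finite G] (P : Subgroup G) : Finite (Dual P) := by
  refine Finite.of_injective (fun δ : Dual P => fun x : P =>
    (⟨δ.1 x, (mem_rootsOfUnity 2 _).2 (by rw [sq]; exact δ.2 x)⟩ : rootsOfUnity 2 ℂ)) fun a b h => ?_
  exact Subtype.ext (MonoidHom.ext fun x => congrArg Subtype.val (congrFun h x))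

theorem sign_real {μ : ℂˣ} (h : μ * μ = 1) : conj (μ : ℂ) = μ := by
  have h' : (μ : ℂ) * μ = 1 := by rw [← Units.val_mul, h, Units.val_one]
  rcases mul_self_eq_one_iff.1 h' with h1 | h1 <;> simp [h1]

/-- A sign of a group of odd order is trivial. -/
theorem sign_odd_card [Finite G] (hodd : Odd (Nat.card G)) (f : G →* ℂˣ) (h : ∀ x, f x * f x = 1)
    (x : G) : f x = 1 := by
  have h1 : f x ^ Nat.card G = 1 := by rw [← map_pow, pow_card_eq_one', map_one]
  obtain ⟨k, hk⟩ := hodd
  rwa [hk, pow_succ, pow_mul, sq, h, one_pow, one_mul] at h1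

/-- Conjugation on a normal subgroup. -/
def cM (M : Subgroup G) [hM : M.Normal] (g : G) (m : M) : M :=
  ⟨g * m * g⁻¹, hM.conj_mem m m.2 g⟩

theorem cM_one (M : Subgroup G) [M.Normal] (m : M) : cM M 1 m = m := Subtype.ext (by simp [cM])

theorem cM_mul (M : Subgroup G) [M.Normal] (a b : G) (m : M) :
    cM M (a * b) m = cM M a (cM M b m) := Subtype.ext (by simp [cM, mul_assoc])

/-- The character lies over a linear character of a normal subgroup, and is homogeneous there. -/
def Over (M : Subgroup G) (l : M →* ℂˣ) (χ : G → ℂ) : Prop := ∀ m : M, χ m = χ 1 * (l m : ℂ)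

/-- A linear character as a function. -/
def lin {M : Type u} [Group M] (l : M →* ℂˣ) : M → ℂ := fun m => (l m : ℂ)

theorem lin_injective {M : Type u} [Group M] {l l' : M →* ℂˣ} (h : lin l = lin l') : l = l' :=
  MonoidHom.ext fun m => Units.ext (congrFun h m)

theorem conjFun_lin (M : Subgroup G) [M.Normal] (l : M →* ℂˣ) (g : G) :
    CharTwist.conjFun M (lin l) g = fun m => (l (cM M g m) : ℂ) := rfl

theorem mem_inertia_lin {M : Subgroup G} [M.Normal] {l : M →* ℂˣ} {g : G} :
    g ∈ CharTwist.inertia M (lin l) ↔ ∀ m : M, l (cM M g m) = l m := by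
  rw [CharTwist.mem_inertia]
  exact ⟨fun h m => Units.ext (congrFun h m), fun h => funext fun m => congrArg Units.val (h m)⟩

theorem classInner_lin_of_over [Fintype G] (M : Subgroup G) [Fintype M] {l : M →* ℂˣ} {χ : G → ℂ}
    (h : Over M l χ) : classInner (fun m : M => χ m) (lin l) = χ 1 := by
  rw [show (fun m : M => χ m) = χ 1 • lin l from funext h, Char.classInner_smul_left,
    Char.classInner_irr_self (χ := lin l) (Char.isIrrCharacter_linear l), mul_one]

theorem over_of_constituent [Fintype G] (M : Subgroup G) [M.Normal] [Fintype M] {l : M →* ℂˣ}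
    (hinv : ∀ g m, l (cM M g m) = l m) {χ : G → ℂ} (hχ : IsIrrCharacter G χ)
    (h : classInner (fun m : M => χ m) (lin l) ≠ 0) : Over M l χ := by
  have hl : IsIrrCharacter M (lin l) := Char.isIrrCharacter_linear l
  have horb : Clifford.orbit M (lin l) = {lin l} := by
    ext f
    rw [Clifford.mem_orbit, Finset.mem_singleton]
    constructor
    · rintro ⟨g, rfl⟩; exact CharTwist.mem_inertia.1 (mem_inertia_lin.2 (hinv g))
    · rintro rfl; exact ⟨1, CharTwist.conjFun_one _ _⟩
  have hres := Clifford.res_eq M hχ hl h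
  rw [horb, Finset.sum_singleton] at hres
  intro m
  have h1 := congrFun hres 1
  have h2 := congrFun hres m
  simp only [Pi.smul_apply, smul_eq_mul, lin, OneMemClass.coe_one, map_one, Units.val_one,
    mul_one] at h1 h2
  rw [h2, ← h1]

/-- The restriction of a character with a trivial constituent is trivial. -/
theorem trivial_of_constituent_one [Fintype G] (M : Subgroup G) [M.Normal] [Fintype M]
    {χ : G → ℂ} (hχ : IsIrrCharacter G χ)
    (h : classInner (fun m : M => χ m) (lin (1 : M →* ℂˣ)) ≠ 0) :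
    ∀ n ∈ M, χ n = χ 1 := by
  intro n hn
  have := over_of_constituent M (fun _ _ => rfl) hχ h ⟨n, hn⟩
  simpa using this

/-- Twist by a sign character. -/
theorem isIrrCharacter_mul_sign [Fintype G] {χ : G → ℂ} (hχ : IsIrrCharacter G χ) (μ : G →* ℂˣ)
    (hμ : ∀ g, μ g * μ g = 1) : IsIrrCharacter G (fun g => χ g * (μ g : ℂ)) := by
  have hc : IsCharacter G (fun g => χ g * (μ g : ℂ)) :=
    Char.IsCharacter.mul (Char.IsIrrCharacter.isCharacter hχ)
      (Char.IsIrrCharacter.isCharacter (Char.isIrrCharacter_linear μ))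
  refine Char.IsCharacter.isIrrCharacter_of_classInner_self hc ?_
  rw [← Char.classInner_irr_self hχ]
  unfold classInner
  congr 1
  refine Finset.sum_congr rfl fun g _ => ?_
  have h' : (μ g : ℂ) * μ g = 1 := by rw [← Units.val_mul, hμ, Units.val_one]
  rw [map_mul, sign_real (hμ g)]
  linear_combination χ g * conj (χ g) * h'

/-- Real characters of odd degree of a quotient. -/
theorem card_realOdd_quotient [Finite G] (M : Subgroup G) [M.Normal] :
    Nat.card (RealOdd (G ⧸ M)) =
      Nat.card {χ : RealOdd G // ∀ n ∈ M, (χ.1 : G → ℂ) n = (χ.1 : G → ℂ) 1} := by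
  refine Nat.card_congr (Equiv.trans ((CharTools.quotientEquiv M).subtypeEquiv
    (q := fun χ => (∀ g : G, ((χ.1 : G → ℂ) g).im = 0) ∧ Odd (charDegree (χ.1 : G → ℂ)))
    fun ψ => ?_) ?_)
  · constructor
    · exact fun h => ⟨fun g => h.1 _, h.2⟩
    · refine fun h => ⟨fun y => ?_, h.2⟩
      obtain ⟨g, rfl⟩ := QuotientGroup.mk_surjective y
      exact h.1 g
  · exact
      { toFun := fun x => ⟨⟨x.1.1, x.2⟩, x.1.2⟩
        invFun := fun x => ⟨⟨x.1.1, x.2⟩, x.1.2⟩
        left_inv := fun x => rfl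
        right_inv := fun x => rfl }

/-- A subgroup of odd index contains a conjugate of every `2`-subgroup. -/
theorem exists_conj_le_of_odd_index [Finite G] {P : Subgroup G} (hP : IsPGroup 2 P)
    (T : Subgroup G) (hodd : Odd T.index) : ∃ g : G, ∀ x ∈ P, g * x * g⁻¹ ∈ T := by
  have : Fact (Nat.Prime 2) := ⟨Nat.prime_two⟩
  obtain ⟨q, hq⟩ := hP.nonempty_fixed_point_of_prime_not_dvd_card (G ⧸ T)
    (fun h => Nat.not_even_iff_odd.2 hodd (even_iff_two_dvd.2 h))
  obtain ⟨g, rfl⟩ := QuotientGroup.mk_surjective q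
  refine ⟨g⁻¹, fun x hx => ?_⟩
  have h := hq ⟨x, hx⟩
  have h' : ((x * g : G) : G ⧸ T) = (g : G ⧸ T) := h
  rw [eq_comm, QuotientGroup.eq] at h'
  simpa [mul_assoc] using h'

/-- A character of odd degree has a constituent fixed by a given `2`-subgroup. -/
theorem exists_fixed_constituent [Fintype G] {P : Subgroup G} (hP : IsPGroup 2 P)
    (M : Subgroup G) [M.Normal] [Fintype M] {χ : G → ℂ} (hχ : IsIrrCharacter G χ)
    (hodd : Odd (charDegree χ)) :
    ∃ θ : IrrCharacter M, classInner (fun m : M => χ m) (θ : M → ℂ) ≠ 0 ∧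
      Odd (charDegree (θ : M → ℂ)) ∧
      ∀ x ∈ P, CharTwist.conjFun M (θ : M → ℂ) x = θ := by
  obtain ⟨θ, hθ, hθc⟩ := Clifford.exists_constituent_res M hχ
  obtain ⟨k, hk⟩ := Char.IsCharacter.exists_nat_classInner
    (Clifford.isCharacter_res (Char.IsIrrCharacter.isCharacter hχ) M) hθ
  have h := Clifford.apply_one_eq M hχ hθ hθc
  rw [hk, show χ 1 = (charDegree χ : ℂ) from apply_one_eq_charDegree ⟨χ, hχ⟩,
    show θ 1 = (charDegree θ : ℂ) from apply_one_eq_charDegree ⟨θ, hθ⟩] at h
  have h' : charDegree χ = k * (CharTwist.inertia M θ).index * charDegree θ := by exact_mod_cast h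
  rw [h', Nat.odd_mul, Nat.odd_mul] at hodd
  obtain ⟨g, hg⟩ := exists_conj_le_of_odd_index hP _ hodd.1.2
  refine ⟨⟨CharTwist.conjFun M θ g, CharTwist.isIrrCharacter_conjFun M hθ g⟩, ?_, ?_, fun x hx => ?_⟩
  · rw [Clifford.classInner_res_conjFun M (Char.IsIrrCharacter.isClassFunction hχ) θ g]
    exact hθc
  · show Odd ⌊(CharTwist.conjFun M θ g 1).re⌋₊
    have : CharTwist.conjFun M θ g 1 = θ 1 := congrArg θ (Subtype.ext (by simp))
    rw [this]
    exact hodd.2
  · have h1 := CharTwist.mem_inertia.1 (hg x hx)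
    show CharTwist.conjFun M (CharTwist.conjFun M θ g) x = CharTwist.conjFun M θ g
    rw [← CharTwist.conjFun_mul, show g * x = g * x * g⁻¹ * g by simp,
      CharTwist.conjFun_mul, h1]

/-- A real character of odd degree is trivial on an abelian normal subgroup of odd order. -/
theorem realOdd_trivial_of_odd [Fintype G] (M : Subgroup G) [M.Normal] [IsMulCommutative M]
    (hM : Odd (Nat.card M)) (χ : RealOdd G) : ∀ n ∈ M, (χ.1 : G → ℂ) n = (χ.1 : G → ℂ) 1 := by
  obtain ⟨φ, hφ, -, hfix⟩ := exists_real_constituent (ξ := fun m : M => (χ.1 : G → ℂ) m)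
    (Clifford.isCharacter_res (Char.IsIrrCharacter.isCharacter χ.1.2) M)
    (funext fun m => congrFun ((real_iff _).1 χ.2.1) (m : G))
    (show (χ.1 : G → ℂ) ((1 : M) : G) = _ by rw [OneMemClass.coe_one]; exact apply_one_eq_charDegree χ.1)
    χ.2.2
  obtain ⟨f, hf⟩ := exists_hom (fun a b => Subtype.ext (setLike_mul_comm a.2 b.2)) φ
  have h1 : f = 1 := MonoidHom.ext fun m =>
    sign_odd_card hM f (mul_self_of_real f fun x => by rw [← hf]; exact hfix x) m
  refine trivial_of_constituent_one M χ.1.2 ?_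
  rwa [← h1, show lin f = (φ : M → ℂ) from funext fun m => (hf m).symm]

/-- Induction from the inertia group reflects real values. -/
theorem real_of_indFun [Fintype G] (M T : Subgroup G) [M.Normal] [Fintype M] [Fintype T]
    (hMT : M ≤ T) {l : M →* ℂˣ} (hl : ∀ m, l m * l m = 1)
    (hT : ∀ g : G, g ∈ T ↔ CharTwist.conjFun M (lin l) g = lin l) {ψ : T → ℂ}
    (hψ : IsIrrCharacter T ψ)
    (hc : classInner (fun n : M => ψ ⟨n, hMT n.2⟩) (lin l) ≠ 0)
    (hreal : ∀ g, (Cfsg.indFun T ψ g).im = 0) : ∀ t, (ψ t).im = 0 := by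
  have hl' : IsIrrCharacter M (lin l) := Char.isIrrCharacter_linear l
  have h1 : classInner (fun n : M => conj (ψ ⟨n, hMT n.2⟩)) (lin l) =
      conj (classInner (fun n : M => ψ ⟨n, hMT n.2⟩) (lin l)) := by
    unfold classInner
    rw [map_mul, map_inv₀, map_natCast, map_sum]
    congr 1
    refine Finset.sum_congr rfl fun m _ => ?_
    rw [map_mul, Complex.conj_conj, lin, sign_real (hl m)]
  refine (real_iff ψ).2 (Clifford.indFun_injective M T hMT hl' hT
    (CharTwist.isIrrCharacter_conj hψ) hψ (by rw [h1]; exact (map_ne_zero _).2 hc) hc ?_)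
  rw [← conj_indFun]
  exact (real_iff _).1 hreal

end CfsgLib.RealOdd2
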