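import Cfsg.Agent.Lib.BlockPrincipal.SmallDefect

/-!
# An element of order `p` whose centralizer has Sylow subgroups of order `p ^ 2`
-/

set_option autoImplicit false

open Cfsg CfsgLib.BlockReg CfsgLib.BlockPrincipal CfsgLib.BlockRank
open scoped ComplexConjugate
open Matrix

namespace CfsgLib.SmallDefect

universe u

variable {G : Type u} [Group G] {p : ℕ} {M : Ideal Cfsg.AlgInt}

/-- A linear character with prescribed value at a central element of an abelian Sylow subgroup. -/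
theorem exists_linear_separating [Finite G] [hp : Fact p.Prime] (S : Sylow p G)
    (hS : IsMulCommutative S) {x : G} (hx : x ∈ Subgroup.center G) (hox : orderOf x = p) {ζ : ℂ}
    (hζ : IsPrimitiveRoot ζ p) :
    ∃ ψ : G →* ℂˣ, ((ψ x : ℂˣ) : ℂ) = ζ ∧ ∀ g : G, ∃ k : ℕ, ((ψ g : ℂˣ) : ℂ) ^ p ^ k = 1 := by
  classical
  have hxS : x ∈ (S : Subgroup G) := by
    have hn : (Subgroup.zpowers x).Normal := ⟨fun a ha g => by
      rwa [Subgroup.mem_center_iff.1 (Subgroup.zpowers_le.2 hx ha) g, mul_inv_cancel_right]⟩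
    obtain ⟨T, hT⟩ := (IsPGroup.of_card (n := 1) (by rw [Nat.card_zpowers, hox, pow_one] :
      Nat.card (Subgroup.zpowers x) = p ^ 1)).exists_le_sylow
    obtain ⟨g, hg⟩ := MulAction.exists_smul_eq G T S
    have h : g * x * g⁻¹ ∈ (S : Subgroup G) := by
      rw [← hg, Sylow.coe_subgroup_smul]
      exact Subgroup.smul_mem_pointwise_smul x (MulAut.conj g) _ (hT (Subgroup.mem_zpowers x))
    rwa [Subgroup.mem_center_iff.1 hx g, mul_inv_cancel_right] at h
  let _ : CommGroup S := { (inferInstance : Group S) with mul_comm := fun a b => hS.is_comm.comm a b }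
  let τ : G →* S := MonoidHom.transfer (MonoidHom.id (S : Subgroup G))
  have hkey : ∀ (k : ℕ) (g₀ : G), g₀⁻¹ * x ^ k * g₀ ∈ (S : Subgroup G) →
      g₀⁻¹ * x ^ k * g₀ = x ^ k := fun k g₀ _ => by
    rw [Subgroup.mem_center_iff.1 (pow_mem hx k) g₀⁻¹, inv_mul_cancel_right]
  have hτx : τ x = ⟨x ^ (S : Subgroup G).index, MonoidHom.transfer_eq_pow_aux x hkey⟩ :=
    MonoidHom.transfer_eq_pow _ x hkey
  have hne : τ x ≠ 1 := by
    rw [hτx]
    intro h
    have h' : x ^ (S : Subgroup G).index = 1 := congrArg Subtype.val h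
    have h'' := orderOf_dvd_of_pow_eq_one h'
    rw [hox] at h''
    exact S.not_dvd_index h''
  have : NeZero (Monoid.exponent S) := ⟨Monoid.exponent_ne_zero_of_finite⟩
  have : HasEnoughRootsOfUnity ℂ (Monoid.exponent S) := inferInstance
  obtain ⟨φ, hφ⟩ := CommGroup.exists_apply_ne_one_of_hasEnoughRootsOfUnity S ℂ hne
  set w : ℂ := ((φ (τ x) : ℂˣ) : ℂ) with hw
  have hxp : x ^ p = 1 := by
    have := pow_orderOf_eq_one x
    rwa [hox] at this
  have hwp : w ^ p = 1 := by
    rw [hw, ← Units.val_pow_eq_pow_val, ← map_pow, ← map_pow, hxp, map_one,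
      map_one, Units.val_one]
  have hw1 : w ≠ 1 := fun h => hφ (Units.ext h)
  have hwprim : IsPrimitiveRoot w p := IsPrimitiveRoot.iff_orderOf.2 (orderOf_eq_prime hwp hw1)
  have : NeZero p := ⟨hp.out.ne_zero⟩
  obtain ⟨a, -, ha⟩ := hwprim.eq_pow_of_pow_eq_one hζ.pow_eq_one
  refine ⟨(φ.comp τ) ^ a, by simpa [hw] using ha, fun g => ?_⟩
  obtain ⟨k, hk⟩ := IsPGroup.iff_orderOf.1 S.isPGroup' (τ g ^ a)
  refine ⟨k, ?_⟩
  have h : ((φ.comp τ) ^ a) g = φ (τ g ^ a) := by simp
  rw [h, ← Units.val_pow_eq_pow_val, ← map_pow, ← hk, pow_orderOf_eq_one, map_one, Units.val_one]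

/-- A `p`-power valued linear character is trivial on the regular elements. -/
theorem linear_eq_one_of_regular [Finite G] [hp : Fact p.Prime] (ψ : G →* ℂˣ)
    (hψ : ∀ g : G, ∃ k : ℕ, ((ψ g : ℂˣ) : ℂ) ^ p ^ k = 1) {s : G} (hs : Cfsg.IsPRegular p s) :
    ((ψ s : ℂˣ) : ℂ) = 1 := by
  obtain ⟨k, hk⟩ := hψ s
  have h1 : ((ψ s : ℂˣ) : ℂ) ^ orderOf s = 1 := by
    rw [← Units.val_pow_eq_pow_val, ← map_pow, pow_orderOf_eq_one, map_one, Units.val_one]
  have hco : Nat.Coprime (p ^ k) (orderOf s) :=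
    Nat.Coprime.pow_left k ((hp.out.coprime_iff_not_dvd).2 hs)
  have := pow_gcd_eq_one.2 ⟨hk, h1⟩
  rwa [hco, pow_one] at this

/-- Twisting by a `p`-power valued linear character preserves blocks. -/
theorem sameBlock_twist [Finite G] (hM : IsPModular p M) (ψ : G →* ℂˣ)
    (hψ : ∀ g : G, ∃ k : ℕ, ((ψ g : ℂˣ) : ℂ) ^ p ^ k = 1) (φ : IrrCharacter G) :
    SameBlock M (φ : G → ℂ) (fun g => ((ψ g : ℂˣ) : ℂ) * (φ : G → ℂ) g) := by
  intro g
  obtain ⟨k, hk⟩ := hψ g
  have h := memIdeal_mul_left hM (memRing_centralChar hM φ g)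
    (memIdeal_neg (root_sub_one_memIdeal hM hk))
  convert h using 1
  simp only [Cfsg.centralChar, map_one, Units.val_one, one_mul]
  ring

variable [Fintype G] {C : Subgroup G} [Fintype C] {x : G}

/-- The case of order `p` and centralizer `p`-part `p ^ 2`. -/
theorem card_le_of_order_prime [Fact p.Prime] (hM : IsPModular p M)
    (hC : C = Subgroup.centralizer {x}) (hx : orderOf x = p)
    (hfac : (Nat.card C).factorization p = 2) :
    Nat.card {χ : IrrCharacter G // χ ∈ principalBlock M G ∧ ¬ p ∣ charDegree (χ : G → ℂ)} ≤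
      p ^ 2 := by
  classical
  have hp : p.Prime := Fact.out
  have hp0 : (p : ℂ) ≠ 0 := Nat.cast_ne_zero.mpr hp.ne_zero
  have hpZ : (0 : ℤ) < p := by exact_mod_cast hp.pos
  have hC0 : (Nat.card C : ℂ) ≠ 0 := Nat.cast_ne_zero.mpr Nat.card_pos.ne'
  let ζ := Complex.exp (2 * Real.pi * Complex.I / (p : ℕ))
  have hζ : IsPrimitiveRoot ζ p := Complex.isPrimitiveRoot_exp _ hp.ne_zero
  obtain ⟨D⟩ := exists_data (p := p) (ζ := ζ) hC (by rw [hx]; exact hζ)
  obtain ⟨z, hz⟩ := exists_zmat hM C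
  rw [hfac] at hz
  set R := regSet (G := C) p with hR
  set xC : C := ⟨x, D.xmem⟩ with hxC
  -- the linear character
  obtain ⟨S⟩ : Nonempty (Sylow p C) := inferInstance
  have hScomm : IsMulCommutative S := by
    have hcard : Nat.card S = p ^ 2 := by rw [S.card_eq_multiplicity, hfac]
    exact ⟨⟨IsPGroup.commutative_of_card_eq_prime_sq hcard⟩⟩
  have hxc : xC ∈ Subgroup.center C := by
    rw [Subgroup.mem_center_iff]
    exact fun g => Subtype.ext (Subgroup.mem_centralizer_singleton_iff.mp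
      (hC ▸ g.2 : (g : G) ∈ Subgroup.centralizer {x}))
  obtain ⟨ψ, hψx, hψp⟩ := exists_linear_separating S hScomm hxc
    (by rw [hxC, Subgroup.orderOf_mk, hx]) hζ
  have hψpow : ∀ (j : ℕ) (g : C), ∃ k : ℕ, (((ψ ^ j) g : ℂˣ) : ℂ) ^ p ^ k = 1 := fun j g => by
    obtain ⟨k, hk⟩ := hψp g
    exact ⟨k, by rw [MonoidHom.pow_apply, Units.val_pow_eq_pow_val, pow_right_comm, hk, one_pow]⟩
  set e : Set (IrrCharacter C) := principalBlock M C with he_def
  have he : IsPBlock M e := isPBlock_principal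
  have := Fintype.ofFinite e
  set one : IrrCharacter C := CfsgLib.Char.principalIrr with hone
  have h1e : one ∈ e := principalIrr_mem hM
  let tw : ℕ → IrrCharacter C → IrrCharacter C := fun j φ =>
    ⟨fun g => (((ψ ^ j) g : ℂˣ) : ℂ) * (φ : C → ℂ) g,
      CfsgLib.Char.IsIrrCharacter.linear_mul φ.2 (ψ ^ j)⟩
  have htw_reg : ∀ j φ, ∀ s ∈ R, (tw j φ : C → ℂ) s = (φ : C → ℂ) s := fun j φ s hs => by
    show (((ψ ^ j) s : ℂˣ) : ℂ) * (φ : C → ℂ) s = _
    rw [linear_eq_one_of_regular _ (hψpow j) (Finset.mem_filter.mp hs).2, one_mul]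
  have htw_e : ∀ j φ, φ ∈ e → tw j φ ∈ e := fun j φ hφ =>
    mem_of_sameBlock hM he hφ (sameBlock_twist hM _ (hψpow j) φ)
  have hζpow : ∀ a b : ℕ, ζ ^ a = ζ ^ b ↔ a % p = b % p := fun a b => by
    exact (IsOfFinOrder.pow_eq_pow_iff_modEq
      (isOfFinOrder_iff_pow_eq_one.2 ⟨p, hp.pos, hζ.pow_eq_one⟩)).trans
      (by rw [Nat.ModEq, ← hζ.eq_orderOf])
  have hdeg : ∀ φ : IrrCharacter C, (φ : C → ℂ) 1 ≠ 0 := fun φ => deg_ne_zero φ
  have hval : ∀ φ : IrrCharacter C, (φ : C → ℂ) xC = ζ ^ D.i φ * (φ : C → ℂ) 1 := fun φ => by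
    have := D.hi φ 1
    rwa [mul_one] at this
  have htw_i : ∀ j φ, D.i (tw j φ) % p = (j + D.i φ) % p := by
    intro j φ
    have h := hval (tw j φ)
    rw [← hζpow, pow_add]
    have h' : (tw j φ : C → ℂ) xC = ζ ^ j * (φ : C → ℂ) xC := by
      show (((ψ ^ j) xC : ℂˣ) : ℂ) * _ = _
      rw [MonoidHom.pow_apply, Units.val_pow_eq_pow_val, hψx]
    have h1 : (tw j φ : C → ℂ) 1 = (φ : C → ℂ) 1 := by
      show (((ψ ^ j) 1 : ℂˣ) : ℂ) * _ = _
      rw [map_one, Units.val_one, one_mul]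
    rw [h', h1, hval, ← mul_assoc] at h
    exact (mul_right_cancel₀ (hdeg φ) h).symm
  let S₀ : Finset (IrrCharacter C) := e.toFinset.filter fun φ => D.i φ % p = 0
  have hS₀e : ∀ φ ∈ S₀, φ ∈ e := fun φ hφ => Set.mem_toFinset.1 (Finset.mem_filter.1 hφ).1
  have hS₀i : ∀ φ ∈ S₀, D.i φ % p = 0 := fun φ hφ => (Finset.mem_filter.1 hφ).2
  have h1S : one ∈ S₀ := by
    refine Finset.mem_filter.2 ⟨Set.mem_toFinset.2 h1e, ?_⟩
    have h := hval one
    simp only [hone, CfsgLib.Char.principalIrr_apply, mul_one] at h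
    rw [hone, ← Nat.zero_mod p, ← hζpow, pow_zero]
    exact h.symm
  have hsum : ∀ F : IrrCharacter C → ℂ, ∑ φ ∈ e.toFinset, F φ =
      ∑ j : Fin p, ∑ θ ∈ S₀, F (tw j θ) := by
    intro F
    rw [← Finset.sum_product']
    refine (Finset.sum_bij (fun (a : Fin p × IrrCharacter C) _ => tw a.1 a.2) ?_ ?_ ?_
      fun a _ => rfl).symm
    · intro a ha
      exact Set.mem_toFinset.2 (htw_e _ _ (hS₀e _ (Finset.mem_product.1 ha).2))
    · rintro ⟨j, θ⟩ ha ⟨j', θ'⟩ ha' h
      replace h : tw j θ = tw j' θ' := h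
      have h1 := htw_i j θ
      rw [h, htw_i, Nat.add_mod, hS₀i _ (Finset.mem_product.1 ha').2, add_zero, Nat.mod_mod,
        Nat.add_mod, hS₀i _ (Finset.mem_product.1 ha).2, add_zero, Nat.mod_mod,
        Nat.mod_eq_of_lt j.2, Nat.mod_eq_of_lt j'.2] at h1
      obtain rfl : j' = j := Fin.ext h1
      refine Prod.ext rfl (Subtype.ext (funext fun g => ?_))
      exact mul_left_cancel₀ (Units.ne_zero ((ψ ^ (j' : ℕ)) g))
        (congrFun (congrArg Subtype.val h) g)
    · intro φ hφ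
      set a := D.i φ % p with ha
      set j := a * (Nat.card C - 1) with hj
      have hja : a + j = a * Nat.card C := by
        have h1 : 1 + (Nat.card C - 1) = Nat.card C := by have := Nat.card_pos (α := C); omega
        rw [hj]
        conv_rhs => rw [← h1, mul_add, mul_one]
      have hj' : (j + D.i φ) % p = 0 := by
        have hpC : p ∣ Nat.card C := Nat.dvd_of_factorization_pos (by rw [hfac]; norm_num)
        refine Nat.mod_eq_zero_of_dvd ?_
        rw [show j + D.i φ = a * Nat.card C + p * (D.i φ / p) by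
          have := Nat.mod_add_div (D.i φ) p; omega]
        exact dvd_add (hpC.mul_left a) (dvd_mul_right p _)
      refine ⟨(⟨a, Nat.mod_lt _ hp.pos⟩, tw j φ), Finset.mem_product.2
        ⟨Finset.mem_univ _, Finset.mem_filter.2
          ⟨Set.mem_toFinset.2 (htw_e _ _ (Set.mem_toFinset.1 hφ)), by rw [htw_i, hj']⟩⟩, ?_⟩
      refine Subtype.ext (funext fun g => ?_)
      show (((ψ ^ a) g : ℂˣ) : ℂ) * ((((ψ ^ j) g : ℂˣ) : ℂ) * _) = _
      rw [← mul_assoc, ← Units.val_mul, ← MonoidHom.mul_apply, ← pow_add, hja,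
        MonoidHom.pow_apply, mul_comm a, pow_mul, ← map_pow, pow_card_eq_one', map_one, one_pow,
        Units.val_one, one_mul]
  -- integer matrix facts
  have hRR : ∀ φ θ : IrrCharacter C, ∑ s ∈ R, (φ : C → ℂ) s * conj ((θ : C → ℂ) s) =
      (Nat.card C : ℂ) / ((p ^ 2 : ℕ) : ℂ) * (z φ θ : ℂ) := by
    intro φ θ
    rw [div_mul_eq_mul_div, eq_div_iff (Nat.cast_ne_zero.mpr (pow_ne_zero _ hp.ne_zero)),
      mul_comm, ← hz, mul_comm]
  have hzsymm : ∀ φ θ, z φ θ = z θ φ := by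
    intro φ θ
    have h : (z φ θ : ℂ) * (Nat.card C : ℂ) = (z θ φ : ℂ) * (Nat.card C : ℂ) := by
      have h' := congrArg conj (hz θ φ)
      simp only [map_mul, map_sum, map_intCast, map_natCast, Complex.conj_conj] at h'
      rw [hz, h']
      exact congrArg _ (Finset.sum_congr rfl fun s _ => mul_comm _ _)
    exact_mod_cast mul_right_cancel₀ hC0 h
  have hztw : ∀ j φ θ, z (tw j φ) θ = z φ θ := by
    intro j φ θ
    have h : (z (tw j φ) θ : ℂ) * (Nat.card C : ℂ) = (z φ θ : ℂ) * (Nat.card C : ℂ) := by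
      rw [hz, hz]
      exact congrArg _ (Finset.sum_congr rfl fun s hs => by rw [htw_reg j φ s hs])
    exact_mod_cast mul_right_cancel₀ hC0 h
  have hproj : ∀ φ ∈ e, ∀ η : IrrCharacter C,
      ∑ θ ∈ e.toFinset, (z φ θ : ℂ) * (z θ η : ℂ) = ((p ^ 2 : ℕ) : ℂ) * (z φ η : ℂ) := by
    intro φ hφ η
    have hexp : ∀ s ∈ R, (φ : C → ℂ) s =
        ∑ θ ∈ e.toFinset, (z φ θ : ℂ) / ((p ^ 2 : ℕ) : ℂ) * (θ : C → ℂ) s := by
      intro s hs
      have h := congrFun (pRegularPart_eq_sum (regClosed_of_isPBlock hM he) hφ) s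
      rw [pRegularPart_apply, if_pos (Finset.mem_filter.mp hs).2, Finset.sum_apply] at h
      rw [h, Finset.sum_subtype e.toFinset (fun _ => Set.mem_toFinset)
        (fun θ : IrrCharacter C => (z φ θ : ℂ) / ((p ^ 2 : ℕ) : ℂ) * (θ : C → ℂ) s)]
      refine Finset.sum_congr rfl fun θ _ => ?_
      rw [Pi.smul_apply, smul_eq_mul]
      congr 1
      rw [classInner, eq_div_iff (Nat.cast_ne_zero.mpr (pow_ne_zero _ hp.ne_zero))]
      have h2 : ∑ g : C, pRegularPart p (φ : C → ℂ) g * conj ((θ.1 : C → ℂ) g) =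
          ∑ s ∈ R, (φ : C → ℂ) s * conj ((θ.1 : C → ℂ) s) := by
        rw [hR, regSet, Finset.sum_filter]
        refine Finset.sum_congr rfl fun g _ => ?_
        rw [pRegularPart_apply]
        split_ifs <;> simp
      rw [h2, hRR, ← mul_assoc, ← mul_div_assoc, inv_mul_cancel₀ hC0]
      field_simp
    have hne : (Nat.card C : ℂ) / ((p ^ 2 : ℕ) : ℂ) ≠ 0 :=
      div_ne_zero hC0 (Nat.cast_ne_zero.mpr (pow_ne_zero _ hp.ne_zero))
    refine mul_left_cancel₀ hne ?_
    rw [mul_left_comm, ← hRR, Finset.mul_sum]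
    calc ∑ θ ∈ e.toFinset, (Nat.card C : ℂ) / ((p ^ 2 : ℕ) : ℂ) * ((z φ θ : ℂ) * (z θ η : ℂ))
        = ∑ θ ∈ e.toFinset, (z φ θ : ℂ) * ∑ s ∈ R, (θ : C → ℂ) s * conj ((η : C → ℂ) s) :=
          Finset.sum_congr rfl fun θ _ => by rw [hRR]; ring
      _ = _ := by
          rw [Finset.mul_sum]
          simp only [Finset.mul_sum]
          rw [Finset.sum_comm]
          refine Finset.sum_congr rfl fun s hs => ?_
          rw [hexp s hs, Finset.sum_mul, Finset.mul_sum]
          refine Finset.sum_congr rfl fun θ _ => ?_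
          field_simp
  have htrace : ∑ φ ∈ e.toFinset, (z φ φ : ℂ) = ((p ^ 2 : ℕ) : ℂ) * (blockRank p e : ℂ) := by
    rw [cast_blockRank_eq e (regClosed_of_isPBlock hM he), Finset.mul_sum,
      Finset.sum_subtype e.toFinset (fun _ => Set.mem_toFinset) (fun φ : IrrCharacter C => (z φ φ : ℂ))]
    refine Finset.sum_congr rfl fun φ _ => ?_
    rw [classInner, ← mul_assoc]
    have h2 : ∑ g : C, pRegularPart p (φ.1 : C → ℂ) g * conj ((φ.1 : C → ℂ) g) =
        ∑ s ∈ R, (φ.1 : C → ℂ) s * conj ((φ.1 : C → ℂ) s) := by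
      rw [hR, regSet, Finset.sum_filter]
      refine Finset.sum_congr rfl fun g _ => ?_
      rw [pRegularPart_apply]
      split_ifs <;> simp
    rw [h2, hRR]
    field_simp
  -- congruences at the principal character
  have hmin : minExp p e = 0 := by
    have h := minExp_le (p := p) h1e
    simp [hone, Cfsg.charDegree, CfsgLib.Char.principalIrr_apply] at h
    omega
  have hzint : ∀ φ θ : IrrCharacter C, classInner (tilde p (φ : C → ℂ)) (θ : C → ℂ) = (z φ θ : ℂ) := by
    intro φ θ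
    refine mul_right_cancel₀ hC0 ?_
    rw [hz, classInner, mul_comm, ← mul_assoc, mul_inv_cancel₀ hC0, one_mul, hR, regSet,
      Finset.sum_filter, Finset.mul_sum]
    refine Finset.sum_congr rfl fun s _ => ?_
    by_cases hs : p ∣ orderOf s
    · simp [tilde, hs, Cfsg.IsPRegular]
    · simp only [tilde, hs, if_false, Cfsg.IsPRegular, not_false_iff, if_true, hfac]
      ring
  have hz1 : ∀ θ ∈ e, z one θ ≠ 0 := by
    intro θ hθ h0
    have h := rInner_not_memIdeal hM he h1e hθ (by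
      rw [hmin]; simp [hone, Cfsg.charDegree, CfsgLib.Char.principalIrr_apply])
    refine h ?_
    rw [rInner, hzint, h0, Int.cast_zero, zero_div]
    exact memIdeal_zero hM
  have hz11 : ¬ (p : ℤ) ∣ z one one := by
    intro hdvd
    refine rInner_not_memIdeal hM he h1e h1e (by
      rw [hmin]; simp [hone, Cfsg.charDegree, CfsgLib.Char.principalIrr_apply]) ?_
    rw [rInner, hzint, hone, CfsgLib.Char.principalIrr_apply, div_one, ← hone]
    exact (memIdeal_intCast_iff hM _).2 hdvd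
  have hcongr : ∀ φ ∈ e, ∀ θ ∈ e, (p : ℤ) ∣ z one one * z φ θ - z φ one * z one θ := by
    obtain ⟨c, hc, -, -, hcN⟩ := exists_unit_congr hM he
    intro φ hφ θ hθ
    rw [← memIdeal_intCast_iff hM]
    have hN : ∀ a ∈ e, ∀ b ∈ e, MemLocalIdeal M ((z a b : ℂ) -
        c * (charDegree (a : C → ℂ) : ℂ) * (charDegree (b : C → ℂ) : ℂ)) := by
      intro a ha b hb
      have h := hcN a ha b hb
      rw [hmin, pow_zero, Nat.cast_one, div_one, div_one, div_one, hzint] at h
      exact h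
    have hd : (charDegree (one : C → ℂ) : ℂ) = 1 := by
      rw [deg_cast, hone, CfsgLib.Char.principalIrr_apply]
    have hzR : ∀ a b, MemLocalRing M (z a b : ℂ) := fun a b =>
      memRing_algInt hM (isIntegral_algebraMap (x := z a b))
    have h := memIdeal_sub hM
      (memIdeal_add hM (memIdeal_mul_left hM (hzR one one) (hN φ hφ θ hθ))
        (memIdeal_mul_left hM (memRing_mul hM hc (memRing_mul hM (memRing_natCast hM
          (charDegree (φ : C → ℂ))) (memRing_natCast hM (charDegree (θ : C → ℂ)))))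
          (hN one h1e one h1e)))
      (memIdeal_add hM (memIdeal_mul_left hM (hzR one θ) (hN φ hφ one h1e))
        (memIdeal_mul_left hM (memRing_mul hM hc (memRing_natCast hM
          (charDegree (φ : C → ℂ)))) (hN one h1e θ hθ)))
    convert h using 1
    push_cast
    rw [hd]
    ring
  -- the integer matrix on `S₀`
  let ι := {φ : IrrCharacter C // φ ∈ S₀}
  let Mz : Matrix ι ι ℤ := Matrix.of fun a b => z a.1 b.1
  set l : ℕ := blockRank p e with hl
  have hlpos : 0 < l := blockRank_pos hp.ne_one ⟨one, h1e⟩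
  have hSsum : ∀ F : IrrCharacter C → ℂ, (∀ j φ, F (tw j φ) = F φ) →
      ∑ φ ∈ e.toFinset, F φ = (p : ℂ) * ∑ a : ι, F a.1 := by
    intro F hF
    rw [hsum]
    simp only [hF, Finset.sum_const, Finset.card_univ, Fintype.card_fin, nsmul_eq_mul]
    rw [Finset.sum_subtype S₀ (fun _ => Iff.rfl) F]
  have hMsymm : Mzᵀ = Mz := Matrix.ext fun a b => hzsymm _ _
  have hMsq : Mz * Mz = (p : ℤ) • Mz := by
    ext a b
    have h := hproj a.1 (hS₀e _ a.2) b.1
    rw [hSsum _ (fun j φ => by rw [hzsymm a.1, hztw, ← hzsymm a.1, hztw])] at h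
    push_cast at h
    rw [pow_two, mul_assoc] at h
    have h' := mul_left_cancel₀ hp0 h
    simp only [Matrix.mul_apply, Matrix.smul_apply, Mz, Matrix.of_apply, smul_eq_mul]
    exact_mod_cast h'
  have hMtr : Mz.trace = (p : ℤ) * l := by
    rw [hSsum _ (fun j φ => by rw [hztw, hzsymm, hztw])] at htrace
    push_cast at htrace
    rw [pow_two, mul_assoc] at htrace
    have h' := mul_left_cancel₀ hp0 htrace
    simp only [Matrix.trace, Matrix.diag, Mz, Matrix.of_apply]
    exact_mod_cast h'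
  obtain ⟨u, v, huv⟩ : ∃ u v : ℤ, u * z one one + v * p = 1 :=
    (Int.isCoprime_iff_gcd_eq_one.2 (by
      rw [Int.gcd_comm, Int.gcd_eq_natAbs, Int.natAbs_natCast]
      exact (hp.coprime_iff_not_dvd).2 fun h => hz11 (Int.natCast_dvd.2 h)))
  have hMrank : ∀ a b : ι, (p : ℤ) ∣ Mz a b - z a.1 one * (u * z one b.1) := by
    intro a b
    obtain ⟨w, hw⟩ := hcongr a.1 (hS₀e _ a.2) b.1 (hS₀e _ b.2)
    refine ⟨u * w + v * z a.1 b.1, ?_⟩
    simp only [Mz, Matrix.of_apply]
    linear_combination u * hw - z a.1 b.1 * huv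
  have hMdiag : ∀ a : ι, Mz a a ≠ (p : ℤ) := by
    intro a hd
    have h := congrFun (congrFun hMsq a) a
    rw [Matrix.mul_apply, ← Finset.add_sum_erase _ _ (Finset.mem_univ a), Matrix.smul_apply,
      smul_eq_mul, hd] at h
    have h0 : ∑ b ∈ Finset.univ.erase a, Mz a b * Mz b a = 0 := by linarith
    by_cases ha : a = (⟨one, h1S⟩ : ι)
    · refine hz11 ?_
      subst ha
      exact ⟨1, by rw [mul_one]; exact hd⟩
    · have hb := (Finset.sum_eq_zero_iff_of_nonneg fun b _ => by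
        rw [show Mz b a = Mz a b from hzsymm _ _]; exact mul_self_nonneg _).1 h0 ⟨one, h1S⟩
        (Finset.mem_erase.2 ⟨Ne.symm ha, Finset.mem_univ _⟩)
      rw [show Mz a ⟨one, h1S⟩ = Mz ⟨one, h1S⟩ a from hzsymm _ _] at hb
      exact hz1 a.1 (hS₀e _ a.2) (mul_self_eq_zero.1 hb)
  -- the functions `F_j`
  let A : IrrCharacter G → Fin p → ι → ℤ := fun χ j θ => (D.m χ (tw j θ.1) : ℤ)
  let F : IrrCharacter G → Fin p → C → ℂ := fun χ j s =>
    ∑ θ : ι, (A χ j θ : ℂ) * (θ.1 : C → ℂ) s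
  let Q : IrrCharacter G → Fin p → Fin p → ℤ := fun χ i j =>
    (A χ i - A χ j) ⬝ᵥ Mz *ᵥ (A χ i - A χ j)
  have hnorm : ∀ χ i j, ∑ s ∈ R, (F χ i s - F χ j s) * conj (F χ i s - F χ j s) =
      (Nat.card C : ℂ) / ((p ^ 2 : ℕ) : ℂ) * (Q χ i j : ℂ) := by
    intro χ i j
    have hd : ∀ s, F χ i s - F χ j s = ∑ θ : ι, ((A χ i θ - A χ j θ : ℤ) : ℂ) * (θ.1 : C → ℂ) s := by
      intro s
      simp only [F, ← Finset.sum_sub_distrib, Int.cast_sub, sub_mul]
    calc _ = ∑ θ : ι, ∑ η : ι, ((A χ i θ - A χ j θ : ℤ) : ℂ) * ((A χ i η - A χ j η : ℤ) : ℂ) *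
          ∑ s ∈ R, (θ.1 : C → ℂ) s * conj ((η.1 : C → ℂ) s) := by
          simp only [hd, map_sum, map_mul, map_intCast, Finset.sum_mul, Finset.mul_sum]
          conv_rhs => rw [Finset.sum_comm]
          rw [Finset.sum_comm]
          refine Finset.sum_congr rfl fun θ _ => ?_
          rw [Finset.sum_comm]
          exact Finset.sum_congr rfl fun η _ => Finset.sum_congr rfl fun s _ => by ring
      _ = _ := by
          simp only [hRR, Q, dotProduct, Matrix.mulVec, Mz, Matrix.of_apply, Pi.sub_apply]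
          push_cast
          simp only [Finset.mul_sum]
          exact Finset.sum_congr rfl fun θ _ => Finset.sum_congr rfl fun η _ => by ring
  have hQbound : ∀ χ i j, Mz *ᵥ (A χ i - A χ j) ≠ 0 → (l : ℤ) ≤ Q χ i j := fun χ i j h =>
    CfsgLib.LatticeBound.le_quadratic hpZ Mz hMsymm hMsq l hMtr _ _ hMrank hMdiag _ h
  -- the values of the block parts
  have hk : ∀ k ∈ Finset.Ico 1 p, orderOf (x ^ k) = p ∧ C = Subgroup.centralizer {x ^ k} := by
    intro k hk
    rw [Finset.mem_Ico] at hk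
    have hco : Nat.Coprime (orderOf x) k := by
      rw [hx]
      exact (hp.coprime_iff_not_dvd).2 (Nat.not_dvd_of_pos_of_lt hk.1 hk.2)
    refine ⟨by rw [Nat.Coprime.orderOf_pow hco, hx], ?_⟩
    obtain ⟨k', hk'⟩ := exists_pow_eq_self_of_coprime hco.symm
    rw [hC]
    ext g
    simp only [Subgroup.mem_centralizer_singleton_iff]
    refine ⟨fun h => (show Commute g x from h).pow_right k, fun h => ?_⟩
    have := (show Commute g (x ^ k) from h).pow_right k'
    rwa [hk'] at this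
  let V : IrrCharacter G → ℕ → C → ℂ := fun χ k s =>
    ∑ j : Fin p, ζ ^ (k * (j : ℕ)) * F χ j s
  have hblock : ∀ (χ : IrrCharacter G) (k : ℕ) (s : C), s ∈ R →
      blockPart e (fun c : C => (χ : G → ℂ) (x ^ k * c)) s = V χ k s := by
    intro χ k s hs
    have hF : (fun c : C => (χ : G → ℂ) (x ^ k * c)) =
        ∑ φ : IrrCharacter C, ((D.m χ φ : ℂ) * ζ ^ (k * D.i φ)) • (φ : C → ℂ) := by
      funext c
      rw [Finset.sum_apply]
      exact (D.translate χ k c).trans (Finset.sum_congr rfl fun φ _ => by simp [mul_assoc])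
    rw [blockPart_apply, hF, Finset.sum_congr rfl fun φ _ => by
      rw [CfsgLib.Char.classInner_sum_smul_irr], hsum]
    refine Finset.sum_congr rfl fun j _ => ?_
    simp only [F, Finset.mul_sum]
    rw [Finset.sum_subtype S₀ (fun _ => Iff.rfl) (fun θ => (D.m χ (tw j θ) : ℂ) *
      ζ ^ (k * D.i (tw j θ)) * (tw j θ : C → ℂ) s)]
    refine Finset.sum_congr rfl fun θ _ => ?_
    have hi : ζ ^ D.i (tw j θ.1) = ζ ^ (j : ℕ) := by
      rw [hζpow, htw_i, Nat.add_mod, hS₀i _ θ.2, add_zero, Nat.mod_mod]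
    rw [htw_reg j θ.1 s hs, mul_comm k, mul_comm k, pow_mul, pow_mul, hi]
    simp only [A, Int.cast_natCast]
    ring
  -- Galois averaging
  have hgeo : ∀ i j : Fin p, ∑ k ∈ Finset.range p, ζ ^ (k * (i : ℕ)) * conj (ζ ^ (k * (j : ℕ))) =
      if i = j then (p : ℂ) else 0 := by
    intro i j
    have hcj : conj ζ = ζ⁻¹ := by
      rw [Complex.inv_eq_conj (Complex.norm_eq_one_of_pow_eq_one hζ.pow_eq_one hp.ne_zero)]
    have hζ0 : ζ ≠ 0 := hζ.ne_zero hp.ne_zero
    have h : ∀ k, ζ ^ (k * (i : ℕ)) * conj (ζ ^ (k * (j : ℕ))) =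
        (ζ ^ (i : ℕ) * (ζ ^ (j : ℕ))⁻¹) ^ k := by
      intro k
      rw [map_pow, hcj, mul_pow, ← pow_mul, inv_pow, inv_pow, ← pow_mul, mul_comm k, mul_comm k]
    rw [Finset.sum_congr rfl fun k _ => h k]
    split_ifs with hij
    · subst hij
      simp [mul_inv_cancel₀ (pow_ne_zero _ hζ0)]
    · have hw : ζ ^ (i : ℕ) * (ζ ^ (j : ℕ))⁻¹ ≠ 1 := by
        rw [Ne, mul_inv_eq_one₀ (pow_ne_zero _ hζ0), hζpow, Nat.mod_eq_of_lt i.2,
          Nat.mod_eq_of_lt j.2]
        exact fun h => hij (Fin.ext h)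
      rw [geom_sum_eq hw]
      simp [mul_pow, inv_pow, ← pow_mul, mul_comm _ p, pow_mul ζ p, hζ.pow_eq_one]
  have hgal : ∀ χ s, 2 * ∑ k ∈ Finset.Ico 1 p, V χ k s * conj (V χ k s) =
      ∑ i : Fin p, ∑ j : Fin p, (F χ i s - F χ j s) * conj (F χ i s - F χ j s) := by
    intro χ s
    have h1 : ∑ k ∈ Finset.range p, V χ k s * conj (V χ k s) =
        (p : ℂ) * ∑ i : Fin p, F χ i s * conj (F χ i s) := by
      simp only [V, map_sum, map_mul, Finset.sum_mul_sum]
      rw [Finset.sum_comm, Finset.mul_sum]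
      refine Finset.sum_congr rfl fun i _ => ?_
      rw [Finset.sum_comm]
      have : ∀ j : Fin p, ∑ k ∈ Finset.range p, ζ ^ (k * (i : ℕ)) * F χ i s *
          (conj (ζ ^ (k * (j : ℕ))) * conj (F χ j s)) =
          (if i = j then (p : ℂ) else 0) * (F χ i s * conj (F χ j s)) := by
        intro j
        rw [← hgeo i j, Finset.sum_mul]
        exact Finset.sum_congr rfl fun k _ => by ring
      simp only [this, ite_mul, zero_mul, Finset.sum_ite_eq, Finset.mem_univ, if_true]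
    have h0 : V χ 0 s = ∑ i : Fin p, F χ i s := by simp [V]
    rw [Finset.range_eq_Ico, Finset.sum_eq_sum_Ico_succ_bot hp.pos, h0, map_sum,
      Finset.sum_mul_sum] at h1
    rw [eq_sub_of_add_eq' h1]
    simp only [map_sub, sub_mul, mul_sub, Finset.sum_sub_distrib, Finset.sum_const,
      Finset.card_univ, Fintype.card_fin, nsmul_eq_mul]
    rw [Finset.sum_comm (f := fun i j : Fin p => F χ j s * conj (F χ i s)), ← Finset.mul_sum]
    ring
  let N : IrrCharacter G → ℕ → ℝ := fun χ k => ∑ s ∈ R, Complex.normSq (V χ k s)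
  have hN : ∀ (χ : IrrCharacter G) (k : ℕ), regNorm p e (fun c : C => (χ : G → ℂ) (x ^ k * c)) = ((N χ k : ℝ) : ℂ) := by
    intro χ k
    simp only [N, regNorm_eq, Complex.ofReal_sum]
    exact Finset.sum_congr rfl fun s hs => by rw [hblock χ k s hs, Complex.mul_conj]
  have hNQ : ∀ χ, 2 * ∑ k ∈ Finset.Ico 1 p, N χ k =
      (Nat.card C : ℝ) / ((p ^ 2 : ℕ) : ℝ) * ∑ i : Fin p, ∑ j : Fin p, (Q χ i j : ℝ) := by
    intro χ
    apply Complex.ofReal_injective
    push_cast
    simp only [N, Complex.ofReal_sum]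
    rw [Finset.sum_comm (s := Finset.Ico 1 p), Finset.mul_sum]
    simp only [← Complex.mul_conj, hgal]
    rw [Finset.sum_comm, Finset.mul_sum]
    refine Finset.sum_congr rfl fun i _ => ?_
    rw [Finset.sum_comm, Finset.mul_sum]
    refine Finset.sum_congr rfl fun j _ => ?_
    rw [hnorm]
    push_cast
    rfl
  have htotal : ∀ k ∈ Finset.Ico 1 p, ∑ χ : IrrCharacter G, N χ k = (Nat.card C : ℝ) * l := by
    intro k hk'
    apply Complex.ofReal_injective
    push_cast
    simp only [← hN]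
    rw [sum_regNorm_translate hM (hk k hk').2 ⟨1, by rw [(hk k hk').1, pow_one]⟩ he]
  have hcase : ∀ χ ∈ principalBlock M G, ¬ p ∣ charDegree (χ : G → ℂ) →
      ∃ i j : Fin p, Mz *ᵥ (A χ i - A χ j) ≠ 0 := by
    intro χ hχ hdeg
    by_contra hall
    push Not at hall
    have hQ0 : ∀ i j, Q χ i j = 0 := fun i j => by simp [Q, hall i j]
    have h := hNQ χ
    simp only [hQ0, Int.cast_zero, Finset.sum_const_zero, mul_zero] at h
    have hnn : ∀ k, 0 ≤ N χ k := fun k => Finset.sum_nonneg fun s _ => Complex.normSq_nonneg _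
    have h1 : N χ 1 = 0 := (Finset.sum_eq_zero_iff_of_nonneg fun k _ => hnn k).1
      (by linarith) 1 (Finset.mem_Ico.2 ⟨le_rfl, hp.one_lt⟩)
    have hV : ∀ s ∈ R, V χ 1 s = 0 := fun s hs => Complex.normSq_eq_zero.1
      ((Finset.sum_eq_zero_iff_of_nonneg fun s _ => Complex.normSq_nonneg _).1 h1 s hs)
    refine D.regSum_ne_zero hM hC (k := 1) (by rw [hx, pow_one])
      (by rw [pow_one]; exact hζ.pow_eq_one) hχ hdeg ?_
    have hout : ∀ φ : IrrCharacter C, φ ∉ e → ∑ s ∈ R, (φ : C → ℂ) s = 0 := by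
      intro φ hφ
      have h := regClosed_of_isPBlock (p := p) hM he one h1e φ hφ
      rw [classInner, mul_eq_zero] at h
      have h2 := h.resolve_left (inv_ne_zero hC0)
      have h3 : ∑ s ∈ R, conj ((φ : C → ℂ) s) = 0 := by
        rw [← h2, hR, regSet, Finset.sum_filter]
        refine Finset.sum_congr rfl fun g _ => ?_
        rw [pRegularPart_apply, hone, CfsgLib.Char.principalIrr_apply]
        split_ifs <;> simp
      have h4 := congrArg conj h3
      simpa using h4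
    calc ∑ s ∈ R, (χ : G → ℂ) (x * s)
        = ∑ φ : IrrCharacter C, (D.m χ φ : ℂ) * ζ ^ (D.i φ) * ∑ s ∈ R, (φ : C → ℂ) s := by
          simp only [D.translate_one χ, Finset.mul_sum]
          rw [Finset.sum_comm]
      _ = ∑ φ ∈ e.toFinset, (D.m χ φ : ℂ) * ζ ^ (D.i φ) * ∑ s ∈ R, (φ : C → ℂ) s :=
          (Finset.sum_subset (Finset.subset_univ _) fun φ _ hφ => by
            rw [hout φ fun h => hφ (Set.mem_toFinset.2 h), mul_zero]).symm
      _ = ∑ s ∈ R, V χ 1 s := by
          simp only [Finset.mul_sum]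
          rw [Finset.sum_comm]
          refine Finset.sum_congr rfl fun s hs => ?_
          rw [← hblock χ 1 s hs, blockPart_apply]
          refine Finset.sum_congr rfl fun φ _ => ?_
          have hF : (fun c : C => (χ : G → ℂ) (x ^ 1 * c)) =
              ∑ φ : IrrCharacter C, ((D.m χ φ : ℂ) * ζ ^ (D.i φ)) • (φ : C → ℂ) := by
            funext c
            rw [Finset.sum_apply]
            exact (D.translate χ 1 c).trans (Finset.sum_congr rfl fun φ _ => by simp [mul_assoc])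
          rw [hF, CfsgLib.Char.classInner_sum_smul_irr]
      _ = 0 := Finset.sum_eq_zero hV
  have hlower : ∀ χ ∈ principalBlock M G, ¬ p ∣ charDegree (χ : G → ℂ) →
      ((p : ℝ) - 1) * ((Nat.card C : ℝ) / ((p ^ 2 : ℕ) : ℝ)) * l ≤
        ∑ k ∈ Finset.Ico 1 p, N χ k := by
    intro χ hχ hdeg
    obtain ⟨i₀, j₀, hne⟩ := hcase χ hχ hdeg
    have hQnn : ∀ i j, 0 ≤ Q χ i j := by
      intro i j
      by_cases h : Mz *ᵥ (A χ i - A χ j) = 0
      · simp [Q, h]
      · exact le_trans (by exact_mod_cast Nat.zero_le l) (hQbound χ i j h)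
    have hswap : ∀ i j, Q χ i j = Q χ j i := by
      intro i j
      simp only [Q]
      rw [← neg_sub (A χ j), Matrix.mulVec_neg, neg_dotProduct, dotProduct_neg, neg_neg]
    -- each `j ≠ i₀` is far from `i₀` or from `j₀`
    have hrow : ∀ j, j ≠ i₀ → Mz *ᵥ (A χ j - A χ i₀) = 0 → Mz *ᵥ (A χ j - A χ j₀) ≠ 0 := by
      intro j _ h1 h2
      refine hne ?_
      rw [show A χ i₀ - A χ j₀ = (A χ j - A χ j₀) - (A χ j - A χ i₀) by abel, Matrix.mulVec_sub,
        h1, h2, sub_zero]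
    let pr : Fin p → Fin p × Fin p := fun j =>
      if Mz *ᵥ (A χ j - A χ i₀) ≠ 0 then (j, i₀) else (j, j₀)
    set J := Finset.univ.erase i₀ with hJ
    have hbig : ∀ j ∈ J, (l : ℤ) ≤ Q χ (pr j).1 (pr j).2 := by
      intro j hj
      simp only [pr]
      split_ifs with h
      · exact hQbound χ j i₀ h
      · exact hQbound χ j j₀ (hrow j (Finset.ne_of_mem_erase hj) (not_not.1 h))
    set T₁ := J.image pr
    set T₂ := J.image fun j => ((pr j).2, (pr j).1)
    have hinj1 : Set.InjOn pr J := fun a _ b _ h => by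
      have := congrArg Prod.fst h
      simp only [pr] at this
      split_ifs at this <;> exact this
    have hinj2 : Set.InjOn (fun j => ((pr j).2, (pr j).1)) J := fun a ha b hb h => by
      refine hinj1 ha hb (Prod.ext ?_ ?_)
      · exact congrArg Prod.snd h
      · exact congrArg Prod.fst h
    have hdisj : Disjoint T₁ T₂ := by
      rw [Finset.disjoint_left]
      rintro q hq1 hq2
      obtain ⟨a, ha, rfl⟩ := Finset.mem_image.1 hq1
      obtain ⟨b, hb, hab⟩ := Finset.mem_image.1 hq2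
      have h1 := congrArg Prod.fst hab
      have h2 := congrArg Prod.snd hab
      have ha' := Finset.ne_of_mem_erase ha
      have hb' := Finset.ne_of_mem_erase hb
      have hj0 : Mz *ᵥ (A χ j₀ - A χ i₀) ≠ 0 := by
        rw [← neg_sub, Matrix.mulVec_neg, neg_ne_zero]; exact hne
      simp only [pr] at h1 h2
      split_ifs at h1 h2 with h3 h4 <;> dsimp only at h1 h2 <;> first
        | exact ha' h1.symm
        | exact hb' h2
        | (subst h1; exact h4 hj0)
        | (subst h2; exact h3 hj0)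
    have hsumQ : 2 * ((p : ℤ) - 1) * l ≤ ∑ i : Fin p, ∑ j : Fin p, Q χ i j := by
      rw [← Fintype.sum_prod_type']
      refine le_trans ?_ (Finset.sum_le_sum_of_subset_of_nonneg (Finset.subset_univ (T₁ ∪ T₂))
        fun q _ _ => hQnn q.1 q.2)
      rw [Finset.sum_union hdisj, Finset.sum_image hinj1, Finset.sum_image hinj2]
      have hc : (J.card : ℤ) = (p : ℤ) - 1 := by
        rw [hJ, Finset.card_erase_of_mem (Finset.mem_univ _), Finset.card_univ, Fintype.card_fin]
        have := hp.pos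
        omega
      have h1 := Finset.card_nsmul_le_sum J (fun j => Q χ (pr j).1 (pr j).2) l hbig
      have h2 := Finset.card_nsmul_le_sum J (fun j => Q χ (pr j).2 (pr j).1) l
        (fun j hj => by rw [hswap]; exact hbig j hj)
      rw [nsmul_eq_mul] at h1 h2
      rw [hc] at h1 h2
      linarith
    have h := hNQ χ
    have hsumR : 2 * ((p : ℝ) - 1) * l ≤ ∑ i : Fin p, ∑ j : Fin p, (Q χ i j : ℝ) := by
      exact_mod_cast hsumQ
    have hcpos : (0 : ℝ) ≤ (Nat.card C : ℝ) / ((p ^ 2 : ℕ) : ℝ) := by positivity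
    nlinarith [mul_le_mul_of_nonneg_left hsumR hcpos]
  -- conclusion
  set T := (Finset.univ : Finset (IrrCharacter G)).filter
    fun χ => χ ∈ principalBlock M G ∧ ¬ p ∣ charDegree (χ : G → ℂ)
  have hmain : (T.card : ℝ) * (((p : ℝ) - 1) * ((Nat.card C : ℝ) / ((p ^ 2 : ℕ) : ℝ)) * l) ≤
      ((p : ℝ) - 1) * ((Nat.card C : ℝ) * l) := by
    rw [← nsmul_eq_mul]
    refine le_trans (Finset.card_nsmul_le_sum T _ _ fun χ hχ =>
      hlower χ (Finset.mem_filter.1 hχ).2.1 (Finset.mem_filter.1 hχ).2.2) ?_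
    refine le_trans (Finset.sum_le_sum_of_subset_of_nonneg (Finset.subset_univ T) fun χ _ _ =>
      Finset.sum_nonneg fun k _ => Finset.sum_nonneg fun s _ => Complex.normSq_nonneg _) ?_
    rw [Finset.sum_comm, Finset.sum_congr rfl htotal, Finset.sum_const, Nat.card_Ico, nsmul_eq_mul,
      Nat.cast_sub hp.one_le, Nat.cast_one]
  rw [Nat.card_eq_fintype_card, Fintype.card_subtype]
  have hp2 : (0 : ℝ) < (p ^ 2 : ℕ) := by exact_mod_cast pow_pos hp.pos 2
  have hpos : (0 : ℝ) < ((p : ℝ) - 1) * ((Nat.card C : ℝ) / ((p ^ 2 : ℕ) : ℝ)) * l := by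
    have : (1 : ℝ) < p := by exact_mod_cast hp.one_lt
    have : (0 : ℝ) < Nat.card C := by exact_mod_cast Nat.card_pos
    have : (0 : ℝ) < l := by exact_mod_cast hlpos
    positivity
  have : (T.card : ℝ) ≤ ((p ^ 2 : ℕ) : ℝ) := by
    refine le_of_mul_le_mul_right ?_ hpos
    refine hmain.trans (le_of_eq ?_)
    field_simp
  exact_mod_cast this

end CfsgLib.SmallDefect
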