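import Cfsg.Agent.Lib.PermChar.Basic
import Cfsg.Agent.Lib.Char.Virtual
import Cfsg.Agent.Lib.GLFlags.Unipotent
import Mathlib.GroupTheory.GroupAction.MultipleTransitivity

/-!
# The characters `(n-2,2)` and `(n-2,1,1)` of a four times transitive group
-/

set_option autoImplicit false
set_option maxHeartbeats 1000000

namespace CfsgLib.SmallSym

open Finset MulAction
open scoped Classical

universe u

variable {G : Type u} [Group G] {n : ℕ} [MulAction G (Fin n)]

/-- The fixed points. -/
noncomputable def fixSet (g : G) : Finset (Fin n) := univ.filter fun a => g • a = a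

/-- The points in `2`-cycles. -/
noncomputable def twoSet (g : G) : Finset (Fin n) :=
  univ.filter fun a => g • g • a = a ∧ g • a ≠ a

/-- The character `(n-2,2)`. -/
noncomputable def chiTwoTwo (n : ℕ) [MulAction G (Fin n)] (g : G) : ℂ :=
  (((fixSet (n := n) g).card : ℂ) ^ 2 - 3 * (fixSet (n := n) g).card + (twoSet (n := n) g).card) / 2

/-- The character `(n-2,1,1)`. -/
noncomputable def chiOneOne (n : ℕ) [MulAction G (Fin n)] (g : G) : ℂ :=
  (((fixSet (n := n) g).card : ℂ) ^ 2 - 3 * (fixSet (n := n) g).card + 2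
    - (twoSet (n := n) g).card) / 2

variable [Fintype G]

theorem sum_card_emb {k : ℕ} (hk : k ≤ 4) (hn : 4 ≤ n)
    [IsMultiplyPretransitive G (Fin n) 4] (σ : Equiv.Perm (Fin k)) :
    ∑ g : G, Fintype.card {x : Fin k ↪ Fin n // ∀ i, g • x i = x (σ i)} = Fintype.card G := by
  haveI : IsMultiplyPretransitive G (Fin n) k :=
    isMultiplyPretransitive_of_le hk (by rw [Nat.card_fin]; exact hn)
  haveI : IsPretransitive G (Fin k ↪ Fin n) := ‹IsMultiplyPretransitive G (Fin n) k›
  simp only [Fintype.card_subtype, card_filter]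
  rw [sum_comm]
  have hfib : ∀ x : Fin k ↪ Fin n,
      (∑ g : G, if (∀ i, g • x i = x (σ i)) then 1 else 0) = Nat.card (stabilizer G x) := by
    intro x
    obtain ⟨g₀, hg₀⟩ := exists_smul_eq G x (σ.toEmbedding.trans x)
    rw [← card_filter, ← Fintype.card_subtype, ← Nat.card_eq_fintype_card]
    refine Nat.card_congr ((Equiv.mulLeft g₀⁻¹).subtypeEquiv fun g => ?_)
    show (∀ i, g • x i = x (σ i)) ↔ (g₀⁻¹ * g) • x = x
    rw [mul_smul, inv_smul_eq_iff, hg₀, DFunLike.ext_iff]
    rfl
  simp only [hfib]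
  rcases isEmpty_or_nonempty (Fin k ↪ Fin n) with he | he
  · exfalso
    exact he.false (Fin.castLEEmb (hk.trans hn))
  obtain ⟨x₀⟩ := he
  have hcard : ∀ x : Fin k ↪ Fin n,
      Nat.card (stabilizer G x) * Fintype.card (Fin k ↪ Fin n) = Fintype.card G := by
    intro x
    rw [← Nat.card_eq_fintype_card, ← Nat.card_eq_fintype_card,
      ← (stabilizer G x).card_mul_index, index_stabilizer_of_transitive]
  have hconst : ∀ x : Fin k ↪ Fin n, Nat.card (stabilizer G x) = Nat.card (stabilizer G x₀) :=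
    fun x => Nat.eq_of_mul_eq_mul_right
      (Fintype.card_pos_iff.2 ⟨x₀⟩) ((hcard x).trans (hcard x₀).symm)
  simp only [hconst, sum_const, smul_eq_mul, card_univ]
  rw [mul_comm]
  exact hcard x₀

omit [Fintype G] in
theorem card_emb_fix (g : G) (k : ℕ) :
    Fintype.card {x : Fin k ↪ Fin n // ∀ i, g • x i = x ((1 : Equiv.Perm (Fin k)) i)} =
      (fixSet (n := n) g).card.descFactorial k := by
  rw [← Fintype.card_coe (fixSet (n := n) g)]
  conv_rhs => arg 2; rw [← Fintype.card_fin k]
  rw [← Fintype.card_embedding_eq]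
  exact Fintype.card_congr
    ⟨fun x => ⟨fun i => ⟨x.1 i, mem_filter.2 ⟨mem_univ _, x.2 i⟩⟩,
        fun i j h => x.1.injective (congrArg Subtype.val h)⟩,
      fun y => ⟨y.trans (Function.Embedding.subtype _), fun i => (mem_filter.1 (y i).2).2⟩,
      fun x => Subtype.ext (DFunLike.ext _ _ fun i => rfl),
      fun y => DFunLike.ext _ _ fun i => Subtype.ext rfl⟩

omit [Fintype G] in
theorem smul_mem_two {g : G} {a : Fin n} (ha : a ∈ twoSet g) :
    g • g • a = a ∧ g • a ≠ a ∧ g • a ∈ twoSet g := by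
  obtain ⟨h1, h2⟩ := (mem_filter.1 ha).2
  exact ⟨h1, h2, mem_filter.2 ⟨mem_univ _, by rw [h1], fun h => h2 (by rw [h] at h1; exact h1)⟩⟩

omit [Fintype G] in
theorem fix_ne_two {g : G} {a b : Fin n} (ha : a ∈ twoSet g) (hb : b ∈ fixSet g) : a ≠ b :=
  fun h => ((mem_filter.1 ha).2).2 (h ▸ (mem_filter.1 hb).2)

omit [Fintype G] in
theorem card_emb_two (g : G) :
    Fintype.card {x : Fin 2 ↪ Fin n // ∀ i, g • x i = x (Equiv.swap 0 1 i)} =
      (twoSet (n := n) g).card := by
  rw [← Fintype.card_coe (twoSet (n := n) g)]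
  refine Fintype.card_congr
    ⟨fun x => ⟨x.1 0, mem_filter.2 ⟨mem_univ _, ?_, ?_⟩⟩,
      fun a => ⟨⟨![(a : Fin n), g • (a : Fin n)], ?_⟩, ?_⟩, ?_, ?_⟩
  · have h0 : g • x.1 0 = x.1 1 := by simpa using x.2 0
    have h1 : g • x.1 1 = x.1 0 := by simpa using x.2 1
    rw [h0, h1]
  · have h0 : g • x.1 0 = x.1 1 := by simpa using x.2 0
    rw [h0]
    exact fun h => absurd (x.1.injective h) (by decide)
  · obtain ⟨h1, h2, -⟩ := smul_mem_two a.2
    intro i j h
    fin_cases i <;> fin_cases j <;> first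
      | rfl
      | exact absurd h (by assumption)
      | exact absurd h.symm (by assumption)
  · obtain ⟨h1, h2, -⟩ := smul_mem_two a.2
    intro i
    fin_cases i <;> simp [h1]
  · intro x
    have h0 : g • x.1 0 = x.1 1 := by simpa using x.2 0
    refine Subtype.ext (DFunLike.ext _ _ fun i => ?_)
    fin_cases i <;> simp [h0]
  · intro a
    exact Subtype.ext rfl

omit [Fintype G] in
theorem card_emb_two_fix (g : G) :
    Fintype.card {x : Fin 3 ↪ Fin n // ∀ i, g • x i = x (Equiv.swap 0 1 i)} =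
      (twoSet (n := n) g).card * (fixSet (n := n) g).card := by
  rw [← card_product, ← Fintype.card_coe]
  refine Fintype.card_congr
    ⟨fun x => ⟨(x.1 0, x.1 2), mem_product.2 ⟨mem_filter.2 ⟨mem_univ _, ?_, ?_⟩,
        mem_filter.2 ⟨mem_univ _, ?_⟩⟩⟩,
      fun a => ⟨⟨![a.1.1, g • a.1.1, a.1.2], ?_⟩, ?_⟩, ?_, ?_⟩
  · have h0 : g • x.1 0 = x.1 1 := by simpa using x.2 0
    have h1 : g • x.1 1 = x.1 0 := by simpa using x.2 1
    rw [h0, h1]
  · have h0 : g • x.1 0 = x.1 1 := by simpa using x.2 0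
    rw [h0]
    exact fun h => absurd (x.1.injective h) (by decide)
  · have h2 := x.2 2
    rwa [Equiv.swap_apply_of_ne_of_ne (by decide) (by decide)] at h2
  · obtain ⟨hm, hf⟩ := mem_product.1 a.2
    obtain ⟨h1, h2, h3⟩ := smul_mem_two hm
    have e1 := fix_ne_two hm hf
    have e2 := fix_ne_two h3 hf
    intro i j h
    fin_cases i <;> fin_cases j <;> first
      | rfl
      | exact absurd h (by assumption)
      | exact absurd h.symm (by assumption)
  · obtain ⟨hm, hf⟩ := mem_product.1 a.2
    obtain ⟨h1, h2, -⟩ := smul_mem_two hm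
    have hf' := (mem_filter.1 hf).2
    intro i
    fin_cases i
    · simp
    · simp [h1]
    · rw [Equiv.swap_apply_of_ne_of_ne (by decide) (by decide)]; simpa using hf'
  · intro x
    have h0 : g • x.1 0 = x.1 1 := by simpa using x.2 0
    refine Subtype.ext (DFunLike.ext _ _ fun i => ?_)
    fin_cases i <;> simp [h0]
  · intro a
    exact Subtype.ext rfl

omit [Fintype G] in
theorem card_emb_two_fix_fix (g : G) :
    Fintype.card {x : Fin 4 ↪ Fin n // ∀ i, g • x i = x (Equiv.swap 0 1 i)} =
      (twoSet (n := n) g).card * (fixSet (n := n) g).offDiag.card := by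
  rw [← card_product, ← Fintype.card_coe]
  refine Fintype.card_congr
    ⟨fun x => ⟨(x.1 0, x.1 2, x.1 3), mem_product.2 ⟨mem_filter.2 ⟨mem_univ _, ?_, ?_⟩,
        mem_offDiag.2 ⟨mem_filter.2 ⟨mem_univ _, ?_⟩, mem_filter.2 ⟨mem_univ _, ?_⟩,
          fun h => absurd (x.1.injective h) (by decide)⟩⟩⟩,
      fun a => ⟨⟨![a.1.1, g • a.1.1, a.1.2.1, a.1.2.2], ?_⟩, ?_⟩, ?_, ?_⟩
  · have h0 : g • x.1 0 = x.1 1 := by simpa using x.2 0
    have h1 : g • x.1 1 = x.1 0 := by simpa using x.2 1
    rw [h0, h1]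
  · have h0 : g • x.1 0 = x.1 1 := by simpa using x.2 0
    rw [h0]
    exact fun h => absurd (x.1.injective h) (by decide)
  · have h2 := x.2 2
    rwa [Equiv.swap_apply_of_ne_of_ne (by decide) (by decide)] at h2
  · have h2 := x.2 3
    rwa [Equiv.swap_apply_of_ne_of_ne (by decide) (by decide)] at h2
  · obtain ⟨hm, hf⟩ := mem_product.1 a.2
    obtain ⟨hf1, hf2, hne⟩ := mem_offDiag.1 hf
    obtain ⟨h1, h2, h3⟩ := smul_mem_two hm
    have e1 := fix_ne_two hm hf1
    have e2 := fix_ne_two h3 hf1
    have e3 := fix_ne_two hm hf2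
    have e4 := fix_ne_two h3 hf2
    intro i j h
    fin_cases i <;> fin_cases j <;> first
      | rfl
      | exact absurd h (by assumption)
      | exact absurd h.symm (by assumption)
  · obtain ⟨hm, hf⟩ := mem_product.1 a.2
    obtain ⟨hf1, hf2, -⟩ := mem_offDiag.1 hf
    obtain ⟨h1, h2, -⟩ := smul_mem_two hm
    intro i
    fin_cases i
    · simp
    · simp [h1]
    · rw [Equiv.swap_apply_of_ne_of_ne (by decide) (by decide)]; simpa using (mem_filter.1 hf1).2
    · rw [Equiv.swap_apply_of_ne_of_ne (by decide) (by decide)]; simpa using (mem_filter.1 hf2).2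
  · intro x
    have h0 : g • x.1 0 = x.1 1 := by simpa using x.2 0
    refine Subtype.ext (DFunLike.ext _ _ fun i => ?_)
    fin_cases i <;> simp [h0]
  · intro a
    exact Subtype.ext rfl

omit [Fintype G] in
theorem card_emb_two_two (g : G) :
    Fintype.card {x : Fin 4 ↪ Fin n //
      ∀ i, g • x i = x ((Equiv.swap 0 1 * Equiv.swap 2 3 : Equiv.Perm (Fin 4)) i)} =
      (twoSet (n := n) g).card * ((twoSet (n := n) g).card - 2) := by
  have hs : ((twoSet (n := n) g).sigma fun a => twoSet (n := n) g \ {a, g • a}).card =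
      (twoSet (n := n) g).card * ((twoSet (n := n) g).card - 2) := by
    rw [card_sigma]
    refine sum_eq_card_nsmul (fun a ha => ?_) |>.trans (smul_eq_mul ..)
    obtain ⟨-, h2, h3⟩ := smul_mem_two ha
    rw [card_sdiff_of_subset (insert_subset ha (singleton_subset_iff.2 h3)), card_pair h2.symm]
  rw [← hs, ← Fintype.card_coe]
  refine Fintype.card_congr
    ⟨fun x => ⟨⟨x.1 0, x.1 2⟩, ?_⟩,
      fun a => ⟨⟨![a.1.1, g • a.1.1, a.1.2, g • a.1.2], ?_⟩, ?_⟩, ?_, ?_⟩
  · have h0 : g • x.1 0 = x.1 1 := by simpa [Equiv.swap_apply_def] using x.2 0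
    have h1 : g • x.1 1 = x.1 0 := by simpa [Equiv.swap_apply_def] using x.2 1
    have h2 : g • x.1 2 = x.1 3 := by simpa [Equiv.swap_apply_def] using x.2 2
    have h3 : g • x.1 3 = x.1 2 := by simpa [Equiv.swap_apply_def] using x.2 3
    refine mem_sigma.2 ⟨mem_filter.2 ⟨mem_univ _, by rw [h0, h1], ?_⟩,
      mem_sdiff.2 ⟨mem_filter.2 ⟨mem_univ _, by rw [h2, h3], ?_⟩, ?_⟩⟩
    · rw [h0]; exact fun h => absurd (x.1.injective h) (by decide)
    · rw [h2]; exact fun h => absurd (x.1.injective h) (by decide)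
    · rw [h0]
      simp only [mem_insert, mem_singleton, not_or]
      exact ⟨fun h => absurd (x.1.injective h) (by decide),
        fun h => absurd (x.1.injective h) (by decide)⟩
  · obtain ⟨hm, hm'⟩ := mem_sigma.1 a.2
    obtain ⟨hb, hne⟩ := mem_sdiff.1 hm'
    simp only [mem_insert, mem_singleton, not_or] at hne
    obtain ⟨h1, h2, h3⟩ := smul_mem_two hm
    obtain ⟨k1, k2, k3⟩ := smul_mem_two hb
    have e1 : g • a.1.2 ≠ a.1.1 := fun h => hne.2 (by rw [← h, k1])
    have e2 : g • a.1.2 ≠ g • a.1.1 := fun h => hne.1 (smul_left_cancel g h)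
    have e3 := hne.1
    have e4 := hne.2
    intro i j h
    fin_cases i <;> fin_cases j <;> first
      | rfl
      | exact absurd h (by assumption)
      | exact absurd h.symm (by assumption)
  · obtain ⟨hm, hm'⟩ := mem_sigma.1 a.2
    obtain ⟨hb, -⟩ := mem_sdiff.1 hm'
    obtain ⟨h1, -, -⟩ := smul_mem_two hm
    obtain ⟨k1, -, -⟩ := smul_mem_two hb
    intro i
    fin_cases i <;> simp [h1, k1, Equiv.swap_apply_def]
  · intro x
    have h0 : g • x.1 0 = x.1 1 := by simpa [Equiv.swap_apply_def] using x.2 0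
    have h2 : g • x.1 2 = x.1 3 := by simpa [Equiv.swap_apply_def] using x.2 2
    refine Subtype.ext (DFunLike.ext _ _ fun i => ?_)
    fin_cases i <;> simp [h0, h2]
  · intro a
    exact Subtype.ext rfl

variable (n) in
/-- The action on the two-element subsets. -/
@[reducible] noncomputable def pairAction (G : Type u) [Group G] [MulAction G (Fin n)] :
    MulAction G {s : Finset (Fin n) // s.card = 2} where
  smul g s := ⟨s.1.map (MulAction.toPerm g).toEmbedding, by rw [card_map]; exact s.2⟩
  one_smul s := Subtype.ext (by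
    show s.1.map _ = s.1
    ext a; simp)
  mul_smul g h s := Subtype.ext (by
    show s.1.map _ = (s.1.map _).map _
    ext a; simp [mul_smul, Finset.mem_map])

omit [Fintype G] in
theorem two_mul_card_fixed_pairs (g : G) :
    letI := pairAction n G
    2 * Nat.card (fixedBy {s : Finset (Fin n) // s.card = 2} g) + (fixSet (n := n) g).card =
      (fixSet (n := n) g).card ^ 2 + (twoSet (n := n) g).card := by
  letI := pairAction n G
  set S : Finset {s : Finset (Fin n) // s.card = 2} := univ.filter fun s => g • s = s with hS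
  set T : Finset (Fin n × Fin n) :=
    (fixSet (n := n) g).offDiag ∪ (twoSet (n := n) g).image (fun a => (a, g • a)) with hT
  have hTcard : T.card = (fixSet (n := n) g).offDiag.card + (twoSet (n := n) g).card := by
    rw [hT, card_union_of_disjoint, card_image_of_injective _ fun a b h => congrArg Prod.fst h]
    rw [disjoint_left]
    rintro ⟨a, b⟩ hab hc
    obtain ⟨c, hc, he⟩ := mem_image.1 hc
    exact fix_ne_two hc (mem_offDiag.1 hab).1 (congrArg Prod.fst he)
  have hmem : ∀ q ∈ T, q.1 ≠ q.2 := by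
    rintro ⟨a, b⟩ hab
    rcases mem_union.1 hab with h | h
    · exact (mem_offDiag.1 h).2.2
    · obtain ⟨c, hc, he⟩ := mem_image.1 h
      obtain ⟨rfl, rfl⟩ := Prod.mk.injEq .. ▸ he
      exact (smul_mem_two hc).2.1.symm
  have hsmul : ∀ s : {s : Finset (Fin n) // s.card = 2},
      ((g • s : {s : Finset (Fin n) // s.card = 2}) : Finset (Fin n)) = s.1.image (g • ·) := by
    intro s
    show s.1.map _ = _
    rw [map_eq_image]
    rfl
  have hTS : T.card = ∑ s ∈ S, 2 := by
    rw [card_eq_sum_card_fiberwise (f := fun q => if h : q.1 ≠ q.2 then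
      (some ⟨{q.1, q.2}, card_pair h⟩ : Option {s : Finset (Fin n) // s.card = 2}) else none)
      (t := S.map Function.Embedding.some)]
    · rw [sum_map]
      refine sum_congr rfl fun s hs => ?_
      obtain ⟨a, b, hab, hsab⟩ := card_eq_two.1 s.2
      have hfix := (mem_filter.1 hs).2
      have hfix' := congrArg Subtype.val hfix
      rw [hsmul, hsab] at hfix'
      simp only [image_insert, image_singleton] at hfix'
      have hga : g • a = a ∨ g • a = b := by
        have : g • a ∈ ({a, b} : Finset (Fin n)) := hfix' ▸ mem_insert_self _ _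
        simpa using this
      have hgb : g • b = a ∨ g • b = b := by
        have : g • b ∈ ({a, b} : Finset (Fin n)) :=
          hfix' ▸ mem_insert_of_mem (mem_singleton_self _)
        simpa using this
      have hgab : g • a ≠ g • b := fun h => hab (smul_left_cancel g h)
      have hcase : (g • a = a ∧ g • b = b) ∨ (g • a = b ∧ g • b = a) := by
        rcases hga with h | h <;> rcases hgb with k | k
        · exact absurd (h.trans k.symm) hgab
        · exact Or.inl ⟨h, k⟩
        · exact Or.inr ⟨h, k⟩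
        · exact absurd (h.trans k.symm) hgab
      refine Eq.trans ?_ (card_pair (a := (a, b)) (b := (b, a)) fun h => hab (congrArg Prod.fst h))
      congr 1
      ext ⟨x, y⟩
      rw [mem_filter, mem_insert, mem_singleton]
      constructor
      · rintro ⟨hxy, he⟩
        rw [dif_pos (hmem _ hxy), Function.Embedding.some_apply, Option.some.injEq, Subtype.ext_iff,
          hsab] at he
        have hx : x ∈ ({a, b} : Finset (Fin n)) := he ▸ mem_insert_self _ _
        have hy : y ∈ ({a, b} : Finset (Fin n)) := he ▸ mem_insert_of_mem (mem_singleton_self _)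
        simp only [mem_insert, mem_singleton] at hx hy
        have hne := hmem _ hxy
        rcases hx with rfl | rfl <;> rcases hy with rfl | rfl <;> first
          | exact absurd rfl hne
          | exact Or.inl rfl
          | exact Or.inr rfl
      · intro hxy
        have hT' : ∀ u v, u ≠ v → ((g • u = u ∧ g • v = v) ∨ (g • u = v ∧ g • v = u)) → (u, v) ∈ T := by
          intro u v huv h
          rcases h with ⟨h1, h2⟩ | ⟨h1, h2⟩
          · exact mem_union_left _ (mem_offDiag.2 ⟨mem_filter.2 ⟨mem_univ _, h1⟩,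
              mem_filter.2 ⟨mem_univ _, h2⟩, huv⟩)
          · refine mem_union_right _ (mem_image.2 ⟨u, mem_filter.2 ⟨mem_univ _, ?_, ?_⟩, by rw [h1]⟩)
            · rw [h1, h2]
            · rw [h1]; exact huv.symm
        rcases hxy with h | h <;> (obtain ⟨rfl, rfl⟩ := Prod.mk.injEq .. ▸ h)
        · exact ⟨hT' _ _ hab hcase, by rw [dif_pos hab]; exact congrArg some (Subtype.ext hsab.symm)⟩
        · refine ⟨hT' _ _ hab.symm (hcase.imp And.symm And.symm), ?_⟩
          rw [dif_pos hab.symm]
          exact congrArg some (Subtype.ext ((pair_comm _ _).trans hsab.symm))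
    · intro q hq
      simp only [dif_pos (hmem q hq), coe_map, Set.mem_image, mem_coe]
      refine ⟨_, mem_filter.2 ⟨mem_univ _, Subtype.ext ?_⟩, rfl⟩
      rw [hsmul]
      simp only [image_insert, image_singleton]
      rcases mem_union.1 hq with h | h
      · obtain ⟨h1, h2, -⟩ := mem_offDiag.1 h
        rw [(mem_filter.1 h1).2, (mem_filter.1 h2).2]
      · obtain ⟨c, hc, rfl⟩ := mem_image.1 h
        rw [(smul_mem_two hc).1, pair_comm]
  have hfix : Nat.card (fixedBy {s : Finset (Fin n) // s.card = 2} g) = S.card := by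
    rw [Nat.card_eq_fintype_card, Fintype.card_ofFinset, hS]
    exact congrArg _ (filter_congr fun s _ => Iff.rfl)
  rw [hfix, mul_comm, ← smul_eq_mul, ← sum_const, ← hTS, hTcard, offDiag_card, sq]
  have := Nat.le_mul_self (fixSet (n := n) g).card
  omega

theorem moments (hn : 4 ≤ n) [IsMultiplyPretransitive G (Fin n) 4] :
    (∑ g : G, (((fixSet (n := n) g).card : ℂ) ^ 2 - 3 * (fixSet (n := n) g).card +
      (twoSet (n := n) g).card) ^ 2 = (4 * Fintype.card G : ℂ)) ∧
    ∑ g : G, (((fixSet (n := n) g).card : ℂ) ^ 2 - 3 * (fixSet (n := n) g).card + 2 -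
      (twoSet (n := n) g).card) ^ 2 = (4 * Fintype.card G : ℂ) := by
  have hdf : ∀ k ≤ 4, ∑ g : G, (((fixSet (n := n) g).card.descFactorial k : ℕ) : ℂ) =
      Fintype.card G := by
    intro k hk
    rw [← Nat.cast_sum, ← sum_card_emb hk hn (1 : Equiv.Perm (Fin k))]
    simp only [card_emb_fix]
  have d1 := hdf 1 (by norm_num)
  have d2 := hdf 2 (by norm_num)
  have d3 := hdf 3 (by norm_num)
  have d4 := hdf 4 le_rfl
  have hdesc : ∀ g : G,
      (((fixSet (n := n) g).card.descFactorial 1 : ℕ) : ℂ) = (fixSet (n := n) g).card ∧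
      (((fixSet (n := n) g).card.descFactorial 2 : ℕ) : ℂ) =
        (fixSet (n := n) g).card * ((fixSet (n := n) g).card - 1 : ℂ) ∧
      (((fixSet (n := n) g).card.descFactorial 3 : ℕ) : ℂ) =
        (fixSet (n := n) g).card * ((fixSet (n := n) g).card - 1 : ℂ) *
          ((fixSet (n := n) g).card - 2) ∧
      (((fixSet (n := n) g).card.descFactorial 4 : ℕ) : ℂ) =
        (fixSet (n := n) g).card * ((fixSet (n := n) g).card - 1 : ℂ) *
          ((fixSet (n := n) g).card - 2) * ((fixSet (n := n) g).card - 3) := by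
    intro g
    simp only [← descPochhammer_eval_eq_descFactorial]
    refine ⟨?_, ?_, ?_, ?_⟩ <;>
      simp [descPochhammer_succ_right, Polynomial.eval_mul, mul_assoc]
  simp only [fun g => (hdesc g).1] at d1
  simp only [fun g => (hdesc g).2.1] at d2
  simp only [fun g => (hdesc g).2.2.1] at d3
  simp only [fun g => (hdesc g).2.2.2] at d4
  have m1 : ∑ g : G, ((twoSet (n := n) g).card : ℂ) = Fintype.card G := by
    rw [← Nat.cast_sum, ← sum_card_emb (k := 2) (by norm_num) hn (Equiv.swap 0 1)]
    simp only [card_emb_two]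
  have m2 : ∑ g : G, ((twoSet (n := n) g).card : ℂ) * (fixSet (n := n) g).card = Fintype.card G := by
    rw [← sum_card_emb (k := 3) (by norm_num) hn (Equiv.swap 0 1)]
    simp only [card_emb_two_fix, Nat.cast_sum, Nat.cast_mul]
  have hod : ∀ g : G, ((fixSet (n := n) g).offDiag.card : ℂ) =
      ((fixSet (n := n) g).card : ℂ) * (fixSet (n := n) g).card - (fixSet (n := n) g).card := by
    intro g
    rw [offDiag_card, Nat.cast_sub (Nat.le_mul_self _), Nat.cast_mul]
  have m3 : ∑ g : G, ((twoSet (n := n) g).card : ℂ) *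
      (((fixSet (n := n) g).card : ℂ) * (fixSet (n := n) g).card - (fixSet (n := n) g).card) =
        Fintype.card G := by
    rw [← sum_card_emb (k := 4) le_rfl hn (Equiv.swap 0 1)]
    simp only [card_emb_two_fix_fix, Nat.cast_sum, Nat.cast_mul, hod]
  have hmm : ∀ g : G, (((twoSet (n := n) g).card * ((twoSet (n := n) g).card - 2) : ℕ) : ℂ) =
      ((twoSet (n := n) g).card : ℂ) * (twoSet (n := n) g).card - 2 * (twoSet (n := n) g).card := by
    intro g
    rcases eq_or_ne (twoSet (n := n) g) ∅ with h | h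
    · simp [h]
    obtain ⟨a, ha⟩ := nonempty_iff_ne_empty.2 h
    have h2 : 2 ≤ (twoSet (n := n) g).card := by
      rw [← card_pair (smul_mem_two ha).2.1.symm]
      exact card_le_card (insert_subset ha (singleton_subset_iff.2 (smul_mem_two ha).2.2))
    rw [Nat.cast_mul, Nat.cast_sub h2]
    push_cast
    ring
  have m4 : ∑ g : G, (((twoSet (n := n) g).card : ℂ) * (twoSet (n := n) g).card -
      2 * (twoSet (n := n) g).card) = Fintype.card G := by
    rw [← sum_card_emb (k := 4) le_rfl hn (Equiv.swap 0 1 * Equiv.swap 2 3)]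
    simp only [card_emb_two_two, Nat.cast_sum, hmm]
  constructor
  · have e : ∀ f m : ℂ, (f ^ 2 - 3 * f + m) ^ 2 = f * (f - 1) * (f - 2) * (f - 3)
        + (-2) * (f * (f - 1)) + 4 * f + 2 * (m * (f * f - f)) + (-4) * (m * f)
        + (m * m - 2 * m) + 2 * m := fun f m => by ring
    simp only [e, sum_add_distrib, ← mul_sum, d1, d2, d4, m1, m2, m3, m4]
    ring
  · have e : ∀ f m : ℂ, (f ^ 2 - 3 * f + 2 - m) ^ 2 = f * (f - 1) * (f - 2) * (f - 3)
        + 2 * (f * (f - 1)) + (-4) * f + 4 + (-2) * (m * (f * f - f)) + 4 * (m * f)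
        + (m * m - 2 * m) + (-2) * m := fun f m => by ring
    simp only [e, sum_add_distrib, ← mul_sum, d1, d2, d4, m1, m2, m3, m4, sum_const, card_univ,
      nsmul_eq_mul]
    ring

theorem irreducible (hn : 5 ≤ n) [IsMultiplyPretransitive G (Fin n) 4] :
    Cfsg.IsIrrCharacter G (chiTwoTwo (G := G) n) ∧ Cfsg.IsIrrCharacter G (chiOneOne (G := G) n) := by
  letI := pairAction n G
  obtain ⟨hA, hB⟩ := moments (G := G) (n := n) (by omega)
  have hG : (Fintype.card G : ℂ) ≠ 0 := Nat.cast_ne_zero.2 Fintype.card_ne_zero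
  set F : G → ℂ := PermChar.piFun G (Fin n) with hF
  have hFv : ∀ g, F g = (fixSet (n := n) g).card := fun g => by
    rw [hF, PermChar.piFun, Nat.card_eq_fintype_card, Fintype.card_ofFinset]
    rfl
  set P : G → ℂ := PermChar.piFun G {s : Finset (Fin n) // s.card = 2} with hP
  have hPv : ∀ g, 2 * P g + (fixSet (n := n) g).card =
      ((fixSet (n := n) g).card : ℂ) ^ 2 + (twoSet (n := n) g).card := fun g => by
    have := two_mul_card_fixed_pairs (n := n) g
    rw [hP, PermChar.piFun]
    exact_mod_cast this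
  have hFg : Cfsg.IsGeneralizedCharacter G F :=
    Char.IsCharacter.isGeneralizedCharacter PermChar.isCharacter_piFun
  have hPg : Cfsg.IsGeneralizedCharacter G P :=
    Char.IsCharacter.isGeneralizedCharacter PermChar.isCharacter_piFun
  have h22 : chiTwoTwo (G := G) n = P - F := by
    funext g
    rw [chiTwoTwo, Pi.sub_apply, hFv]
    linear_combination (-1 / 2 : ℂ) * hPv g
  have h11 : chiOneOne (G := G) n = F * F - F - P - F + 1 := by
    funext g
    rw [chiOneOne]
    simp only [Pi.add_apply, Pi.sub_apply, Pi.mul_apply, Pi.one_apply, hFv]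
    linear_combination (1 / 2 : ℂ) * hPv g
  have hfix1 : fixSet (n := n) (1 : G) = univ := by
    ext a; simp [fixSet]
  have htwo1 : twoSet (n := n) (1 : G) = ∅ := by
    ext a; simp [twoSet]
  have hnorm : ∀ (χ : G → ℂ) (v : G → ℂ), (∀ g, χ g = v g / 2) →
      (∀ g, (starRingEnd ℂ) (χ g) = χ g) → ∑ g, v g ^ 2 = 4 * (Fintype.card G : ℂ) →
      Cfsg.classInner χ χ = 1 := by
    intro χ v hv hr hs
    rw [Cfsg.classInner, Nat.card_eq_fintype_card, inv_mul_eq_iff_eq_mul₀ hG, mul_one]
    simp only [hr]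
    simp only [hv]
    rw [show (fun g => v g / 2 * (v g / 2)) = fun g => v g ^ 2 / 4 from funext fun g => by ring,
      ← sum_div, hs]
    ring
  obtain ⟨d, rfl⟩ : ∃ d, n = d + 5 := ⟨n - 5, by omega⟩
  constructor
  · refine GLFlags.isIrrCharacter_of_norm_one (h22 ▸ Char.IsGeneralizedCharacter.sub hPg hFg)
      (hnorm _ _ (fun g => rfl) (fun g => by simp [chiTwoTwo, map_div₀, map_ofNat]) hA) ?_
    obtain ⟨z, hz⟩ := Char.IsGeneralizedCharacter.exists_int_apply_one
      (h22 ▸ Char.IsGeneralizedCharacter.sub hPg hFg :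
        Cfsg.IsGeneralizedCharacter G (chiTwoTwo (G := G) (d + 5)))
    refine ⟨z, ?_, hz⟩
    rw [chiTwoTwo, hfix1, htwo1, card_univ, Fintype.card_fin, card_empty,
      div_eq_iff (by norm_num : (2 : ℂ) ≠ 0)] at hz
    have h' : ((d + 5 : ℕ) : ℤ) ^ 2 - 3 * (d + 5 : ℕ) + 0 = z * 2 := by exact_mod_cast hz
    push_cast at h'
    nlinarith
  · have hg : Cfsg.IsGeneralizedCharacter G (chiOneOne (G := G) (d + 5)) := h11 ▸
      Char.IsGeneralizedCharacter.add (Char.IsGeneralizedCharacter.sub (Char.IsGeneralizedCharacter.sub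
        (Char.IsGeneralizedCharacter.sub (Char.IsGeneralizedCharacter.mul hFg hFg) hFg) hPg) hFg)
        Char.IsGeneralizedCharacter.one
    refine GLFlags.isIrrCharacter_of_norm_one hg
      (hnorm _ _ (fun g => rfl) (fun g => by simp [chiOneOne, map_div₀, map_ofNat]) hB) ?_
    obtain ⟨z, hz⟩ := Char.IsGeneralizedCharacter.exists_int_apply_one hg
    refine ⟨z, ?_, hz⟩
    rw [chiOneOne, hfix1, htwo1, card_univ, Fintype.card_fin, card_empty,
      div_eq_iff (by norm_num : (2 : ℂ) ≠ 0)] at hz
    have h' : ((d + 5 : ℕ) : ℤ) ^ 2 - 3 * (d + 5 : ℕ) + 2 - 0 = z * 2 := by exact_mod_cast hz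
    push_cast at h'
    nlinarith

end CfsgLib.SmallSym
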