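import Cfsg.Agent.Lib.BlockPrincipal.SplitBNUnique
import Cfsg.Agent.Lib.AutPSL.Root
import Cfsg.Agent.Lib.Linear.Transvection
import Mathlib.LinearAlgebra.Matrix.SchurComplement
import Mathlib.LinearAlgebra.Matrix.Permutation

/-!
# The special linear group as a group with rank one data
-/

set_option autoImplicit false
set_option maxHeartbeats 1000000

open scoped Classical MatrixGroups

namespace CfsgLib.SplitBN

universe w

open Matrix

variable {F : Type w} [Field F] {n : ℕ}

theorem monomial_ne_zero {m : SL(n, F)} {σ : Equiv.Perm (Fin n)} {ε : Fin n → F}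
    (hm : ∀ k l, m.1 k l = if l = σ k then ε k else 0) (k : Fin n) : ε k ≠ 0 := by
  intro h
  have h0 := Matrix.det_eq_zero_of_row_eq_zero k (A := m.1) (fun l => by show m.1 k l = 0; rw [hm k l, h, ite_self])
  rw [m.2] at h0
  exact one_ne_zero h0

/-- Conjugation by a monomial matrix. -/
theorem monomial_conj_apply {m : SL(n, F)} {σ : Equiv.Perm (Fin n)} {ε : Fin n → F}
    (hm : ∀ k l, m.1 k l = if l = σ k then ε k else 0) (g : SL(n, F)) (a b : Fin n) :
    ε a * (m⁻¹ * g * m).1 (σ a) (σ b) = g.1 a b * ε b := by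
  have h : (m.1 * (m⁻¹ * g * m).1) a (σ b) = (g.1 * m.1) a (σ b) :=
    congrArg (fun x : SL(n, F) => x.1 a (σ b)) (show m * (m⁻¹ * g * m) = g * m by group)
  rw [Matrix.mul_apply, Matrix.mul_apply] at h
  rw [Finset.sum_eq_single (σ a) (fun c _ hc => by rw [hm a c, if_neg hc, zero_mul]) (by simp),
    Finset.sum_eq_single b (fun c _ hc => by
      rw [hm c, if_neg (fun h => hc (σ.injective h).symm), mul_zero]) (by simp),
    hm a (σ a), if_pos rfl, hm b (σ b), if_pos rfl] at h
  exact h

theorem monomial_conj_transvection {m : SL(n, F)} {σ : Equiv.Perm (Fin n)} {ε : Fin n → F}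
    (hm : ∀ k l, m.1 k l = if l = σ k then ε k else 0) {a b : Fin n} (hab : a ≠ b) (c : F) :
    m⁻¹ * SpecialLinearGroup.transvection hab c * m =
      SpecialLinearGroup.transvection (σ.injective.ne hab) (c * ε b / ε a) := by
  refine Subtype.ext (Matrix.ext fun k l => ?_)
  obtain ⟨k, rfl⟩ := σ.surjective k
  obtain ⟨l, rfl⟩ := σ.surjective l
  refine mul_left_cancel₀ (monomial_ne_zero hm k) ?_
  rw [monomial_conj_apply hm, SpecialLinearGroup.transvection_coe,
    SpecialLinearGroup.transvection_coe, Matrix.add_apply, Matrix.add_apply, Matrix.one_apply,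
    Matrix.one_apply, Matrix.single_apply, Matrix.single_apply]
  have ha := monomial_ne_zero hm a
  by_cases hkl : k = l
  · subst hkl
    have : ¬ (a = k ∧ b = k) := fun h => hab (h.1.trans h.2.symm)
    simp [this]
  · by_cases h : a = k ∧ b = l
    · obtain ⟨rfl, rfl⟩ := h
      simp [hab]
      field_simp
    · simp [hkl, h]

/-- The upper unitriangular group. -/
def upper (F : Type w) [Field F] [Finite F] (n : ℕ) : Subgroup SL(n, F) :=
  AutPSL.uniTri n F

theorem mem_upper [Finite F] {g : SL(n, F)} :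
    g ∈ upper F n ↔ g.1.BlockTriangular id ∧ ∀ k, g.1 k k = 1 := AutPSL.mem_uniTri

/-- Transpose. -/
def trSL (g : SL(n, F)) : SL(n, F) := ⟨g.1ᵀ, by rw [Matrix.det_transpose]; exact g.2⟩

theorem trSL_mul (g h : SL(n, F)) : trSL (g * h) = trSL h * trSL g :=
  Subtype.ext (Matrix.transpose_mul g.1 h.1)

theorem trSL_one : trSL (1 : SL(n, F)) = 1 := Subtype.ext Matrix.transpose_one

theorem trSL_trSL (g : SL(n, F)) : trSL (trSL g) = g := Subtype.ext (Matrix.transpose_transpose g.1)

/-- Inverse transpose. -/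
noncomputable def tauHom (F : Type w) [Field F] (n : ℕ) : SL(n, F) →* SL(n, F) where
  toFun g := (trSL g)⁻¹
  map_one' := by rw [trSL_one, inv_one]
  map_mul' g h := by rw [trSL_mul, _root_.mul_inv_rev]

theorem tauHom_apply (g : SL(n, F)) : tauHom F n g = (trSL g)⁻¹ := rfl

theorem tauHom_tauHom (g : SL(n, F)) : tauHom F n (tauHom F n g) = g := by
  rw [tauHom_apply g, map_inv, tauHom_apply, inv_inv, trSL_trSL]

/-- The lower unitriangular group. -/
noncomputable def lower (F : Type w) [Field F] [Finite F] (n : ℕ) : Subgroup SL(n, F) :=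
  (upper F n).comap (tauHom F n)

theorem mem_lower [Finite F] {g : SL(n, F)} :
    g ∈ lower F n ↔ (∀ k l : Fin n, k < l → g.1 k l = 0) ∧ ∀ k, g.1 k k = 1 := by
  show tauHom F n g ∈ upper F n ↔ _
  rw [tauHom_apply, Subgroup.inv_mem_iff, mem_upper]
  exact ⟨fun h => ⟨fun k l hkl => h.1 (show id k < id l from hkl), h.2⟩,
    fun h => ⟨fun k l hkl => h.1 l k hkl, h.2⟩⟩

section Block

variable (i j : Fin n) (hij : i ≠ j)

/-- Splitting off two indices. -/
noncomputable def splitPair : Fin n ≃ Fin 2 ⊕ {k : Fin n // k ≠ i ∧ k ≠ j} where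
  toFun k := if hi : k = i then Sum.inl 0 else if hj : k = j then Sum.inl 1 else Sum.inr ⟨k, hi, hj⟩
  invFun x := Sum.elim (fun a => if a = 0 then i else j) Subtype.val x
  left_inv k := by
    by_cases hi : k = i
    · simp [hi]
    · by_cases hj : k = j
      · subst hj; simp [hi]
      · simp [hi, hj]
  right_inv x := by
    rcases x with a | ⟨k, hk⟩
    · fin_cases a <;> simp [hij.symm]
    · simp [hk.1, hk.2]

theorem splitPair_left : splitPair i j hij i = Sum.inl 0 := by simp [splitPair]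

theorem splitPair_right : splitPair i j hij j = Sum.inl 1 := by simp [splitPair, hij.symm]

theorem splitPair_other {k : Fin n} (hi : k ≠ i) (hj : k ≠ j) :
    splitPair i j hij k = Sum.inr ⟨k, hi, hj⟩ := by simp [splitPair, hi, hj]

/-- `SL 2` at two indices. -/
noncomputable def blockHom : SL(2, F) →* SL(n, F) where
  toFun A := ⟨Matrix.reindex (splitPair i j hij).symm (splitPair i j hij).symm
    (Matrix.fromBlocks A.1 0 0 1), by
      rw [Matrix.det_reindex_self, Matrix.det_fromBlocks_zero₂₁, A.2, Matrix.det_one, mul_one]⟩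
  map_one' := by
    refine Subtype.ext ?_
    show Matrix.reindex _ _ (Matrix.fromBlocks (1 : Matrix (Fin 2) (Fin 2) F) 0 0 1) = 1
    rw [Matrix.fromBlocks_one]
    simp
  map_mul' A B := by
    refine Subtype.ext ?_
    show Matrix.reindex _ _ (Matrix.fromBlocks (A.1 * B.1) 0 0 1) =
      Matrix.reindex _ _ _ * Matrix.reindex _ _ _
    simp [Matrix.fromBlocks_multiply, Matrix.submatrix_mul_equiv]

theorem blockHom_apply (A : SL(2, F)) (k l : Fin n) :
    (blockHom i j hij A).1 k l =
      Matrix.fromBlocks A.1 0 0 (1 : Matrix {k : Fin n // k ≠ i ∧ k ≠ j} _ F)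
        (splitPair i j hij k) (splitPair i j hij l) := rfl

theorem blockHom_ii (A : SL(2, F)) : (blockHom i j hij A).1 i i = A.1 0 0 := by
  rw [blockHom_apply, splitPair_left, Matrix.fromBlocks_apply₁₁]

theorem blockHom_ij (A : SL(2, F)) : (blockHom i j hij A).1 i j = A.1 0 1 := by
  rw [blockHom_apply, splitPair_left, splitPair_right, Matrix.fromBlocks_apply₁₁]

theorem blockHom_ji (A : SL(2, F)) : (blockHom i j hij A).1 j i = A.1 1 0 := by
  rw [blockHom_apply, splitPair_left, splitPair_right, Matrix.fromBlocks_apply₁₁]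

theorem blockHom_jj (A : SL(2, F)) : (blockHom i j hij A).1 j j = A.1 1 1 := by
  rw [blockHom_apply, splitPair_right, Matrix.fromBlocks_apply₁₁]

theorem blockHom_other (A : SL(2, F)) {k l : Fin n}
    (h : (k ≠ i ∧ k ≠ j) ∨ (l ≠ i ∧ l ≠ j)) :
    (blockHom i j hij A).1 k l = if k = l then 1 else 0 := by
  rw [blockHom_apply]
  rcases eq_or_ne k i with rfl | hki
  · obtain ⟨hli, hlj⟩ : l ≠ k ∧ l ≠ j := h.resolve_left fun h => h.1 rfl
    rw [splitPair_left, splitPair_other _ _ _ hli hlj, Matrix.fromBlocks_apply₁₂, if_neg hli.symm]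
    rfl
  rcases eq_or_ne k j with rfl | hkj
  · obtain ⟨hli, hlj⟩ : l ≠ i ∧ l ≠ k := h.resolve_left fun h => h.2 rfl
    rw [splitPair_right, splitPair_other _ _ _ hli hlj, Matrix.fromBlocks_apply₁₂, if_neg hlj.symm]
    rfl
  rw [splitPair_other _ _ _ hki hkj]
  rcases eq_or_ne l i with rfl | hli
  · rw [splitPair_left, Matrix.fromBlocks_apply₂₁, if_neg hki]; rfl
  rcases eq_or_ne l j with rfl | hlj
  · rw [splitPair_right, Matrix.fromBlocks_apply₂₁, if_neg hkj]; rfl
  rw [splitPair_other _ _ _ hli hlj, Matrix.fromBlocks_apply₂₂, Matrix.one_apply]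
  simp

theorem blockHom_ext_iff {A : SL(2, F)} {g : SL(n, F)} (h00 : g.1 i i = A.1 0 0)
    (h01 : g.1 i j = A.1 0 1) (h10 : g.1 j i = A.1 1 0) (h11 : g.1 j j = A.1 1 1)
    (hother : ∀ k l, ((k ≠ i ∧ k ≠ j) ∨ (l ≠ i ∧ l ≠ j)) → g.1 k l = if k = l then 1 else 0) :
    g = blockHom i j hij A := by
  refine Subtype.ext (Matrix.ext fun k l => ?_)
  by_cases h : (k ≠ i ∧ k ≠ j) ∨ (l ≠ i ∧ l ≠ j)
  · rw [hother k l h, blockHom_other _ _ _ _ h]
  · rw [not_or, not_and_or, not_and_or, not_not, not_not, not_not, not_not] at h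
    rcases h with ⟨rfl | rfl, rfl | rfl⟩
    · rw [h00, blockHom_ii]
    · rw [h01, blockHom_ij]
    · rw [h10, blockHom_ji]
    · rw [h11, blockHom_jj]

theorem blockHom_x2 (a : F) :
    blockHom i j hij (x2 a) = SpecialLinearGroup.transvection hij a := by
  symm
  refine blockHom_ext_iff i j hij ?_ ?_ ?_ ?_ ?_ <;>
    simp [SpecialLinearGroup.transvection_coe, x2, Matrix.single_apply, hij, hij.symm]
  intro k l h
  have : ¬ (i = k ∧ j = l) := by rintro ⟨rfl, rfl⟩; simp at h
  simp [Matrix.one_apply, this]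

theorem blockHom_y2 (a : F) :
    blockHom i j hij (y2 a) = SpecialLinearGroup.transvection hij.symm a := by
  symm
  refine blockHom_ext_iff i j hij ?_ ?_ ?_ ?_ ?_ <;>
    simp [SpecialLinearGroup.transvection_coe, y2, Matrix.single_apply, hij, hij.symm]
  intro k l h
  have : ¬ (j = k ∧ i = l) := by rintro ⟨rfl, rfl⟩; simp at h
  simp [Matrix.one_apply, this]

theorem blockHom_s2_apply (k l : Fin n) :
    (blockHom i j hij (s2 : SL(2, F))).1 k l =
      if l = Equiv.swap i j k then (if k = j then -1 else 1) else 0 := by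
  by_cases h : (k ≠ i ∧ k ≠ j) ∨ (l ≠ i ∧ l ≠ j)
  · rw [blockHom_other _ _ _ _ h]
    rcases h with ⟨h1, h2⟩ | ⟨h1, h2⟩
    · rw [Equiv.swap_apply_of_ne_of_ne h1 h2, if_neg h2]
      simp [eq_comm]
    · by_cases hk : k = l
      · subst hk; simp [Equiv.swap_apply_of_ne_of_ne h1 h2, h2]
      · have h3 : l ≠ Equiv.swap i j k := fun e => hk (by
          have := congrArg (Equiv.swap i j) e
          rw [Equiv.swap_apply_self, Equiv.swap_apply_of_ne_of_ne h1 h2] at this
          exact this.symm)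
        rw [if_neg hk, if_neg h3]
  · rw [not_or, not_and_or, not_and_or, not_not, not_not, not_not, not_not] at h
    rcases h with ⟨rfl | rfl, rfl | rfl⟩
    · rw [blockHom_ii]; simp [s2, hij]
    · rw [blockHom_ij]; simp [s2, hij]
    · rw [blockHom_ji]; simp [s2]
    · rw [blockHom_jj]; simp [s2, hij.symm]

theorem blockHom_h2_apply (c : Fˣ) (k l : Fin n) :
    (blockHom i j hij (h2 c : SL(2, F))).1 k l =
      if l = (1 : Equiv.Perm (Fin n)) k then
        (if k = i then (c : F) else if k = j then ((c⁻¹ : Fˣ) : F) else 1) else 0 := by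
  rw [Equiv.Perm.one_apply]
  by_cases h : (k ≠ i ∧ k ≠ j) ∨ (l ≠ i ∧ l ≠ j)
  · rw [blockHom_other _ _ _ _ h]
    by_cases hk : k = l
    · subst hk
      have h' : k ≠ i ∧ k ≠ j := h.elim id id
      simp [h'.1, h'.2]
    · rw [if_neg hk, if_neg (Ne.symm hk)]
  · rw [not_or, not_and_or, not_and_or, not_not, not_not, not_not, not_not] at h
    rcases h with ⟨rfl | rfl, rfl | rfl⟩
    · rw [blockHom_ii]; simp [h2]
    · rw [blockHom_ij]; simp [h2, hij, hij.symm]
    · rw [blockHom_ji]; simp [h2, hij, hij.symm]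
    · rw [blockHom_jj]; simp [h2, hij, hij.symm]

end Block

end CfsgLib.SplitBN
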