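import Cfsg.Agent.Lib.BlockPrincipal.SplitBNLinear

/-!
# Rank one data of the special linear group
-/

set_option autoImplicit false
set_option maxHeartbeats 1000000

open scoped Classical MatrixGroups

namespace CfsgLib.SplitBN

universe w

open Matrix

variable {F : Type w} [Field F] [Finite F] {n : ℕ}

/-- A monomial element normalizes or permutes the triangular conditions. -/
theorem monomial_conj_mem_upper {m : SL(n, F)} {σ : Equiv.Perm (Fin n)} {ε : Fin n → F}
    (hm : ∀ k l, m.1 k l = if l = σ k then ε k else 0) {g : SL(n, F)}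
    (hz : ∀ k l, σ l < σ k → g.1 k l = 0) (hd : ∀ k, g.1 k k = 1) :
    m⁻¹ * g * m ∈ upper F n := by
  refine mem_upper.2 ⟨fun a b hab => ?_, fun a => ?_⟩
  · obtain ⟨k, rfl⟩ := σ.surjective a
    obtain ⟨l, rfl⟩ := σ.surjective b
    have h := monomial_conj_apply hm g k l
    rw [hz k l hab, zero_mul, mul_eq_zero] at h
    exact h.resolve_left (monomial_ne_zero hm k)
  · obtain ⟨k, rfl⟩ := σ.surjective a
    have h := monomial_conj_apply hm g k k
    rw [hd, one_mul] at h
    exact mul_left_cancel₀ (monomial_ne_zero hm k) (h.trans (mul_one _).symm)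

/-- The `(i, i + 1)` entry is additive on the unitriangular group. -/
theorem upper_entry_mul {i j : Fin n} (hj : (j : ℕ) = i + 1) {g h : SL(n, F)}
    (hg : g ∈ upper F n) (hh : h ∈ upper F n) : (g * h).1 i j = g.1 i j + h.1 i j := by
  show (g.1 * h.1) i j = _
  have hij : i ≠ j := fun e => by rw [e] at hj; omega
  rw [Matrix.mul_apply, Finset.sum_eq_add_of_mem i j (Finset.mem_univ _) (Finset.mem_univ _) hij,
    (mem_upper.1 hg).2, (mem_upper.1 hh).2, one_mul, mul_one, add_comm]
  intro c _ hc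
  rcases lt_or_gt_of_ne hc.1 with h1 | h1
  · rw [(mem_upper.1 hg).1 (show id c < id i from h1), zero_mul]
  · have : j < c := by
      have h2 := Fin.lt_def.1 h1
      have h3 : (c : ℕ) ≠ j := fun e => hc.2 (Fin.ext e)
      rw [Fin.lt_def]; omega
    rw [(mem_upper.1 hh).1 (show id j < id c from this), mul_zero]

theorem upper_entry_inv {i j : Fin n} (hj : (j : ℕ) = i + 1) {g : SL(n, F)} (hg : g ∈ upper F n) :
    g⁻¹.1 i j = -g.1 i j := by
  have h := upper_entry_mul hj (inv_mem hg) hg
  rw [inv_mul_cancel] at h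
  have hij : i ≠ j := fun e => by rw [e] at hj; omega
  rw [show ((1 : SL(n, F))).1 i j = 0 from Matrix.one_apply_ne hij] at h
  exact eq_neg_of_add_eq_zero_left h.symm

theorem trSL_blockHom {i j : Fin n} (hij : i ≠ j) (A : SL(2, F)) :
    trSL (blockHom i j hij A) = blockHom i j hij (trSL A) := by
  refine blockHom_ext_iff i j hij (blockHom_ii i j hij A) (blockHom_ji i j hij A)
    (blockHom_ij i j hij A) (blockHom_jj i j hij A) fun k l h => ?_
  show (blockHom i j hij A).1 l k = _
  rw [blockHom_other i j hij A h.symm]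
  exact if_congr eq_comm rfl rfl

theorem tauHom_blockHom {i j : Fin n} (hij : i ≠ j) (A : SL(2, F)) :
    tauHom F n (blockHom i j hij A) = blockHom i j hij (tauHom F 2 A) := by
  rw [tauHom_apply, trSL_blockHom, ← map_inv, tauHom_apply]

omit [Finite F] in
theorem tauHom_s2 : tauHom F 2 (s2 : SL(2, F)) = s2 := by
  rw [tauHom_apply, inv_eq_iff_mul_eq_one]
  apply Subtype.ext
  show (s2 : SL(2, F)).1ᵀ * (s2 : SL(2, F)).1 = 1
  ext a b
  fin_cases a <;> fin_cases b <;> simp [s2, Matrix.mul_apply]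

omit [Finite F] in
theorem tauHom_x2 (a : F) : tauHom F 2 (x2 a) = y2 (-a) := by
  rw [tauHom_apply, inv_eq_iff_mul_eq_one]
  apply Subtype.ext
  show (x2 a).1ᵀ * (y2 (-a)).1 = 1
  ext k l
  fin_cases k <;> fin_cases l <;> simp [x2, y2, Matrix.mul_apply]

/-- A consecutive pair of indices. -/
abbrev Adj (n : ℕ) : Type := {q : Fin n × Fin n // (q.2 : ℕ) = q.1 + 1}

theorem adj_ne (q : Adj n) : q.1.1 ≠ q.1.2 := fun e => by
  have h := q.2
  rw [e] at h
  omega

theorem adj_lt (q : Adj n) : q.1.1 < q.1.2 := by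
  rw [Fin.lt_def]
  have := q.2
  omega

theorem s_conj_mem_upper (q : Adj n) {r : SL(n, F)} (hr : r ∈ upper F n)
    (h0 : r.1 q.1.1 q.1.2 = 0) :
    (blockHom _ _ (adj_ne q) (s2 : SL(2, F)))⁻¹ * r * blockHom _ _ (adj_ne q) (s2 : SL(2, F)) ∈
      upper F n := by
  refine monomial_conj_mem_upper (blockHom_s2_apply _ _ (adj_ne q)) (fun k l h => ?_)
    (mem_upper.1 hr).2
  by_cases hlk : l < k
  · exact (mem_upper.1 hr).1 (show id l < id k from hlk)
  have hne : k ≠ l := fun e => by rw [e] at h; exact lt_irrefl _ h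
  have hkl : k < l := lt_of_le_of_ne (not_lt.1 hlk) hne
  suffices k = q.1.1 ∧ l = q.1.2 by rw [this.1, this.2]; exact h0
  have hj := q.2
  simp only [Equiv.swap_apply_def] at h
  rw [Fin.lt_def] at hkl h
  constructor <;> apply Fin.ext <;> split_ifs at h with h1 h2 h3 h4 <;>
    simp only [Fin.ext_iff] at * <;> omega

theorem h_conj_mem_upper (q : Adj n) (c : Fˣ) {g : SL(n, F)} (hg : g ∈ upper F n) :
    (blockHom _ _ (adj_ne q) (h2 c : SL(2, F)))⁻¹ * g * blockHom _ _ (adj_ne q) (h2 c : SL(2, F)) ∈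
      upper F n :=
  monomial_conj_mem_upper (blockHom_h2_apply _ _ (adj_ne q) c)
    (fun k l h => (mem_upper.1 hg).1 (show id l < id k from h)) (mem_upper.1 hg).2

theorem x_mem_upper (q : Adj n) (a : F) : blockHom _ _ (adj_ne q) (x2 a) ∈ upper F n := by
  rw [blockHom_x2]
  refine mem_upper.2 ⟨fun k l h => ?_, fun k => ?_⟩
  · have h' : l < k := h
    rw [SpecialLinearGroup.transvection_coe, Matrix.add_apply, Matrix.one_apply_ne (ne_of_gt h'),
      Matrix.single_apply, if_neg, add_zero]
    rintro ⟨rfl, rfl⟩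
    exact lt_asymm (adj_lt q) h'
  · rw [SpecialLinearGroup.transvection_coe, Matrix.add_apply, Matrix.one_apply_eq,
      Matrix.single_apply, if_neg, add_zero]
    exact fun h => adj_ne q (h.1.trans h.2.symm)

/-- The rank one data of a consecutive pair of indices. -/
noncomputable def rankOneSL (q : Adj n) : RankOne F (upper F n) (lower F n) where
  φ := blockHom _ _ (adj_ne q)
  R := {r | r ∈ upper F n ∧ r.1 q.1.1 q.1.2 = 0}
  Rm := {r | tauHom F n r ∈ upper F n ∧ (tauHom F n r).1 q.1.1 q.1.2 = 0}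
  y_injective a b h := by
    have h' := congrArg (fun x : SL(n, F) => x.1 q.1.2 q.1.1) h
    simp only [blockHom_ji] at h'
    simpa [y2] using h'
  x_mem := x_mem_upper q
  y_mem a := by
    show tauHom F n _ ∈ upper F n
    rw [show y2 a = tauHom F 2 (x2 (-a)) by rw [tauHom_x2, neg_neg], ← tauHom_blockHom,
      tauHom_tauHom]
    exact x_mem_upper q _
  U_decomp g hg := by
    refine ⟨g.1 q.1.1 q.1.2, g * (blockHom _ _ (adj_ne q) (x2 (g.1 q.1.1 q.1.2)))⁻¹,
      ⟨mul_mem hg (inv_mem (x_mem_upper q _)), ?_⟩, (inv_mul_cancel_right _ _).symm⟩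
    rw [upper_entry_mul q.2 hg (inv_mem (x_mem_upper q _)),
      upper_entry_inv q.2 (x_mem_upper q _), blockHom_ij]
    simp [x2]
  R_x r hr a := by
    refine ⟨mul_mem (mul_mem (inv_mem (x_mem_upper q a)) hr.1) (x_mem_upper q a), ?_⟩
    rw [upper_entry_mul q.2 (mul_mem (inv_mem (x_mem_upper q a)) hr.1) (x_mem_upper q a),
      upper_entry_mul q.2 (inv_mem (x_mem_upper q a)) hr.1,
      upper_entry_inv q.2 (x_mem_upper q a), hr.2]
    ring
  R_s r hr := s_conj_mem_upper q hr.1 hr.2
  Um_decomp g hg := by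
    have hg' : tauHom F n g ∈ upper F n := hg
    refine ⟨-(tauHom F n g).1 q.1.1 q.1.2,
      g * (blockHom _ _ (adj_ne q) (y2 (-(tauHom F n g).1 q.1.1 q.1.2)))⁻¹,
      ?_, (inv_mul_cancel_right _ _).symm⟩
    rw [← tauHom_x2, ← tauHom_blockHom]
    show tauHom F n _ ∈ upper F n ∧ _
    rw [map_mul, map_inv, tauHom_tauHom]
    refine ⟨mul_mem hg' (inv_mem (x_mem_upper q _)), ?_⟩
    rw [upper_entry_mul q.2 hg' (inv_mem (x_mem_upper q _)),
      upper_entry_inv q.2 (x_mem_upper q _), blockHom_ij]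
    simp [x2]
  Rm_s r hr := by
    show tauHom F n _ ∈ upper F n
    rw [map_mul, map_mul, map_inv, tauHom_blockHom, tauHom_s2]
    have h1 := s_conj_mem_upper q hr.1 hr.2
    have h2' := h_conj_mem_upper q (-1 : Fˣ) h1
    have hs : blockHom q.1.1 q.1.2 (adj_ne q) (s2 : SL(2, F)) * blockHom _ _ (adj_ne q) (h2 (-1)) =
        (blockHom _ _ (adj_ne q) (s2 : SL(2, F)))⁻¹ := by
      refine eq_inv_of_mul_eq_one_left ?_
      rw [← map_mul, ← map_mul, s2_h2, mul_assoc, s2_sq, h2_mul]
      simp [h2_one]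
    rw [show ∀ a b : SL(n, F), b⁻¹ * (a⁻¹ * tauHom F n r * a) * b =
      (a * b)⁻¹ * tauHom F n r * (a * b) from fun a b => by group, hs, inv_inv] at h2'
    exact h2'
  h_norm c g hg := h_conj_mem_upper q c hg

theorem transvection_mem_of_rankOne (H : Subgroup SL(n, F)) (hlow : lower F n ≤ H)
    (hs : ∀ q : Adj n, blockHom _ _ (adj_ne q) (s2 : SL(2, F)) ∈ H) :
    ∀ (d : ℕ) (a b : Fin n) (hab : a ≠ b), (b : ℕ) = a + (d + 1) →
      ∀ c : F, SpecialLinearGroup.transvection hab c ∈ H := by
  have hlowT : ∀ (a b : Fin n) (hab : a ≠ b), b < a → ∀ c : F,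
      SpecialLinearGroup.transvection hab c ∈ H := by
    intro a b hab hba c
    refine hlow (mem_lower.2 ⟨fun k l hkl => ?_, fun k => ?_⟩)
    · rw [SpecialLinearGroup.transvection_coe, Matrix.add_apply, Matrix.one_apply_ne (ne_of_lt hkl),
        Matrix.single_apply, if_neg, add_zero]
      rintro ⟨rfl, rfl⟩
      exact lt_asymm hba hkl
    · rw [SpecialLinearGroup.transvection_coe, Matrix.add_apply, Matrix.one_apply_eq,
        Matrix.single_apply, if_neg, add_zero]
      exact fun h => hab (h.1.trans h.2.symm)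
  intro d
  induction d with
  | zero =>
    intro a b hab hb c
    let q : Adj n := ⟨(a, b), by simpa using hb⟩
    have hm := blockHom_s2_apply (F := F) a b hab
    have h := monomial_conj_transvection hm hab.symm (-c)
    simp only [Equiv.swap_apply_left, Equiv.swap_apply_right, if_neg hab, if_true,
      ite_true] at h
    have hmem : (blockHom a b hab (s2 : SL(2, F)))⁻¹ *
        SpecialLinearGroup.transvection hab.symm (-c) * blockHom a b hab (s2 : SL(2, F)) ∈ H :=
      H.mul_mem (H.mul_mem (H.inv_mem (hs q))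
        (hlowT b a hab.symm (by rw [Fin.lt_def]; omega) _)) (hs q)
    rw [h] at hmem
    simpa using hmem
  | succ d ih =>
    intro a b hab hb c
    let a' : Fin n := ⟨a + 1, by omega⟩
    have ha'b : a' ≠ b := fun e => by
      have := congrArg Fin.val e
      simp [a'] at this
      omega
    have haa' : a ≠ a' := fun e => by
      have := congrArg Fin.val e
      simp [a'] at this
    let q : Adj n := ⟨(a, a'), rfl⟩
    have hm := blockHom_s2_apply (F := F) a a' haa'
    have h := monomial_conj_transvection hm ha'b (-c)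
    have hσb : Equiv.swap a a' b = b := Equiv.swap_apply_of_ne_of_ne hab.symm ha'b.symm
    simp only [Equiv.swap_apply_right, hσb, if_neg ha'b.symm, if_true, ite_true] at h
    have hmem : (blockHom a a' haa' (s2 : SL(2, F)))⁻¹ *
        SpecialLinearGroup.transvection ha'b (-c) * blockHom a a' haa' (s2 : SL(2, F)) ∈ H :=
      H.mul_mem (H.mul_mem (H.inv_mem (hs q))
        (ih a' b ha'b (by simp [a']; omega) _)) (hs q)
    rw [h] at hmem
    simpa using hmem

theorem exists_rev_monomial (n : ℕ) : ∃ (m : SL(n, F)) (ε : Fin n → F),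
    ∀ k l, m.1 k l = if l = Fin.revPerm k then ε k else 0 := by
  rcases Nat.eq_zero_or_pos n with hn | hn
  · subst hn
    exact ⟨1, fun _ => 1, fun k => k.elim0⟩
  let s : F := ((Equiv.Perm.sign (Fin.revPerm : Equiv.Perm (Fin n)) : ℤ) : F)
  let ε : Fin n → F := fun k => if k = ⟨0, hn⟩ then s else 1
  refine ⟨⟨Matrix.diagonal ε * Equiv.Perm.permMatrix F (Fin.revPerm : Equiv.Perm (Fin n)), ?_⟩, ε,
    fun k l => ?_⟩
  · rw [Matrix.det_mul, Matrix.det_diagonal, Matrix.det_permutation,
      Finset.prod_eq_single_of_mem (f := ε) (⟨0, hn⟩ : Fin n) (Finset.mem_univ _)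
        (fun b _ hb => if_neg hb)]
    simp only [ε, if_true]
    rcases Int.units_eq_one_or (Equiv.Perm.sign (Fin.revPerm : Equiv.Perm (Fin n))) with h | h <;>
      simp [s, h]
  · show (Matrix.diagonal ε * Equiv.Perm.permMatrix F (Fin.revPerm : Equiv.Perm (Fin n))) k l = _
    rw [Matrix.diagonal_mul]
    simp [Equiv.Perm.permMatrix, PEquiv.toMatrix_apply, eq_comm]

/-- The data of the special linear group. -/
noncomputable def dataSL (F : Type w) [Field F] [Finite F] (n : ℕ) :
    Data.{w, w, 0} F SL(n, F) where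
  U := upper F n
  Um := lower F n
  ι := Adj n
  rankOne := rankOneSL
  gen := by
    refine CfsgLib.Linear.SL_eq_top_of_transvection_mem _ fun a b hab c => ?_
    have hlow : lower F n ≤ Subgroup.closure ((lower F n : Set SL(n, F)) ∪
        Set.range fun q : Adj n => (rankOneSL q).φ s2) :=
      fun g hg => Subgroup.subset_closure (Or.inl hg)
    rcases lt_or_gt_of_ne hab with h | h
    · rw [Fin.lt_def] at h
      exact transvection_mem_of_rankOne _ hlow
        (fun q => Subgroup.subset_closure (Or.inr ⟨q, rfl⟩)) (b - a - 1) a b hab (by omega) c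
    · refine hlow (mem_lower.2 ⟨fun k l hkl => ?_, fun k => ?_⟩)
      · rw [SpecialLinearGroup.transvection_coe, Matrix.add_apply,
          Matrix.one_apply_ne (ne_of_lt hkl), Matrix.single_apply, if_neg, add_zero]
        rintro ⟨rfl, rfl⟩
        exact lt_asymm h hkl
      · rw [SpecialLinearGroup.transvection_coe, Matrix.add_apply, Matrix.one_apply_eq,
          Matrix.single_apply, if_neg, add_zero]
        exact fun h' => hab (h'.1.trans h'.2.symm)
  w := (exists_rev_monomial (F := F) n).choose⁻¹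
  w_conj g hg := by
    obtain ⟨ε, hm⟩ := (exists_rev_monomial (F := F) n).choose_spec
    rw [inv_inv]
    exact monomial_conj_mem_upper hm
      (fun k l h => (mem_lower.1 hg).1 k l (Fin.rev_lt_rev.1 h)) (mem_lower.1 hg).2

theorem isPGroup_upper (p : ℕ) [Fact p.Prime] [CharP F p] : IsPGroup p (upper F n) := by
  have : Fintype F := Fintype.ofFinite F
  exact AutPSL.isPGroup_uniTri p

theorem isPGroup_lower (p : ℕ) [Fact p.Prime] [CharP F p] : IsPGroup p (lower F n) :=
  (isPGroup_upper p).comap_of_injective _ fun a b h => by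
    rw [← tauHom_tauHom a, h, tauHom_tauHom]

end CfsgLib.SplitBN
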